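import Mathlib

/-!
# Numbers of Sylow subgroups in quotients
-/

set_option autoImplicit false
set_option linter.style.haveILetI false

namespace Cfsg.Agent.H85

variable {G : Type*} [Group G] [Finite G] {p : ℕ} [Fact p.Prime]

theorem comap_normalizer_map_mk (P : Sylow p G) (M : Subgroup G) [M.Normal] :
    (Subgroup.normalizer (((P : Subgroup G).map (QuotientGroup.mk' M) : Subgroup (G ⧸ M)) :
      Set (G ⧸ M))).comap (QuotientGroup.mk' M)
      = Subgroup.normalizer ((P : Subgroup G) : Set G) ⊔ M := by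
  apply le_antisymm
  · intro g hg
    have hle : ((g • P : Sylow p G) : Subgroup G) ≤ (P : Subgroup G) ⊔ M := by
      rw [Sylow.coe_subgroup_smul]
      intro x hx
      obtain ⟨y, hy, rfl⟩ := hx
      have h1 := (Subgroup.mem_normalizer_iff.1 hg (QuotientGroup.mk' M y)).1 ⟨y, hy, rfl⟩
      rw [← map_inv, ← map_mul, ← map_mul] at h1
      have h2 : g * y * g⁻¹ ∈ ((P : Subgroup G).map (QuotientGroup.mk' M)).comap
          (QuotientGroup.mk' M) := h1
      rw [Subgroup.comap_map_eq, QuotientGroup.ker_mk'] at h2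
      exact h2
    obtain ⟨k, hk⟩ := MulAction.exists_smul_eq ↥((P : Subgroup G) ⊔ M) ((g • P).subtype hle)
      (P.subtype le_sup_left)
    rw [Sylow.smul_subtype] at hk
    have h3 := Sylow.subtype_injective hk
    have h4 : (k : G) * g ∈ Subgroup.normalizer ((P : Subgroup G) : Set G) := by
      refine Sylow.smul_eq_iff_mem_normalizer.1 ?_
      rw [mul_smul]
      exact h3
    have h5 : (P : Subgroup G) ⊔ M ≤ Subgroup.normalizer ((P : Subgroup G) : Set G) ⊔ M :=
      sup_le_sup_right Subgroup.le_normalizer _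
    have := mul_mem (inv_mem (h5 k.2)) (Subgroup.mem_sup_left (T := M) h4)
    simpa using this
  · refine sup_le ?_ ?_
    · rw [← Subgroup.map_le_iff_le_comap]
      exact Subgroup.le_normalizer_map _
    · intro m hm
      rw [Subgroup.mem_comap, (QuotientGroup.eq_one_iff m).2 hm |> fun h =>
        (show QuotientGroup.mk' M m = 1 from h)]
      exact one_mem _

theorem card_sylow_quotient (P : Sylow p G) (M : Subgroup G) [M.Normal] :
    Nat.card (Sylow p (G ⧸ M)) = (Subgroup.normalizer ((P : Subgroup G) : Set G) ⊔ M).index := by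
  rw [← comap_normalizer_map_mk P M, Subgroup.index_comap_of_surjective _ (QuotientGroup.mk'_surjective M),
    Sylow.card_eq_index_normalizer (P.mapSurjective (QuotientGroup.mk'_surjective M))]
  rfl

theorem relIndex_sup_normal (H N : Subgroup G) [N.Normal] :
    H.relIndex (H ⊔ N) = H.relIndex N := by
  have h1 := Subgroup.relIndex_mul_relIndex (H ⊓ N) H (H ⊔ N) inf_le_left le_sup_left
  have h2 := Subgroup.relIndex_mul_relIndex (H ⊓ N) N (H ⊔ N) inf_le_right le_sup_right
  rw [Subgroup.inf_relIndex_right, Subgroup.relIndex_sup_right] at h2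
  rw [Subgroup.inf_relIndex_left] at h1
  have hne : N.relIndex H ≠ 0 := Subgroup.FiniteIndex.index_ne_zero
  apply mul_left_cancel₀ hne
  rw [h1, ← h2, mul_comm]

/-- `n(G) n(G/MN) = n(G/M) n(G/N)` for normal subgroups meeting trivially. -/
theorem card_sylow_mul (M N : Subgroup G) [M.Normal] [N.Normal] (hMN : M ⊓ N = ⊥) :
    Nat.card (Sylow p G) * Nat.card (Sylow p (G ⧸ (M ⊔ N))) =
      Nat.card (Sylow p (G ⧸ M)) * Nat.card (Sylow p (G ⧸ N)) := by
  obtain ⟨P⟩ := (inferInstance : Nonempty (Sylow p G))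
  rw [Sylow.card_eq_index_normalizer P, card_sylow_quotient P, card_sylow_quotient P,
    card_sylow_quotient P]
  set L := Subgroup.normalizer ((P : Subgroup G) : Set G) with hL
  have key : (L ⊔ M) ⊓ (L ⊔ N) = L := by
    refine le_antisymm (fun g hg => ?_) (le_inf le_sup_left le_sup_left)
    rw [Subgroup.mem_inf, ← comap_normalizer_map_mk P M, ← comap_normalizer_map_mk P N] at hg
    have hnorm : ∀ (K : Subgroup G) [K.Normal] (a : G),
        QuotientGroup.mk' K a ∈ Subgroup.normalizer (((P : Subgroup G).map (QuotientGroup.mk' K) :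
          Subgroup (G ⧸ K)) : Set (G ⧸ K)) →
        ∀ x ∈ (P : Subgroup G) ⊔ K, a * x * a⁻¹ ∈ (P : Subgroup G) ⊔ K := by
      intro K _ a ha x hx
      have hc : ((P : Subgroup G).map (QuotientGroup.mk' K)).comap (QuotientGroup.mk' K)
          = (P : Subgroup G) ⊔ K := by rw [Subgroup.comap_map_eq, QuotientGroup.ker_mk']
      rw [← hc] at hx ⊢
      rw [Subgroup.mem_comap, map_mul, map_mul, map_inv]
      exact (Subgroup.mem_normalizer_iff.1 ha _).1 hx
    set R := ((P : Subgroup G) ⊔ M) ⊓ ((P : Subgroup G) ⊔ N) with hR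
    have hRp : IsPGroup p R := by
      intro x
      have h1 : ∀ (K : Subgroup G) [K.Normal], (x : G) ∈ (P : Subgroup G) ⊔ K →
          ∃ k, (x : G) ^ p ^ k ∈ K := by
        intro K _ hx
        obtain ⟨y, hy, z, hz, he⟩ := Subgroup.mem_sup_of_normal_right.1 hx
        obtain ⟨k, hk⟩ := P.2 ⟨y, hy⟩
        refine ⟨k, (QuotientGroup.eq_one_iff _).1 ?_⟩
        have hzk : ((z : G) : G ⧸ K) = 1 := (QuotientGroup.eq_one_iff _).2 hz
        rw [QuotientGroup.mk_pow, ← he, QuotientGroup.mk_mul, hzk, mul_one, ← QuotientGroup.mk_pow]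
        rw [show y ^ p ^ k = 1 from congrArg Subtype.val hk]
        rfl
      obtain ⟨k, hk⟩ := h1 M x.2.1
      obtain ⟨l, hl⟩ := h1 N x.2.2
      refine ⟨k + l, Subtype.ext ?_⟩
      have hkl : (x : G) ^ p ^ (k + l) ∈ M ⊓ N := by
        refine Subgroup.mem_inf.2 ⟨?_, ?_⟩
        · rw [pow_add, pow_mul]; exact pow_mem hk _
        · rw [pow_add, mul_comm, pow_mul]; exact pow_mem hl _
      rw [hMN, Subgroup.mem_bot] at hkl
      simpa using hkl
    have hRP : R = (P : Subgroup G) := P.3 hRp (le_inf le_sup_left le_sup_left)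
    refine hL ▸ Sylow.smul_eq_iff_mem_normalizer.1 ?_
    apply Sylow.ext
    refine Subgroup.eq_of_le_of_card_ge ?_ ?_
    · rw [Sylow.coe_subgroup_smul]
      rintro x ⟨y, hy, rfl⟩
      rw [← hRP]
      exact Subgroup.mem_inf.2 ⟨hnorm M g hg.1 y (Subgroup.mem_sup_left hy),
        hnorm N g hg.2 y (Subgroup.mem_sup_left hy)⟩
    · rw [Sylow.coe_subgroup_smul]
      exact (Nat.card_congr (Subgroup.equivSMul (MulAut.conj g) (P : Subgroup G)).toEquiv).le
  have hN : (L ⊔ M).relIndex N = L.relIndex N := by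
    rw [← Subgroup.inf_relIndex_right (L ⊔ M), ← Subgroup.inf_relIndex_right L]
    congr 1
    refine le_antisymm ?_ (inf_le_inf_right N le_sup_left)
    exact le_inf (((inf_le_inf_left (L ⊔ M) (le_sup_right : N ≤ L ⊔ N))).trans key.le) inf_le_right
  have h1 : L.index = L.relIndex N * (L ⊔ N).index := by
    rw [← Subgroup.relIndex_mul_index (le_sup_left : L ≤ L ⊔ N), relIndex_sup_normal]
  have h2 : (L ⊔ M).index = (L ⊔ M).relIndex N * (L ⊔ (M ⊔ N)).index := by
    rw [← sup_assoc, ← Subgroup.relIndex_mul_index (le_sup_left : L ⊔ M ≤ L ⊔ M ⊔ N),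
      relIndex_sup_normal]
  change L.index * _ = _
  rw [h1, h2, hN]
  ring

end Cfsg.Agent.H85
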