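import Mathlib
import Cfsg.Prelude.Def_Transfer
import Cfsg.Prelude.Def_LocalStructure
import Cfsg.Agent.H19.MinimalNormal
import Cfsg.Agent.H85.SylowCount

/-!
# Minimal non-`p`-closed groups
-/

set_option autoImplicit false
set_option linter.style.haveILetI false
set_option linter.unusedSectionVars false

namespace Cfsg.Agent.H85

section Module

set_option maxHeartbeats 1000000 in
/-- An endomorphism `T` with `T ^ p = 1` of a finite abelian group of exponent `q` without proper
invariant subgroup: the group has at most `q ^ e` elements. -/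
theorem card_le_of_irreducible {A : Type*} [AddCommGroup A] [Finite A] {p q : ℕ} [hp : Fact p.Prime]
    [hq : Fact q.Prime] (hpq : q ≠ p) (hA : ∀ a : A, q • a = 0) (T : AddMonoid.End A)
    (hT : T ^ p = 1) (hirr : ∀ B : AddSubgroup A, (∀ b ∈ B, T b ∈ B) → B = ⊥ ∨ B = ⊤) :
    Nat.card A ≤ q ^ orderOf (q : ZMod p) := by
  classical
  set e := orderOf (q : ZMod p) with he
  by_cases hA1 : ∀ a : A, a = 0
  · have : Subsingleton A := ⟨fun a b => (hA1 a).trans (hA1 b).symm⟩
    rw [Nat.card_eq_one_iff_unique.2 ⟨this, ⟨0⟩⟩]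
    exact Nat.one_le_pow _ _ hq.out.pos
  push Not at hA1
  obtain ⟨a, ha⟩ := hA1
  set S := Subring.closure ({T} : Set (AddMonoid.End A)) with hS
  have hqS : (q : S) = 0 := by
    apply Subtype.ext
    rw [Subring.coe_natCast]
    refine DFunLike.ext _ _ fun x => ?_
    exact hA x
  have hcommT : ∀ s ∈ S, Commute s T := fun s hs => by
    induction hs using Subring.closure_induction with
    | mem x hx => rw [Set.mem_singleton_iff.1 hx]
    | zero => exact Commute.zero_left _
    | one => exact Commute.one_left _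
    | add x y _ _ hx hy => exact hx.add_left hy
    | neg x _ hx => exact hx.neg_left
    | mul x y _ _ hx hy => exact hx.mul_left hy
  have hcomm : ∀ s ∈ S, ∀ t ∈ S, Commute s t := fun s hs t ht => by
    induction ht using Subring.closure_induction with
    | mem x hx => rw [Set.mem_singleton_iff.1 hx]; exact hcommT s hs
    | zero => exact Commute.zero_right _
    | one => exact Commute.one_right _
    | add x y _ _ hx hy => exact hx.add_right hy
    | neg x _ hx => exact hx.neg_right
    | mul x y _ _ hx hy => exact hx.mul_right hy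
  letI : CommRing S := { (inferInstance : Ring S) with
    mul_comm := fun s t => Subtype.ext (hcomm s s.2 t t.2) }
  haveI : Nontrivial S := ⟨0, 1, fun h => ha (by
    simpa using (DFunLike.congr_fun (congrArg Subtype.val h) a).symm)⟩
  haveI : CharP S q := (CharP.charP_iff_prime_eq_zero hq.out).2 hqS
  haveI : ExpChar S q := ExpChar.prime hq.out
  have hTe : T ^ q ^ e = T := by
    have h1 : p ∣ q ^ e - 1 := by
      rw [← ZMod.natCast_eq_zero_iff, Nat.cast_sub (Nat.one_le_pow _ _ hq.out.pos), Nat.cast_pow,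
        Nat.cast_one, pow_orderOf_eq_one, sub_self]
    obtain ⟨c, hc⟩ := h1
    rw [show q ^ e = p * c + 1 by have := Nat.one_le_pow e q hq.out.pos; omega, pow_succ, pow_mul,
      hT, one_pow, one_mul]
  set φ := iterateFrobenius S q e with hφ
  have hfix : ∀ s : S, s ^ q ^ e = s := by
    rintro ⟨s, hs⟩
    rw [← iterateFrobenius_def, ← hφ]
    induction hs using Subring.closure_induction with
    | mem x hx =>
      obtain rfl : x = T := hx
      rw [hφ, iterateFrobenius_def]
      exact Subtype.ext (by simpa using hTe)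
    | zero => exact map_zero φ
    | one => exact map_one φ
    | add x y hx' hy' hx hy =>
      rw [show (⟨x + y, add_mem hx' hy'⟩ : S) = ⟨x, hx'⟩ + ⟨y, hy'⟩ from rfl, map_add, hx, hy]
    | neg x hx' hx =>
      rw [show (⟨-x, neg_mem hx'⟩ : S) = -⟨x, hx'⟩ from rfl, map_neg, hx]
    | mul x y hx' hy' hx hy =>
      rw [show (⟨x * y, mul_mem hx' hy'⟩ : S) = ⟨x, hx'⟩ * ⟨y, hy'⟩ from rfl, map_mul, hx, hy]
  have hinj : ∀ s : S, s ≠ 0 → ∀ x : A, (s : AddMonoid.End A) x = 0 → x = 0 := by
    intro s hs x hx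
    set f : A →+ A := (s : AddMonoid.End A) with hf
    rcases hirr f.ker (fun b hb => by
      rw [AddMonoidHom.mem_ker] at hb ⊢
      have := DFunLike.congr_fun (hcommT s s.2).eq b
      change f (T b) = T (f b) at this
      exact this.trans (by rw [hb, map_zero])) with h | h
    · exact (AddSubgroup.mem_bot).1 (h ▸ (AddMonoidHom.mem_ker.2 hx))
    · exact absurd (Subtype.ext (DFunLike.ext _ _ fun y =>
        (AddMonoidHom.mem_ker (f := f)).1 (h ▸ AddSubgroup.mem_top y))) hs
  haveI : NoZeroDivisors S := ⟨fun {s t} hst => or_iff_not_imp_left.2 fun hs =>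
    Subtype.ext (DFunLike.ext _ _ fun y => hinj s hs _
      (DFunLike.congr_fun (congrArg Subtype.val hst) y))⟩
  haveI : IsDomain S := NoZeroDivisors.to_isDomain S
  haveI : Finite (AddMonoid.End A) := Finite.of_injective _ DFunLike.coe_injective
  haveI : Fintype S := Fintype.ofFinite S
  have hS_card : Nat.card S ≤ q ^ e := by
    have hq0 : (q : ZMod p) ≠ 0 := fun h => hpq ((Nat.prime_dvd_prime_iff_eq hp.out hq.out).1
      ((ZMod.natCast_eq_zero_iff _ _).1 h)).symm
    have hgt : 1 < q ^ e := Nat.one_lt_pow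
      (fun h0 => by
        have h1 := ZMod.pow_card_sub_one_eq_one hq0
        exact absurd (Nat.eq_zero_of_zero_dvd (h0 ▸ orderOf_dvd_of_pow_eq_one h1 : 0 ∣ p - 1))
          (by have := hp.out.one_lt; omega)) hq.out.one_lt
    have hdeg : (Polynomial.X ^ q ^ e - Polynomial.X : Polynomial S).natDegree = q ^ e := by
      rw [Polynomial.natDegree_sub_eq_left_of_natDegree_lt] <;> simp [hgt]
    have h0 : (Polynomial.X ^ q ^ e - Polynomial.X : Polynomial S) ≠ 0 := fun h => by
      rw [h, Polynomial.natDegree_zero] at hdeg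
      omega
    have hsub : ∀ s : S, s ∈ (Polynomial.X ^ q ^ e - Polynomial.X : Polynomial S).roots := fun s => by
      rw [Polynomial.mem_roots h0, Polynomial.IsRoot]
      simp [hfix s]
    rw [Nat.card_eq_fintype_card, ← hdeg]
    exact (Finset.card_le_card (fun s _ => Multiset.mem_toFinset.2 (hsub s))).trans
      ((Multiset.toFinset_card_le _).trans (Polynomial.card_roots' _))
  let ev : S →+ A :=
    { toFun := fun s => (s : AddMonoid.End A) a
      map_zero' := rfl
      map_add' := fun _ _ => rfl }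
  have hsurj : Function.Surjective ev := by
    rcases hirr ev.range (fun b hb => by
      obtain ⟨s, rfl⟩ := hb
      exact ⟨⟨T, Subring.subset_closure rfl⟩ * s, rfl⟩) with h | h
    · exact absurd (AddSubgroup.mem_bot.1 (h ▸ (⟨1, rfl⟩ : a ∈ ev.range))) ha
    · exact AddMonoidHom.range_eq_top.1 h
  exact (Nat.card_le_card_of_surjective ev hsurj).trans hS_card

end Module

section Group

variable {G : Type*} [Group G] [Finite G] {p q : ℕ} [hp : Fact p.Prime]

theorem isPClosed_of_comm (h : ∀ a b : G, a * b = b * a) : Cfsg.IsPClosed p G :=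
  fun P => ⟨fun n hn g => by rwa [h g n, mul_inv_cancel_right]⟩

theorem isPClosed_of_card_dvd (h : Nat.card G ∣ p) : Cfsg.IsPClosed p G := by
  rcases (Nat.dvd_prime hp.out).1 h with h1 | h1
  · exact isPClosed_of_comm fun a b => (Nat.card_eq_one_iff_unique.1 h1).1.elim _ _
  · haveI := isCyclic_of_prime_card h1
    exact isPClosed_of_comm fun a b => (IsCyclic.isMulCommutative (α := G)).is_comm.comm a b

/-- The minimal normal elementary abelian subgroup of index `p` of a non-abelian group. -/
theorem minimal_index_prime (hq : q.Prime) (hpq : q ≠ p) (hna : ¬ IsMulCommutative G)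
    (A : Subgroup G) [A.Normal] (hA : Cfsg.IsElementaryAbelian q A) (hidx : A.index = p)
    (hmin : ∀ B : Subgroup G, B.Normal → B ≤ A → B = ⊥ ∨ B = A) :
    Nat.card A = q ^ orderOf (q : ZMod p) ∧ ¬ Cfsg.IsPClosed p G ∧
      (∀ H : Subgroup G, H ≠ ⊤ → Cfsg.IsPClosed p H) ∧
      ∀ (N : Subgroup G) [N.Normal], N ≠ ⊥ → Cfsg.IsPClosed p (G ⧸ N) := by
  haveI : Fact q.Prime := ⟨hq⟩
  haveI := hA.1
  have hAq : IsPGroup q A := fun a => ⟨1, Subtype.ext (by simpa using hA.2 a a.2)⟩
  obtain ⟨k, hk⟩ := IsPGroup.iff_card.1 hAq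
  have hcardG : Nat.card G = q ^ k * p := by rw [← hk, ← hidx, Subgroup.card_mul_index]
  have hcop : Nat.Coprime (q ^ k) p := ((Nat.coprime_primes hq hp.out).2 hpq).pow_left k
  have hAne : A ≠ ⊥ := by
    intro h
    subst h
    rw [Subgroup.index_bot] at hidx
    haveI := isCyclic_of_prime_card hidx
    exact hna IsCyclic.isMulCommutative
  have hdisj : ∀ y : G, orderOf y = p → y ∉ A := by
    intro y hy hyA
    have h1 : p ∣ q ^ k := by
      rw [← hy, ← hk, ← Subgroup.orderOf_mk y hyA]; exact orderOf_dvd_natCard _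
    exact hp.out.one_lt.ne' (Nat.eq_one_of_dvd_coprimes hcop h1 dvd_rfl)
  -- a subgroup of `A` invariant under an element of order `p` is normal
  have hnorm : ∀ y : G, orderOf y = p → ∀ B : Subgroup G, B ≤ A →
      (∀ b ∈ B, y * b * y⁻¹ ∈ B) → B.Normal := by
    intro y hy B hBA hB
    have h1 : A ⊔ Subgroup.zpowers y ≤ Subgroup.normalizer (B : Set G) := by
      refine sup_le (fun a ha => ?_) (Subgroup.zpowers_le.2 ?_)
      · rw [Subgroup.mem_normalizer_iff]
        intro b
        constructor <;> intro hb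
        · rwa [show a * b * a⁻¹ = b by
            rw [show a * b = b * a from congrArg Subtype.val (hA.1.is_comm.comm ⟨a, ha⟩ ⟨b, hBA hb⟩),
              mul_inv_cancel_right]]
        · have hc : a * (a * b * a⁻¹) = a * b * a⁻¹ * a :=
            congrArg Subtype.val (hA.1.is_comm.comm ⟨a, ha⟩ ⟨_, hBA hb⟩)
          rw [show b = a * b * a⁻¹ by
            calc b = a⁻¹ * (a * b * a⁻¹ * a) := by group
              _ = a⁻¹ * (a * (a * b * a⁻¹)) := by rw [hc]
              _ = a * b * a⁻¹ := by group]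
          exact hb
      · have he : B.map (MulAut.conj y).toMonoidHom = B := Subgroup.eq_of_le_of_card_ge
          (fun b hb => by obtain ⟨c, hc, rfl⟩ := hb; exact hB c hc)
          (Nat.card_congr (B.equivMapOfInjective _ (MulAut.conj y).injective).toEquiv).le
        rw [Subgroup.mem_normalizer_iff]
        refine fun b => ⟨fun hb => hB b hb, fun hb => ?_⟩
        obtain ⟨c, hc, hcb⟩ : y * b * y⁻¹ ∈ B.map (MulAut.conj y).toMonoidHom := he.symm ▸ hb
        exact (MulAut.conj y).injective (hcb : MulAut.conj y c = MulAut.conj y b) ▸ hc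
    have h2 : A ⊔ Subgroup.zpowers y = ⊤ := by
      have hle : A < A ⊔ Subgroup.zpowers y := lt_of_le_of_ne le_sup_left fun h =>
        hdisj y hy (h ▸ Subgroup.mem_sup_right (Subgroup.mem_zpowers y))
      rw [← Subgroup.index_eq_one]
      have hd := Subgroup.index_dvd_of_le hle.le
      rw [hidx] at hd
      refine ((Nat.dvd_prime hp.out).1 hd).resolve_right fun he => ?_
      exact absurd (Subgroup.index_strictAnti hle) (by rw [hidx, he]; exact lt_irrefl p)
    exact Subgroup.normalizer_eq_top_iff.1 (top_le_iff.1 (h2 ▸ h1))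
  -- no nontrivial fixed points
  have hfix : ∀ y : G, orderOf y = p → ∀ a ∈ A, y * a = a * y → a = 1 := by
    intro y hy a ha hya
    set C := A ⊓ Subgroup.centralizer ({y} : Set G) with hC
    have hCn : C.Normal := hnorm y hy C inf_le_left fun b hb => by
      rwa [← Subgroup.mem_centralizer_singleton_iff.1 hb.2, mul_inv_cancel_right]
    rcases hmin C hCn inf_le_left with h | h
    · exact Subgroup.mem_bot.1 (h ▸ Subgroup.mem_inf.2
        ⟨ha, Subgroup.mem_centralizer_singleton_iff.2 hya.symm⟩)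
    · exfalso
      apply hna
      have hAC : A ≤ Subgroup.centralizer ({y} : Set G) := inf_eq_left.1 h
      have htop : A ⊔ Subgroup.zpowers y = ⊤ := by
        have hle : A < A ⊔ Subgroup.zpowers y := lt_of_le_of_ne le_sup_left fun h =>
          hdisj y hy (h ▸ Subgroup.mem_sup_right (Subgroup.mem_zpowers y))
        rw [← Subgroup.index_eq_one]
        have hd := Subgroup.index_dvd_of_le hle.le
        rw [hidx] at hd
        refine ((Nat.dvd_prime hp.out).1 hd).resolve_right fun he => ?_
        exact absurd (Subgroup.index_strictAnti hle) (by rw [hidx, he]; exact lt_irrefl p)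
      have hclos : Subgroup.closure ((A : Set G) ∪ {y}) = ⊤ := by
        rw [Subgroup.closure_union, Subgroup.closure_eq, ← Subgroup.zpowers_eq_closure, htop]
      have hcomm : IsMulCommutative (⊤ : Subgroup G) := hclos ▸ Subgroup.isMulCommutative_closure (by
        rintro u (hu | rfl) v (hv | rfl)
        · exact congrArg Subtype.val (hA.1.is_comm.comm ⟨u, hu⟩ ⟨v, hv⟩)
        · exact Subgroup.mem_centralizer_singleton_iff.1 (hAC hu)
        · exact (Subgroup.mem_centralizer_singleton_iff.1 (hAC hv)).symm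
        · rfl)
      exact ⟨⟨fun u v => congrArg Subtype.val
        (hcomm.is_comm.comm ⟨u, Subgroup.mem_top u⟩ ⟨v, Subgroup.mem_top v⟩)⟩⟩
  obtain ⟨x, hx⟩ := exists_prime_orderOf_dvd_card' (G := G) p (hcardG ▸ dvd_mul_left p _)
  have hpdvd : p ∣ Nat.card G := hcardG ▸ dvd_mul_left p _
  -- the Sylow subgroups are not normal
  have hN : ∀ P : Sylow p G,
      A ⊓ Subgroup.normalizer ((P : Subgroup G) : Set G) = ⊥ := by
    intro P
    obtain ⟨⟨y, hyP⟩, hy⟩ := exists_prime_orderOf_dvd_card' (G := (P : Subgroup G)) p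
      (P.dvd_card_of_dvd_card hpdvd)
    rw [Subgroup.orderOf_mk] at hy
    refine (Subgroup.eq_bot_iff_forall _).2 fun a ha => hfix y hy a ha.1 ?_
    have h1 : a * y * a⁻¹ * y⁻¹ ∈ A ⊓ (P : Subgroup G) := by
      refine Subgroup.mem_inf.2 ⟨?_, mul_mem ((Subgroup.mem_normalizer_iff.1 ha.2 y).1 hyP)
        (inv_mem hyP)⟩
      rw [show a * y * a⁻¹ * y⁻¹ = a * (y * a⁻¹ * y⁻¹) by group]
      exact mul_mem ha.1 ((inferInstance : A.Normal).conj_mem _ (inv_mem ha.1) y)
    obtain ⟨l, hl⟩ := IsPGroup.iff_card.1 P.2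
    have hbot : A ⊓ (P : Subgroup G) = ⊥ := by
      apply Subgroup.inf_eq_bot_of_coprime
      rw [hk, hl]
      exact (((Nat.coprime_primes hq hp.out).2 hpq).pow_left k).pow_right l
    rw [hbot, Subgroup.mem_bot, mul_inv_eq_one, mul_inv_eq_iff_eq_mul] at h1
    exact h1.symm
  have hnc : ¬ Cfsg.IsPClosed p G := by
    intro h
    obtain ⟨P⟩ := (inferInstance : Nonempty (Sylow p G))
    have := hN P
    rw [Subgroup.normalizer_eq_top_iff.2 (h P), inf_top_eq] at this
    exact hAne this
  refine ⟨?_, hnc, fun H hH => ?_, fun N _ hN' => ?_⟩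
  · obtain ⟨P⟩ := (inferInstance : Nonempty (Sylow p G))
    set L := Subgroup.normalizer ((P : Subgroup G) : Set G) with hL
    have hLdvd : Nat.card L ∣ p := by
      rw [← hidx, ← Subgroup.relIndex_bot_left L]
      have h1 : A.relIndex L = (⊥ : Subgroup G).relIndex L := by
        rw [← hN P, Subgroup.inf_relIndex_right]
      rw [← h1]
      exact Subgroup.relIndex_dvd_index_of_normal A L
    have hLcard : Nat.card L = p := ((Nat.dvd_prime hp.out).1 hLdvd).resolve_left fun h1 =>
      hp.out.not_dvd_one (h1 ▸ (P.dvd_card_of_dvd_card hpdvd).trans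
        (Subgroup.card_dvd_of_le Subgroup.le_normalizer))
    have hns : Nat.card (Sylow p G) = q ^ k := by
      rw [Sylow.card_eq_index_normalizer P]
      have := Subgroup.card_mul_index L
      rw [hLcard, hcardG, mul_comm] at this
      exact Nat.eq_of_mul_eq_mul_right hp.out.pos this
    have h1 : (q : ZMod p) ^ k = 1 := by
      have h2 := card_sylow_modEq_one p G
      rw [hns, ← ZMod.natCast_eq_natCast_iff, Nat.cast_pow, Nat.cast_one] at h2
      exact h2
    have he : orderOf (q : ZMod p) ∣ k := orderOf_dvd_of_pow_eq_one h1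
    have hk0 : 0 < k := Nat.pos_of_ne_zero fun h0 =>
      hAne (Subgroup.card_eq_one.1 (by rw [hk, h0, pow_zero]))
    letI : CommGroup A := { (inferInstance : Group A) with mul_comm := hA.1.is_comm.comm }
    let T : AddMonoid.End (Additive A) :=
      (MulAut.conjNormal x : A ≃* A).toMonoidHom.toAdditive
    have hTpow : ∀ (i : ℕ) (a : Additive A),
        ((Additive.toMul ((T ^ i) a) : A) : G) = x ^ i * (Additive.toMul a : A) * (x ^ i)⁻¹ := by
      intro i
      induction i with
      | zero => intro a; simp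
      | succ i ih =>
        intro a
        rw [pow_succ' T, pow_succ' x, mul_inv_rev]
        show ((MulAut.conjNormal x (Additive.toMul ((T ^ i) a)) : A) : G) = _
        rw [MulAut.conjNormal_apply, ih]
        group
    have hle := card_le_of_irreducible (A := Additive A) (p := p) (q := q) hpq
      (fun a => Additive.toMul.injective (Subtype.ext (by
        rw [toMul_nsmul, toMul_zero, OneMemClass.coe_one, SubmonoidClass.coe_pow]
        exact hA.2 _ (Additive.toMul a).2)))
      T (DFunLike.ext _ _ fun a => Additive.toMul.injective (Subtype.ext (by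
        rw [hTpow, ← hx, pow_orderOf_eq_one, one_mul, inv_one, mul_one]; rfl)))
      (fun B hB => by
        set B' : Subgroup G := (AddSubgroup.toSubgroup' B).map A.subtype with hB'
        have hn : B'.Normal := hnorm x hx B' (Subgroup.map_subtype_le _) fun b hb => by
          obtain ⟨c, hc, rfl⟩ := hb
          refine ⟨MulAut.conjNormal x c, hB _ hc, ?_⟩
          simp [MulAut.conjNormal_apply]
        rcases hmin B' hn (Subgroup.map_subtype_le _) with h | h
        · left
          rw [hB', Subgroup.map_eq_bot_iff_of_injective _ A.subtype_injective] at h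
          exact AddSubgroup.toSubgroup'.injective (h.trans (map_bot AddSubgroup.toSubgroup').symm)
        · right
          have h' : (AddSubgroup.toSubgroup' B) = ⊤ := Subgroup.map_injective A.subtype_injective
            (by rw [← hB', h, ← MonoidHom.range_eq_map, Subgroup.range_subtype])
          exact AddSubgroup.toSubgroup'.injective (h'.trans (map_top AddSubgroup.toSubgroup').symm))
    rw [show Nat.card (Additive A) = Nat.card A from rfl, hk] at hle
    rw [hk]
    refine le_antisymm hle (Nat.pow_le_pow_right hq.pos (Nat.le_of_dvd hk0 he))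
  · by_cases hdvd : p ∣ Nat.card H
    · obtain ⟨⟨y, hyH⟩, hy⟩ := exists_prime_orderOf_dvd_card' (G := H) p hdvd
      rw [Subgroup.orderOf_mk] at hy
      have hn : (A ⊓ H).Normal := hnorm y hy _ inf_le_left fun b hb => Subgroup.mem_inf.2
        ⟨(inferInstance : A.Normal).conj_mem b hb.1 y, mul_mem (mul_mem hyH hb.2) (inv_mem hyH)⟩
      rcases hmin _ hn inf_le_left with h | h
      · refine isPClosed_of_card_dvd ?_
        rw [← hidx, ← Subgroup.relIndex_bot_left H, ← h, Subgroup.inf_relIndex_right]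
        exact Subgroup.relIndex_dvd_index_of_normal A H
      · exfalso
        have hle : A < H := lt_of_le_of_ne (inf_eq_left.1 h) fun e => hdisj y hy (e ▸ hyH)
        apply hH
        rw [← Subgroup.index_eq_one]
        have hd := Subgroup.index_dvd_of_le hle.le
        rw [hidx] at hd
        refine ((Nat.dvd_prime hp.out).1 hd).resolve_right fun he => ?_
        exact absurd (Subgroup.index_strictAnti hle) (by rw [hidx, he]; exact lt_irrefl p)
    · intro P
      obtain ⟨l, hl⟩ := IsPGroup.iff_card.1 P.2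
      rcases l with _ | l
      · rw [Subgroup.card_eq_one.1 (hl.trans (pow_zero p))]; infer_instance
      · exact absurd ((hl ▸ dvd_pow_self p l.succ_ne_zero).trans
          (Subgroup.card_subgroup_dvd_card _)) hdvd
  · rcases hmin (A ⊓ N) inferInstance inf_le_left with h | h
    · exfalso
      have hdN : Nat.card N ∣ p := by
        rw [← hidx, ← Subgroup.relIndex_bot_left N, ← h, Subgroup.inf_relIndex_right]
        exact Subgroup.relIndex_dvd_index_of_normal A N
      have hNp : Nat.card N = p := ((Nat.dvd_prime hp.out).1 hdN).resolve_left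
        fun h1 => hN' (Subgroup.card_eq_one.1 h1)
      obtain ⟨⟨y, hyN⟩, hy⟩ := exists_prime_orderOf_dvd_card' (G := N) p (dvd_of_eq hNp.symm)
      rw [Subgroup.orderOf_mk] at hy
      exact hAne ((Subgroup.eq_bot_iff_forall _).2 fun a ha => hfix y hy a ha
        (Subgroup.commute_of_normal_of_disjoint N A inferInstance inferInstance
          (disjoint_iff.2 (by rw [inf_comm]; exact h)) y a hyN ha).eq)
    · refine isPClosed_of_card_dvd ?_
      rw [← Subgroup.index_eq_card, ← hidx]
      exact Subgroup.index_dvd_of_le (inf_eq_left.1 h)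

/-- A normal Sylow subgroup of a normal-enough subgroup is normalised by it. -/
theorem le_normalizer_of_isPClosed (P : Sylow p G) {H : Subgroup G} (hPH : (P : Subgroup G) ≤ H)
    (hH : Cfsg.IsPClosed p H) : H ≤ Subgroup.normalizer ((P : Subgroup G) : Set G) := by
  have := hH (P.subtype hPH)
  rw [Sylow.coe_subtype] at this
  exact (Subgroup.normal_subgroupOf_iff_le_normalizer hPH).1 this

theorem normal_of_map_normal (P : Sylow p G) (N : Subgroup G) [N.Normal]
    (h : Cfsg.IsPClosed p (G ⧸ N)) : ((P : Subgroup G) ⊔ N).Normal := by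
  have h1 := (h (P.mapSurjective (QuotientGroup.mk'_surjective N))).comap (QuotientGroup.mk' N)
  change (((P : Subgroup G).map (QuotientGroup.mk' N)).comap (QuotientGroup.mk' N)).Normal at h1
  rwa [Subgroup.comap_map_eq, QuotientGroup.ker_mk'] at h1

/-- Structure of the non-simple minimal non-`p`-closed groups. -/
theorem nonsimple_structure (hnc : ¬ Cfsg.IsPClosed p G)
    (hsub : ∀ H : Subgroup G, H ≠ ⊤ → Cfsg.IsPClosed p H)
    (hquo : ∀ (N : Subgroup G) [N.Normal], N ≠ ⊥ → Cfsg.IsPClosed p (G ⧸ N))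
    (hns : ¬ IsSimpleGroup G) :
    ∃ q : ℕ, q.Prime ∧ q ≠ p ∧ Nat.card G = p * q ^ orderOf (q : ZMod p) ∧
      ∃ A : Subgroup G, A.Normal ∧ Nat.card A = q ^ orderOf (q : ZMod p) ∧
        Cfsg.IsElementaryAbelian q A ∧ ∀ B : Subgroup G, B.Normal → B ≤ A → B = ⊥ ∨ B = A := by
  have hnn : ∀ P : Sylow p G, ¬ (P : Subgroup G).Normal := fun P hP => hnc fun Q => by
    haveI := Sylow.unique_of_normal P hP
    rwa [Subsingleton.elim Q P]
  obtain ⟨P₀⟩ := (inferInstance : Nonempty (Sylow p G))
  haveI : Nontrivial G := by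
    rcases subsingleton_or_nontrivial G with h | h
    · exact absurd (isPClosed_of_comm fun a b => Subsingleton.elim _ _) hnc
    · exact h
  obtain ⟨M, hM, hMbot, hMtop⟩ : ∃ M : Subgroup G, M.Normal ∧ M ≠ ⊥ ∧ M ≠ ⊤ := by
    by_contra hall
    push Not at hall
    exact hns ⟨fun M hM => or_iff_not_imp_left.2 (hall M hM)⟩
  obtain ⟨N, hN, hNbot, hNM, hmin⟩ := Cfsg.Agent.H19.exists_minimalNormal_le M hMbot
  have hNtop : N ≠ ⊤ := fun h => hMtop (top_le_iff.1 (h ▸ hNM))
  have htop : ∀ P : Sylow p G, (P : Subgroup G) ⊔ N = ⊤ := by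
    intro P
    by_contra hne
    haveI := normal_of_map_normal P N (hquo N hNbot)
    have h2 := Sylow.normalizer_sup_eq_top' (N := (P : Subgroup G) ⊔ N) P le_sup_left
    have h3 : (P : Subgroup G) ⊔ N ≤ Subgroup.normalizer ((P : Subgroup G) : Set G) :=
      le_normalizer_of_isPClosed P le_sup_left (hsub _ hne)
    exact hnn P (Subgroup.normalizer_eq_top_iff.1 ((sup_eq_left.2 h3).symm.trans h2))
  have hpN : ¬ p ∣ Nat.card N := by
    intro hd
    obtain ⟨Q⟩ := (inferInstance : Nonempty (Sylow p N))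
    have hQn : (Q : Subgroup N).Normal := hsub N hNtop Q
    set Q' := (Q : Subgroup N).map N.subtype with hQ'
    have hle : N ≤ Subgroup.normalizer (Q' : Set G) := by
      rw [← Subgroup.normal_subgroupOf_iff_le_normalizer (Subgroup.map_subtype_le _),
        Subgroup.subgroupOf, Subgroup.comap_map_eq_self_of_injective N.subtype_injective]
      exact hQn
    have h2 := Sylow.normalizer_sup_eq_top Q
    have hQ'n : Q'.Normal :=
      Subgroup.normalizer_eq_top_iff.1 ((sup_eq_left.2 hle).symm.trans h2)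
    rcases hmin Q' hQ'n (Subgroup.map_subtype_le _) with h | h
    · exact Q.ne_bot_of_dvd_card hd ((Subgroup.map_eq_bot_iff_of_injective _ N.subtype_injective).1 h)
    · have hp' : IsPGroup p N := h ▸ (Q.2.map N.subtype)
      refine hnn P₀ ?_
      have hPN : N ≤ (P₀ : Subgroup G) := by
        have h3 := P₀.3 (P₀.2.to_sup_of_normal_right hp') le_sup_left
        rw [← h3]; exact le_sup_right
      have h3 := htop P₀
      rw [sup_eq_left.2 hPN] at h3
      rw [h3]; infer_instance
  have hbotNP : ∀ P : Sylow p G, N ⊓ (P : Subgroup G) = ⊥ := by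
    intro P
    obtain ⟨l, hl⟩ := IsPGroup.iff_card.1 P.2
    refine disjoint_iff.1 (Subgroup.disjoint_of_coprime_natCard ?_)
    rw [hl]
    exact ((hp.out.coprime_iff_not_dvd.2 hpN).symm).pow_right l
  -- a prime `q` whose Sylow subgroup of `N` is normal in `G`
  obtain ⟨q, hq, hqN⟩ : ∃ q, q.Prime ∧ IsPGroup q N := by
    by_contra hall
    push Not at hall
    refine hnn P₀ (Subgroup.normalizer_eq_top_iff.1 (Subgroup.index_eq_one.1 ?_))
    by_contra hne
    obtain ⟨q, hq, hqd⟩ := Nat.exists_prime_and_dvd hne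
    haveI := Fact.mk hq
    obtain ⟨Q⟩ := (inferInstance : Nonempty (Sylow q N))
    set Q' := (Q : Subgroup N).map N.subtype with hQ'
    set H := Subgroup.normalizer (Q' : Set G) with hH
    have h2 : H ⊔ N = ⊤ := Sylow.normalizer_sup_eq_top Q
    by_cases hHtop : H = ⊤
    · rcases hmin Q' (Subgroup.normalizer_eq_top_iff.1 hHtop) (Subgroup.map_subtype_le _) with h | h
      · have hqN : ¬ q ∣ Nat.card N := fun hd => Q.ne_bot_of_dvd_card hd
          ((Subgroup.map_eq_bot_iff_of_injective _ N.subtype_injective).1 h)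
        apply hqN
        refine hqd.trans ?_
        have hdv : (Subgroup.normalizer ((P₀ : Subgroup G) : Set G)).index ∣ (P₀ : Subgroup G).index :=
          Subgroup.index_dvd_of_le Subgroup.le_normalizer
        refine hdv.trans ?_
        rw [← Subgroup.relIndex_top_right, ← htop P₀, relIndex_sup_normal]
        exact Subgroup.relIndex_dvd_card _ _
      · exact hall q hq (h ▸ Q.2.map N.subtype)
    have hHidx : ¬ p ∣ H.index := fun hd => hpN (hd.trans (by
      rw [← Subgroup.relIndex_top_right, ← h2, relIndex_sup_normal]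
      exact Subgroup.relIndex_dvd_card _ _))
    obtain ⟨S⟩ := (inferInstance : Nonempty (Sylow p H))
    set P : Sylow p G := (S.2.map H.subtype).toSylow (by
      rw [Subgroup.index_map_subtype]
      exact hp.out.not_dvd_mul S.not_dvd_index hHidx) with hP
    have hPH : (P : Subgroup G) ≤ H := Subgroup.map_subtype_le _
    have hHN := le_normalizer_of_isPClosed P hPH (hsub H hHtop)
    have e : (Subgroup.normalizer ((P₀ : Subgroup G) : Set G)).index =
        (Subgroup.normalizer ((P : Subgroup G) : Set G)).index :=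
      (Sylow.card_eq_index_normalizer P₀).symm.trans (Sylow.card_eq_index_normalizer P)
    rw [e] at hqd
    set L := Subgroup.normalizer ((P : Subgroup G) : Set G) with hL
    have hLN : L.index = L.relIndex N := by
      have h3 : L ⊔ N = ⊤ := top_le_iff.1 ((htop P).ge.trans (sup_le_sup_right Subgroup.le_normalizer _))
      rw [← Subgroup.relIndex_top_right, ← h3, relIndex_sup_normal]
    rw [hLN] at hqd
    apply Q.not_dvd_index
    refine hqd.trans ?_
    rw [Subgroup.relIndex]
    refine Subgroup.index_dvd_of_le fun x hx => ?_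
    exact (Subgroup.le_normalizer.trans hHN) (⟨x, hx, rfl⟩ : (x : G) ∈ Q')
  haveI := Fact.mk hq
  have hqp : q ≠ p := by
    rintro rfl
    obtain ⟨k, hk⟩ := IsPGroup.iff_card.1 hqN
    rcases k with _ | k
    · exact hNbot (Subgroup.card_eq_one.1 (hk.trans (pow_zero q)))
    · exact hpN (hk ▸ dvd_pow_self q k.succ_ne_zero)
  haveI := hqN.isNilpotent
  obtain ⟨hNc, q', hq', hq'N, hpow⟩ :=
    Cfsg.Agent.H19.minimalNormal_elementary N inferInstance hNbot hmin
  obtain rfl : q = q' := by
    obtain ⟨k, hk⟩ := IsPGroup.iff_card.1 hqN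
    haveI := Fact.mk hq'
    obtain ⟨k', hk'⟩ := IsPGroup.iff_card.1 hq'N
    rcases k with _ | k
    · exact absurd (Subgroup.card_eq_one.1 (hk.trans (pow_zero q))) hNbot
    · exact Eq.symm <| (Nat.prime_dvd_prime_iff_eq hq' hq).1 (hq'.dvd_of_dvd_pow (n := k + 1) (by
        rw [← hk, hk']
        rcases k' with _ | k'
        · exact absurd (Subgroup.card_eq_one.1 (hk'.trans (pow_zero q'))) hNbot
        · exact dvd_pow_self q' k'.succ_ne_zero))
  -- the Sylow subgroup has order `p`
  have hidxN : N.index = Nat.card (P₀ : Subgroup G) := by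
    rw [← Subgroup.relIndex_top_right, ← htop P₀, Subgroup.relIndex_sup_right,
      ← Subgroup.inf_relIndex_right, hbotNP P₀, Subgroup.relIndex_bot_left]
  have hPne : (P₀ : Subgroup G) ≠ ⊥ := fun h => hnn P₀ (h ▸ inferInstance)
  haveI : Nontrivial (P₀ : Subgroup G) := (Subgroup.nontrivial_iff_ne_bot _).2 hPne
  have hPp : Nat.card (P₀ : Subgroup G) = p := by
    haveI := P₀.2.center_nontrivial
    obtain ⟨l, hl, hlc⟩ :=
      (P₀.2.to_subgroup (Subgroup.center (P₀ : Subgroup G))).nontrivial_iff_card.1 inferInstance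
    obtain ⟨z, hz⟩ := exists_prime_orderOf_dvd_card' (G := Subgroup.center (P₀ : Subgroup G)) p
      (hlc ▸ dvd_pow_self p hl.ne')
    rw [← Subgroup.orderOf_coe] at hz
    by_contra hPne'
    set Z := Subgroup.zpowers ((z : (P₀ : Subgroup G)) : G) with hZ
    have hZc : Nat.card Z = p := by rw [Nat.card_zpowers, Subgroup.orderOf_coe, hz]
    have hZP : Z ≤ (P₀ : Subgroup G) := Subgroup.zpowers_le.2 (z : (P₀ : Subgroup G)).2
    have hZN : Z ⊔ N ≠ ⊤ := by
      intro h
      apply hPne'
      have h1 : N.index ∣ p := by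
        rw [← Subgroup.relIndex_top_right, ← h, Subgroup.relIndex_sup_right, ← hZc]
        exact Subgroup.relIndex_dvd_card _ _
      rw [hidxN] at h1
      exact ((Nat.dvd_prime hp.out).1 h1).resolve_left fun h2 => hPne (Subgroup.card_eq_one.1 h2)
    have hZp : IsPGroup p Z := IsPGroup.of_card (n := 1) (by rw [hZc, pow_one])
    have hS : IsPGroup p (Z.subgroupOf (Z ⊔ N)) :=
      hZp.of_equiv (Subgroup.subgroupOfEquivOfLe le_sup_left).symm
    have hidx' : ¬ p ∣ (Z.subgroupOf (Z ⊔ N)).index := by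
      show ¬ p ∣ Z.relIndex (Z ⊔ N)
      rw [relIndex_sup_normal]
      exact fun hd => hpN (hd.trans (Subgroup.relIndex_dvd_card _ _))
    have hZn1 : Z ⊔ N ≤ Subgroup.normalizer (Z : Set G) :=
      (Subgroup.normal_subgroupOf_iff_le_normalizer le_sup_left).1
        (hsub _ hZN (hS.toSylow hidx'))
    have hPZ : (P₀ : Subgroup G) ≤ Subgroup.normalizer (Z : Set G) := by
      intro a ha
      have hc : Commute a ((z : (P₀ : Subgroup G)) : G) := congrArg Subtype.val
        (Subgroup.mem_center_iff.1 z.2 ⟨a, ha⟩)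
      refine (Subgroup.centralizer_le_normalizer _) ?_
      rw [Subgroup.mem_centralizer_iff]
      intro b hb
      obtain ⟨i, rfl⟩ := hb
      exact ((hc.zpow_right i).eq).symm
    have hZnorm : Z.Normal := Subgroup.normalizer_eq_top_iff.1
      (top_le_iff.1 ((htop P₀).ge.trans (sup_le hPZ (le_sup_right.trans hZn1))))
    have h3 := normal_of_map_normal P₀ Z (hquo Z fun h => by
      rw [h, Subgroup.card_bot] at hZc; exact hp.out.one_lt.ne hZc)
    rw [sup_eq_left.2 hZP] at h3
    exact hnn P₀ h3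
  rw [hPp] at hidxN
  have hna : ¬ IsMulCommutative G := fun h => hnc (isPClosed_of_comm h.is_comm.comm)
  obtain ⟨hcard, -⟩ := minimal_index_prime (q := q) hq hqp hna N ⟨hNc, hpow⟩ hidxN hmin
  exact ⟨q, hq, hqp, by rw [← Subgroup.card_mul_index N, hidxN, hcard, mul_comm], N, hN, hcard,
    ⟨hNc, hpow⟩, hmin⟩

/-- In a group whose `p`-elements have order dividing `p` and form a subgroup, the Sylow subgroups
are normal. -/
theorem isPClosed_of_omega {K : Type*} [Group K] [Finite K]
    (hexp : ∀ P : Sylow p K, ∀ x ∈ (P : Subgroup K), x ^ p = 1)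
    (W : Subgroup K) (hW : (W : Set K) = {g | g ^ p = 1}) : Cfsg.IsPClosed p K := by
  intro P
  have hWp : IsPGroup p W := fun x => ⟨1, Subtype.ext (by
    rw [pow_one, Subgroup.coe_pow, OneMemClass.coe_one]
    exact (Set.ext_iff.1 hW x).1 x.2)⟩
  have he : W = (P : Subgroup K) :=
    P.3 hWp fun x hx => (Set.ext_iff.1 hW x).2 (hexp P x hx)
  refine ⟨fun n hn g => ?_⟩
  rw [← he] at hn ⊢
  refine (Set.ext_iff.1 hW _).2 ?_
  show (g * n * g⁻¹) ^ p = 1
  rw [conj_pow, (Set.ext_iff.1 hW n).1 hn, mul_one, mul_inv_cancel]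

/-- A minimal non-`p`-exponent-closed group, neither simple nor a `p`-group, is minimal
non-`p`-closed. -/
theorem omega_minimal
    (hnc : ¬ ∃ H : Subgroup G, (H : Set G) = {g : G | g ^ p = 1})
    (hsub : ∀ K : Subgroup G, K ≠ ⊤ → ∃ H : Subgroup K, (H : Set K) = {g : K | g ^ p = 1})
    (hquo : ∀ (N : Subgroup G) [N.Normal], N ≠ ⊥ →
      ∃ H : Subgroup (G ⧸ N), (H : Set (G ⧸ N)) = {g : G ⧸ N | g ^ p = 1})
    (hns : ¬ IsSimpleGroup G) (hnp : ¬ IsPGroup p G) :
    ¬ Cfsg.IsPClosed p G ∧ (∀ H : Subgroup G, H ≠ ⊤ → Cfsg.IsPClosed p H) ∧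
      ∀ (N : Subgroup G) [N.Normal], N ≠ ⊥ → Cfsg.IsPClosed p (G ⧸ N) := by
  haveI : Nontrivial G := by
    rcases subsingleton_or_nontrivial G with h | h
    · exact absurd (fun g => ⟨0, Subsingleton.elim _ _⟩ : IsPGroup p G) hnp
    · exact h
  obtain ⟨M, hM, hMbot, hMtop⟩ : ∃ M : Subgroup G, M.Normal ∧ M ≠ ⊥ ∧ M ≠ ⊤ := by
    by_contra hall
    push Not at hall
    exact hns ⟨fun M hM => or_iff_not_imp_left.2 (hall M hM)⟩
  obtain ⟨N, hN, hNbot, hNM, hmin⟩ := Cfsg.Agent.H19.exists_minimalNormal_le M hMbot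
  have hNtop : N ≠ ⊤ := fun h => hMtop (top_le_iff.1 (h ▸ hNM))
  -- all `p`-th powers lie in `N`
  have hpowN : ∀ g : G, g ^ p ∈ N := by
    obtain ⟨Hb, hHb⟩ := hquo N hNbot
    by_cases htop : Hb.comap (QuotientGroup.mk' N) = ⊤
    · intro g
      have := (Set.ext_iff.1 hHb _).1 (show QuotientGroup.mk' N g ∈ Hb from
        (htop.symm ▸ Subgroup.mem_top g : g ∈ Hb.comap (QuotientGroup.mk' N)))
      rw [Set.mem_setOf_eq, ← map_pow] at this
      exact (QuotientGroup.eq_one_iff _).1 this
    · exfalso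
      obtain ⟨W, hW⟩ := hsub _ htop
      refine hnc ⟨W.map (Hb.comap (QuotientGroup.mk' N)).subtype, ?_⟩
      ext g
      constructor
      · rintro ⟨w, hw, rfl⟩
        show ((Hb.comap (QuotientGroup.mk' N)).subtype w) ^ p = 1
        rw [← map_pow, (Set.ext_iff.1 hW w).1 hw, map_one]
      · intro hg
        refine ⟨⟨g, (Set.ext_iff.1 hHb _).2 ?_⟩, (Set.ext_iff.1 hW _).2 (Subtype.ext ?_), rfl⟩
        · show (QuotientGroup.mk' N g) ^ p = 1
          rw [← map_pow, show g ^ p = 1 from hg, map_one]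
        · simpa using hg
  have hpN : ¬ p ∣ Nat.card N := by
    intro hd
    obtain ⟨W, hW⟩ := hsub N hNtop
    have hWn : (W.map N.subtype).Normal := ⟨by
      rintro _ ⟨w, hw, rfl⟩ g
      refine ⟨⟨g * w * g⁻¹, hN.conj_mem w w.2 g⟩, (Set.ext_iff.1 hW _).2 (Subtype.ext ?_), rfl⟩
      have h1 : (w : G) ^ p = 1 := by simpa using congrArg Subtype.val ((Set.ext_iff.1 hW w).1 hw)
      simp [conj_pow, h1]⟩
    rcases hmin _ hWn (Subgroup.map_subtype_le _) with h | h
    · obtain ⟨y, hy⟩ := exists_prime_orderOf_dvd_card' (G := N) p hd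
      have hyW : y ∈ W := (Set.ext_iff.1 hW y).2 (by
        show y ^ p = 1
        rw [← hy, pow_orderOf_eq_one])
      rw [Subgroup.map_eq_bot_iff_of_injective _ N.subtype_injective] at h
      rw [h, Subgroup.mem_bot] at hyW
      rw [hyW, orderOf_one] at hy
      exact hp.out.one_lt.ne hy
    · refine hnp fun g => ⟨2, ?_⟩
      obtain ⟨w, hw, hwg⟩ : g ^ p ∈ W.map N.subtype := h.symm ▸ hpowN g
      rw [sq, pow_mul, ← hwg, ← map_pow, (Set.ext_iff.1 hW w).1 hw, map_one]
  have hexp : ∀ g : G, (∃ k, orderOf g = p ^ k) → g ^ p = 1 := by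
    rintro g ⟨k, hk⟩
    obtain ⟨j, -, hj⟩ := (Nat.dvd_prime_pow hp.out).1 (hk ▸ orderOf_pow_dvd (x := g) p)
    rcases j with _ | j
    · rw [← orderOf_eq_one_iff, hj, pow_zero]
    · exfalso
      apply hpN
      have h1 : orderOf (⟨g ^ p, hpowN g⟩ : N) ∣ Nat.card N := orderOf_dvd_natCard _
      rw [Subgroup.orderOf_mk, hj] at h1
      exact (dvd_pow_self p j.succ_ne_zero).trans h1
  have hexpP : ∀ P : Sylow p G, ∀ x ∈ (P : Subgroup G), x ^ p = 1 := fun P x hx => by
    obtain ⟨k, hk⟩ := IsPGroup.iff_orderOf.1 P.2 ⟨x, hx⟩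
    exact hexp x ⟨k, by rwa [Subgroup.orderOf_mk] at hk⟩
  refine ⟨fun h => hnc ?_, fun H hH => ?_, fun K _ hK => ?_⟩
  · obtain ⟨P⟩ := (inferInstance : Nonempty (Sylow p G))
    refine ⟨P, Set.ext fun g => ⟨hexpP P g, fun hg => ?_⟩⟩
    have hzp : IsPGroup p (Subgroup.zpowers g) := by
      obtain ⟨k, -, hk⟩ := (Nat.dvd_prime_pow hp.out).1
        (show orderOf g ∣ p ^ 1 by rw [pow_one]; exact orderOf_dvd_of_pow_eq_one hg)
      exact IsPGroup.of_card (n := k) (by rw [Nat.card_zpowers, hk])
    obtain ⟨Q, hQ⟩ := hzp.exists_le_sylow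
    haveI := Sylow.unique_of_normal P (h P)
    rw [Subsingleton.elim P Q]
    exact hQ (Subgroup.mem_zpowers g)
  · obtain ⟨W, hW⟩ := hsub H hH
    refine isPClosed_of_omega (fun Q x hx => ?_) W hW
    obtain ⟨k, hk⟩ := IsPGroup.iff_orderOf.1 Q.2 ⟨x, hx⟩
    rw [Subgroup.orderOf_mk, ← Subgroup.orderOf_coe] at hk
    exact Subtype.ext (by simpa using hexp x ⟨k, hk⟩)
  · obtain ⟨W, hW⟩ := hquo K hK
    refine isPClosed_of_omega (fun Q x hx => ?_) W hW
    obtain ⟨P, rfl⟩ := Sylow.mapSurjective_surjective (QuotientGroup.mk'_surjective K) p Q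
    obtain ⟨y, hy, rfl⟩ := hx
    rw [← map_pow, hexpP P y hy, map_one]

end Group

end Cfsg.Agent.H85
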