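import Mathlib

/-!
# Minimal covers by nilpotent subgroups
-/

set_option autoImplicit false
set_option linter.unusedSectionVars false

namespace Cfsg.Agent.H85

variable {G : Type*} [Group G] {H' : Type*} [Group H']

/-- `𝓐` is a minimal cover by proper subgroups, all of them nilpotent (the statements' form). -/
def NilpCover (𝓐 : Finset (Subgroup G)) : Prop :=
  ((∀ A ∈ 𝓐, A ≠ ⊤) ∧ (∀ g : G, ∃ A ∈ 𝓐, g ∈ A)) ∧
    (∀ 𝓑 : Finset (Subgroup G), (∀ A ∈ 𝓑, A ≠ ⊤) ∧ (∀ g : G, ∃ A ∈ 𝓑, g ∈ A) →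
      𝓐.card ≤ 𝓑.card) ∧
    (∀ A ∈ 𝓐, Group.IsNilpotent ↥A)

namespace NilpCover

variable {𝓐 : Finset (Subgroup G)}

/-- Two distinct members of a minimal cover generate the group. -/
theorem sup_eq_top (h : NilpCover 𝓐) {A B : Subgroup G} (hA : A ∈ 𝓐) (hB : B ∈ 𝓐) (hne : A ≠ B) :
    A ⊔ B = ⊤ := by
  classical
  by_contra hne'
  obtain ⟨⟨hprop, hcov⟩, hmin, -⟩ := h
  set 𝓑 := insert (A ⊔ B) ((𝓐.erase A).erase B) with h𝓑
  have hBA : B ∈ 𝓐.erase A := Finset.mem_erase.2 ⟨hne.symm, hB⟩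
  have hcard : 𝓑.card < 𝓐.card := by
    have h1 := Finset.card_insert_le (A ⊔ B) ((𝓐.erase A).erase B)
    rw [Finset.card_erase_of_mem hBA, Finset.card_erase_of_mem hA] at h1
    have h2 : 2 ≤ 𝓐.card := Finset.one_lt_card.2 ⟨A, hA, B, hB, hne⟩
    rw [← h𝓑] at h1
    omega
  refine absurd (hmin 𝓑 ⟨fun C hC => ?_, fun g => ?_⟩) (not_le.2 hcard)
  · rcases Finset.mem_insert.1 hC with rfl | hC
    · exact hne'
    · exact hprop C (Finset.mem_of_mem_erase (Finset.mem_of_mem_erase hC))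
  · obtain ⟨C, hC, hgC⟩ := hcov g
    by_cases hCA : C = A
    · exact ⟨A ⊔ B, Finset.mem_insert_self _ _, Subgroup.mem_sup_left (hCA ▸ hgC)⟩
    by_cases hCB : C = B
    · exact ⟨A ⊔ B, Finset.mem_insert_self _ _, Subgroup.mem_sup_right (hCB ▸ hgC)⟩
    exact ⟨C, Finset.mem_insert_of_mem (Finset.mem_erase.2 ⟨hCB, Finset.mem_erase.2 ⟨hCA, hC⟩⟩),
      hgC⟩

/-- If every nilpotent subgroup containing `x`, and every one containing `y`, lies in the proper
subgroup `M`, then some member contains both. -/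
theorem exists_common (h : NilpCover 𝓐) {M : Subgroup G} (hM : M ≠ ⊤) {x y : G}
    (hx : ∀ A : Subgroup G, A ≠ ⊤ → Group.IsNilpotent A → x ∈ A → A ≤ M)
    (hy : ∀ A : Subgroup G, A ≠ ⊤ → Group.IsNilpotent A → y ∈ A → A ≤ M) :
    ∃ A ∈ 𝓐, x ∈ A ∧ y ∈ A := by
  obtain ⟨A, hA, hxA⟩ := h.1.2 x
  obtain ⟨B, hB, hyB⟩ := h.1.2 y
  by_cases hne : A = B
  · exact ⟨A, hA, hxA, hne ▸ hyB⟩
  · exact absurd (top_le_iff.1 (h.sup_eq_top hA hB hne ▸ sup_le
      (hx A (h.1.1 A hA) (h.2.2 A hA) hxA) (hy B (h.1.1 B hB) (h.2.2 B hB) hyB))) hM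

/-- Minimal nilpotent covers transfer along isomorphisms. -/
theorem map_equiv [DecidableEq (Subgroup H')] (h : NilpCover 𝓐) (e : G ≃* H') :
    NilpCover (𝓐.image (fun A => A.map e.toMonoidHom)) := by
  obtain ⟨⟨hprop, hcov⟩, hmin, hnil⟩ := h
  have hinj : Function.Injective (fun A : Subgroup G => A.map e.toMonoidHom) :=
    Subgroup.map_injective e.injective
  have htop : ∀ B : Subgroup H', B ≠ ⊤ → B.map e.symm.toMonoidHom ≠ ⊤ := by
    intro B hB he
    apply hB
    rw [← Subgroup.map_top_of_surjective e.symm.toMonoidHom e.symm.surjective] at he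
    exact Subgroup.map_injective e.symm.injective he
  refine ⟨⟨fun A hA he => ?_, fun g => ?_⟩, fun 𝓑 h𝓑 => ?_, fun A hA => ?_⟩
  · obtain ⟨A₀, hA₀, rfl⟩ := Finset.mem_image.1 hA
    apply hprop A₀ hA₀
    rw [← Subgroup.map_top_of_surjective e.toMonoidHom e.surjective] at he
    exact hinj he
  · obtain ⟨A, hA, hg⟩ := hcov (e.symm g)
    exact ⟨_, Finset.mem_image_of_mem _ hA, ⟨_, hg, e.apply_symm_apply g⟩⟩
  · classical
    rw [Finset.card_image_of_injective _ hinj]
    refine (hmin (𝓑.image fun B => B.map e.symm.toMonoidHom) ⟨fun B hB => ?_, fun g => ?_⟩).trans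
      Finset.card_image_le
    · obtain ⟨B₀, hB₀, rfl⟩ := Finset.mem_image.1 hB
      exact htop B₀ (h𝓑.1 B₀ hB₀)
    · obtain ⟨B, hB, hg⟩ := h𝓑.2 (e g)
      exact ⟨_, Finset.mem_image_of_mem _ hB, ⟨_, hg, e.symm_apply_apply g⟩⟩
  · obtain ⟨A₀, hA₀, rfl⟩ := Finset.mem_image.1 hA
    haveI := hnil A₀ hA₀
    exact Group.nilpotent_of_mulEquiv (A₀.equivMapOfInjective e.toMonoidHom e.injective)

end NilpCover

section Nilpotent

/-- An induction principle for nilpotent subgroups: a property holding at `1` and passing from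
`[a, y]` to `a` (for all `y` in the subgroup) holds everywhere. -/
theorem nilpotent_induction {A : Subgroup G} (hA : Group.IsNilpotent A) (P : G → Prop) (h1 : P 1)
    (hstep : ∀ a ∈ A, (∀ y ∈ A, P (a * y * a⁻¹ * y⁻¹)) → P a) : ∀ a ∈ A, P a := by
  obtain ⟨n, hn⟩ := hA.nilpotent
  have key : ∀ k, ∀ a : A, a ∈ Subgroup.upperCentralSeries A k → P a := by
    intro k
    induction k with
    | zero =>
      intro a ha
      rw [Subgroup.upperCentralSeries_zero, Subgroup.mem_bot] at ha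
      rw [ha]
      exact h1
    | succ k ih =>
      intro a ha
      exact hstep a a.2 fun y hy =>
        ih _ ((Subgroup.mem_upperCentralSeries_succ_iff.1 ha) ⟨y, hy⟩)
  intro a ha
  exact key n ⟨a, ha⟩ (hn ▸ Subgroup.mem_top _)

variable {X : Type*} [MulAction G X]

/-- A nilpotent subgroup containing an element with a unique fixed point fixes that point. -/
theorem le_stabilizer_of_unique_fixed {A : Subgroup G} (hA : Group.IsNilpotent A) {x : G}
    (hx : x ∈ A) {ω : X} (hfix : x • ω = ω) (huniq : ∀ ω' : X, x • ω' = ω' → ω' = ω) :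
    A ≤ MulAction.stabilizer G ω := by
  refine nilpotent_induction hA (fun a => a • ω = ω) (one_smul _ _) fun a _ h => ?_
  have h1 := h x hx
  rw [mul_smul, mul_smul, mul_smul, show x⁻¹ • ω = ω from inv_smul_eq_iff.2 hfix.symm] at h1
  have h2 : x • a⁻¹ • ω = a⁻¹ • ω := by
    rw [eq_inv_smul_iff]
    exact h1
  have h3 := huniq _ h2
  exact (inv_smul_eq_iff.1 h3).symm

/-- Commuting elements, one of which has a unique fixed point: the other one fixes it. -/
theorem smul_eq_of_commute {x y : G} (hc : Commute x y) {ω : X} (hfix : x • ω = ω)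
    (huniq : ∀ ω' : X, x • ω' = ω' → ω' = ω) : y • ω = ω := by
  apply huniq
  rw [← mul_smul, hc.eq, mul_smul, hfix]

/-- In a finite nilpotent subgroup, elements of coprime orders commute. -/
theorem commute_of_coprime_nilpotent [Finite G] {A : Subgroup G} (hA : Group.IsNilpotent A)
    {x y : G} (hx : x ∈ A) (hy : y ∈ A) (hco : (orderOf x).Coprime (orderOf y)) : Commute x y := by
  obtain ⟨e⟩ := ((Group.isNilpotent_of_finite_tfae (G := A)).out 0 4 rfl rfl).1 hA
  rw [← Subgroup.orderOf_mk x hx, ← Subgroup.orderOf_mk y hy] at hco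
  suffices h : Commute (e.symm ⟨x, hx⟩) (e.symm ⟨y, hy⟩) by
    have h2 := h.map e.toMonoidHom
    simp only [MulEquiv.coe_toMonoidHom, MulEquiv.apply_symm_apply] at h2
    exact congrArg Subtype.val h2.eq
  set f := e.symm ⟨x, hx⟩
  set g := e.symm ⟨y, hy⟩
  have hfg : (orderOf f).Coprime (orderOf g) := by
    simp only [f, g, MulEquiv.orderOf_eq]
    exact hco
  show f * g = g * f
  funext p P
  have h1 : orderOf (f p P) ∣ orderOf f :=
    orderOf_dvd_of_pow_eq_one (congrFun (congrFun (pow_orderOf_eq_one f) p) P)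
  have h2 : orderOf (g p P) ∣ orderOf g :=
    orderOf_dvd_of_pow_eq_one (congrFun (congrFun (pow_orderOf_eq_one g) p) P)
  haveI : Fact (p : ℕ).Prime := ⟨Nat.prime_of_mem_primeFactors p.2⟩
  obtain ⟨i, hi⟩ := IsPGroup.iff_orderOf.1 P.isPGroup' (f p P)
  obtain ⟨j, hj⟩ := IsPGroup.iff_orderOf.1 P.isPGroup' (g p P)
  have h3 := (hfg.coprime_dvd_left h1).coprime_dvd_right h2
  rw [hi, hj] at h3
  rcases Nat.eq_zero_or_pos i with rfl | hi0
  · rw [pow_zero, orderOf_eq_one_iff] at hi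
    simp [hi]
  · rcases Nat.eq_zero_or_pos j with rfl | hj0
    · rw [pow_zero, orderOf_eq_one_iff] at hj
      simp [hj]
    · rw [Nat.coprime_pow_left_iff hi0, Nat.coprime_pow_right_iff hj0, Nat.coprime_self] at h3
      exact absurd h3 (Fact.out : (p : ℕ).Prime).one_lt.ne'

end Nilpotent

end Cfsg.Agent.H85
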