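import Mathlib
import Cfsg.Prelude.Def_Transfer
import Cfsg.Agent.H21.UniqueSubgroup
import Cfsg.Agent.H85.ClassCount
import Cfsg.Agent.H85.NilpotentCover

/-!
# Groups in which abelian subgroups of the same order are conjugate
-/

set_option autoImplicit false
set_option linter.unusedSectionVars false
set_option linter.style.haveILetI false

namespace Cfsg.Agent.H85

/-- Any two abelian subgroups of the same order are conjugate. -/
def AbConj (G : Type*) [Group G] : Prop :=
  ∀ A B : Subgroup G, IsMulCommutative ↥A → IsMulCommutative ↥B → Nat.card ↥A = Nat.card ↥B →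
    ∃ g : G, B = A.map (MulAut.conj g).toMonoidHom

variable {G : Type*} [Group G] [Finite G]

namespace AbConj

theorem exists_conj_mem (hB : AbConj G) {A : Subgroup G} (hA : IsMulCommutative A) {x : G}
    (hx : Nat.card A = orderOf x) : ∃ g : G, ∃ a ∈ A, x = g * a * g⁻¹ := by
  obtain ⟨g, hg⟩ := hB A (Subgroup.zpowers x) hA inferInstance (by rw [hx, Nat.card_zpowers])
  obtain ⟨a, ha, hax⟩ : x ∈ A.map (MulAut.conj g).toMonoidHom :=
    hg ▸ Subgroup.mem_zpowers x
  exact ⟨g, a, ha, by rw [← hax]; rfl⟩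

theorem mem_of_orderOf_eq (hB : AbConj G) {M : Subgroup G} (hM : M.Normal) {a m : G} (hm : m ∈ M)
    (he : orderOf m = orderOf a) : a ∈ M := by
  obtain ⟨g, b, hb, rfl⟩ := hB.exists_conj_mem (A := Subgroup.zpowers m) inferInstance (x := a)
    (by rw [Nat.card_zpowers, he])
  exact hM.conj_mem b (Subgroup.zpowers_le.2 hm hb) g

variable {p : ℕ} [hp : Fact p.Prime]

theorem pow_prime_eq_one (hB : AbConj G) {E : Subgroup G} (hE : Cfsg.IsElementaryAbelian p E)
    (hcard : p ^ 2 ∣ Nat.card E) {x : G} (hx : ∃ k, orderOf x = p ^ k) : x ^ p = 1 := by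
  obtain ⟨k, hk⟩ := hx
  by_contra hne
  have hk2 : 2 ≤ k := by
    by_contra h
    exact hne (orderOf_dvd_iff_pow_eq_one.1 (hk ▸ (pow_dvd_pow p (show k ≤ 1 by omega)).trans
      (dvd_of_eq (pow_one p))))
  obtain ⟨H, hH⟩ := Sylow.exists_subgroup_card_pow_prime (G := E) p hcard
  set A := H.map E.subtype with hAdef
  have hA : IsMulCommutative A := by
    haveI := hE.1
    exact Subgroup.map_isMulCommutative _ _
  have hAc : Nat.card A = p ^ 2 := by
    rw [← hH]
    exact (Nat.card_congr (H.equivMapOfInjective _ E.subtype_injective).toEquiv).symm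
  have hy : orderOf (x ^ p ^ (k - 2)) = p ^ 2 := by
    rw [orderOf_pow_of_dvd (pow_ne_zero _ hp.out.ne_zero) (hk ▸ pow_dvd_pow p (Nat.sub_le k 2)), hk,
      Nat.pow_div (Nat.sub_le k 2) hp.out.pos]
    congr 1
    omega
  obtain ⟨g, a, ⟨⟨a', ha'⟩, -, rfl⟩, hxa⟩ := hB.exists_conj_mem hA (hAc.trans hy.symm)
  have h1 : (x ^ p ^ (k - 2)) ^ p = 1 := by
    rw [hxa, conj_pow]
    simp [hE.2 a' ha']
  have h2 := Nat.le_of_dvd hp.out.pos (orderOf_dvd_of_pow_eq_one h1)
  rw [hy] at h2
  exact absurd h2 (not_le.2 (by nlinarith [hp.out.one_lt]))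

theorem exists_central_orderOf {P : Type*} [Group P] [Finite P] [Nontrivial P] (hP : IsPGroup p P) :
    ∃ z : P, z ∈ Subgroup.center P ∧ orderOf z = p := by
  haveI := hP.center_nontrivial
  obtain ⟨n, hn, hcard⟩ := (hP.to_subgroup (Subgroup.center P)).nontrivial_iff_card.1 inferInstance
  obtain ⟨z, hz⟩ := exists_prime_orderOf_dvd_card' (G := Subgroup.center P) p
    (hcard ▸ dvd_pow_self p hn.ne')
  exact ⟨z, z.2, by rw [← hz, Subgroup.orderOf_coe]⟩

theorem unique_or_exists_elementary {P : Type*} [Group P] [Finite P] (hP : IsPGroup p P) :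
    (∀ H K : Subgroup P, Nat.card H = p → Nat.card K = p → H = K) ∨
      ∃ E : Subgroup P, Cfsg.IsElementaryAbelian p E ∧ p ^ 2 ∣ Nat.card E := by
  refine or_iff_not_imp_left.2 fun h => ?_
  push Not at h
  obtain ⟨H, K, hH, hK, hne⟩ := h
  haveI : Nontrivial P := by
    haveI : Nontrivial H := Finite.one_lt_card_iff_nontrivial.1 (by rw [hH]; exact hp.out.one_lt)
    exact H.subtype_injective.nontrivial
  obtain ⟨z, hz, hzo⟩ := exists_central_orderOf (p := p) hP
  obtain ⟨L, hL, hLne⟩ : ∃ L : Subgroup P, Nat.card L = p ∧ L ≠ Subgroup.zpowers z := by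
    by_cases hHz : H = Subgroup.zpowers z
    · exact ⟨K, hK, fun h => hne (hHz.trans h.symm)⟩
    · exact ⟨H, hH, hHz⟩
  obtain ⟨h, hhL, hhz⟩ : ∃ h ∈ L, h ∉ Subgroup.zpowers z := by
    by_contra hall
    push Not at hall
    exact hLne (Subgroup.eq_of_le_of_card_ge hall (by rw [Nat.card_zpowers, hzo, hL]))
  have hcomm : ∀ a ∈ ({z, h} : Set P), ∀ b ∈ ({z, h} : Set P), a * b = b * a := by
    rintro a (rfl | rfl) b (rfl | rfl)
    · rfl
    · exact (Subgroup.mem_center_iff.1 hz b).symm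
    · exact Subgroup.mem_center_iff.1 hz a
    · rfl
  set E := Subgroup.closure ({z, h} : Set P) with hE
  have hEc : IsMulCommutative E := Subgroup.isMulCommutative_closure hcomm
  have hzE : z ∈ E := Subgroup.subset_closure (Or.inl rfl)
  have hhE : h ∈ E := Subgroup.subset_closure (Or.inr rfl)
  have hexp : ∀ a ∈ E, a ^ p = 1 := by
    intro a ha
    induction ha using Subgroup.closure_induction with
    | mem a ha =>
      rcases ha with rfl | rfl
      · rw [← hzo, pow_orderOf_eq_one]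
      · exact congrArg Subtype.val (show (⟨_, hhL⟩ : L) ^ p = 1 by rw [← hL, pow_card_eq_one'])
    | one => exact one_pow p
    | mul a b ha hb iha ihb =>
      have hab : Commute a b := congrArg Subtype.val (hEc.is_comm.comm ⟨a, ha⟩ ⟨b, hb⟩)
      rw [hab.mul_pow, iha, ihb, one_mul]
    | inv a _ iha => rw [inv_pow, iha, inv_one]
  refine ⟨E, ⟨hEc, hexp⟩, ?_⟩
  obtain ⟨k, hk⟩ := IsPGroup.iff_card.1 (hP.to_subgroup E)
  rw [hk]
  refine pow_dvd_pow p ?_
  by_contra hlt
  have hle : Nat.card E ≤ Nat.card (Subgroup.zpowers z) := by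
    rw [hk, Nat.card_zpowers, hzo]
    exact (Nat.pow_le_pow_right hp.out.pos (show k ≤ 1 by omega)).trans (pow_one p).le
  exact hhz (Subgroup.eq_of_le_of_card_ge (Subgroup.zpowers_le.2 hzE) hle ▸ hhE)

theorem cyclic_quaternion_or_exponent (hB : AbConj G) {P : Subgroup G} (hP : IsPGroup p P) :
    IsCyclic P ∨ (p = 2 ∧ ∃ n : ℕ, Nonempty (P ≃* QuaternionGroup (2 ^ n))) ∨
      ∀ x ∈ P, x ^ p = 1 := by
  rcases unique_or_exists_elementary (p := p) hP with huniq | ⟨E, hE, hcard⟩
  · rcases Cfsg.Agent.H21.cyclic_or_quaternion p hP huniq with h | h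
    · exact Or.inl h
    · exact Or.inr (Or.inl h)
  · refine Or.inr (Or.inr fun x hx => hB.pow_prime_eq_one (E := E.map P.subtype) ?_ ?_ ?_)
    · refine ⟨?_, ?_⟩
      · haveI := hE.1
        exact Subgroup.map_isMulCommutative _ _
      · rintro _ ⟨a, ha, rfl⟩
        rw [← map_pow, hE.2 a ha, map_one]
    · rw [← Nat.card_congr (E.equivMapOfInjective _ P.subtype_injective).toEquiv]
      exact hcard
    · obtain ⟨k, hk⟩ := IsPGroup.iff_orderOf.1 hP ⟨x, hx⟩
      exact ⟨k, by rwa [Subgroup.orderOf_mk] at hk⟩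

/-- The normal Sylow subgroup of a nilpotent group absorbs conjugation. -/
theorem exists_mem_conj_eq (hnil : Group.IsNilpotent G) (P : Sylow p G) {x : G}
    (hx : x ∈ (P : Subgroup G)) (g : G) :
    ∃ u ∈ (P : Subgroup G), g * x * g⁻¹ = u * x * u⁻¹ := by
  obtain ⟨u, v, rfl, -, ⟨k, hk⟩, hv, -⟩ := exists_prime_part hp.out g
  haveI : Fintype G := Fintype.ofFinite G
  have hnorm : (P : Subgroup G).Normal :=
    ((Group.isNilpotent_of_finite_tfae (G := G)).out 0 3 rfl rfl).1 hnil p hp P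
  have hu : u ∈ (P : Subgroup G) := by
    have hpz : IsPGroup p (Subgroup.zpowers u) :=
      IsPGroup.of_card (n := k) (by rw [Nat.card_zpowers, hk])
    obtain ⟨Q, hQ⟩ := hpz.exists_le_sylow
    haveI := Sylow.unique_of_normal P hnorm
    rw [Subsingleton.elim P Q]
    exact hQ (Subgroup.mem_zpowers u)
  obtain ⟨j, hj⟩ := IsPGroup.iff_orderOf.1 P.2 ⟨x, hx⟩
  rw [Subgroup.orderOf_mk] at hj
  have hcv : Commute x v := commute_of_coprime_nilpotent
    (A := (⊤ : Subgroup G)) (Group.nilpotent_of_mulEquiv Subgroup.topEquiv.symm)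
    (Subgroup.mem_top x) (Subgroup.mem_top v)
    (hj ▸ ((hp.out.coprime_iff_not_dvd.2 hv).pow_left j))
  refine ⟨u, hu, ?_⟩
  rw [mul_inv_rev, show u * v * x * (v⁻¹ * u⁻¹) = u * (v * x * v⁻¹) * u⁻¹ by group, ← hcv.eq,
    mul_inv_cancel_right]

theorem isCyclic_sylow (hB : AbConj G) (hnil : Group.IsNilpotent G) (P : Sylow p G) :
    IsCyclic (P : Subgroup G) := by
  by_cases hbot : (P : Subgroup G) = ⊥
  · rw [hbot]; infer_instance
  haveI : Nontrivial (P : Subgroup G) := (Subgroup.nontrivial_iff_ne_bot _).2 hbot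
  obtain ⟨z, hz, hzo⟩ := exists_central_orderOf (p := p) P.2
  have key : ∀ (b y : (P : Subgroup G)), orderOf b = orderOf y →
      ∃ (u : (P : Subgroup G)) (b' : (P : Subgroup G)), b' ∈ Subgroup.zpowers b ∧
        y = u * b' * u⁻¹ := by
    intro b y he
    obtain ⟨g, a, ha, hya⟩ := hB.exists_conj_mem (A := Subgroup.zpowers (b : G)) inferInstance
      (x := (y : G)) (by rw [Nat.card_zpowers, Subgroup.orderOf_coe, Subgroup.orderOf_coe, he])
    obtain ⟨i, rfl⟩ := ha
    obtain ⟨u, hu, he'⟩ := exists_mem_conj_eq hnil P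
      (show (b : G) ^ i ∈ (P : Subgroup G) from zpow_mem b.2 i) g
    exact ⟨⟨u, hu⟩, b ^ i, ⟨i, rfl⟩, Subtype.ext (by rw [hya, he']; simp)⟩
  have huniq : ∀ H K : Subgroup (P : Subgroup G), Nat.card H = p → Nat.card K = p → H = K := by
    suffices h : ∀ H : Subgroup (P : Subgroup G), Nat.card H = p → H = Subgroup.zpowers z from
      fun H K hH hK => (h H hH).trans (h K hK).symm
    intro H hH
    refine Subgroup.eq_of_le_of_card_ge (fun y hy => ?_) (by rw [Nat.card_zpowers, hzo, hH])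
    by_cases hy1 : y = 1
    · rw [hy1]; exact one_mem _
    have hyo : orderOf y = p := by
      have h1 : orderOf (⟨y, hy⟩ : H) ∣ p := (orderOf_dvd_natCard _).trans (dvd_of_eq hH)
      rw [Subgroup.orderOf_mk] at h1
      exact ((Nat.dvd_prime hp.out).1 h1).resolve_left fun h => hy1 (orderOf_eq_one_iff.1 h)
    obtain ⟨u, b', hb', rfl⟩ := key z y (hzo.trans hyo.symm)
    have hc : b' ∈ Subgroup.center _ := Subgroup.zpowers_le.2 hz hb'
    rw [(Subgroup.mem_center_iff.1 hc u), mul_inv_cancel_right]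
    exact hb'
  rcases Cfsg.Agent.H21.cyclic_or_quaternion p P.2 huniq with h | ⟨rfl, n, ⟨e⟩⟩
  · exact h
  rcases n with _ | l
  · haveI : IsCyclic (QuaternionGroup (2 ^ 0)) := by
      rw [pow_zero]; exact QuaternionGroup.quaternionGroup_one_isCyclic
    exact isCyclic_of_surjective e.symm.toMonoidHom e.symm.surjective
  exfalso
  let q : QuaternionGroup (2 ^ (l + 1)) := QuaternionGroup.a 1 ^ 2 ^ l
  have hq : orderOf q = 4 := by
    rw [orderOf_pow_of_dvd (pow_ne_zero _ two_ne_zero), QuaternionGroup.orderOf_a_one]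
    · rw [show 2 * 2 ^ (l + 1) = 4 * 2 ^ l by ring, Nat.mul_div_cancel _ (Nat.two_pow_pos l)]
    · rw [QuaternionGroup.orderOf_a_one]
      exact ⟨4, by ring⟩
  obtain ⟨u, b', hb', hy⟩ := key (e.symm q) (e.symm (QuaternionGroup.xa 0)) (by
    rw [MulEquiv.orderOf_eq, MulEquiv.orderOf_eq, hq, QuaternionGroup.orderOf_xa])
  have hy' := congrArg e hy
  rw [e.apply_symm_apply, map_mul, map_mul, map_inv] at hy'
  obtain ⟨i, hi⟩ : ∃ i, e b' = QuaternionGroup.a i := by
    rw [← mem_powers_iff_mem_zpowers] at hb'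
    obtain ⟨k, rfl⟩ := hb'
    exact ⟨_, by rw [map_pow, e.apply_symm_apply, ← pow_mul, QuaternionGroup.a_one_pow]⟩
  rw [hi] at hy'
  generalize e u = w at hy'
  rw [eq_mul_inv_iff_mul_eq] at hy'
  rcases w with j | j <;> simp at hy'

end AbConj

end Cfsg.Agent.H85
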