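import Mathlib
import Cfsg.Prelude.Def_Transfer
import Cfsg.Agent.S3889
import Cfsg.Agent.H85.NilpotentCover
import Cfsg.Agent.H85.ClassCount

/-!
# Abelian Sylow subgroups and minimal covers by nilpotent subgroups
-/

set_option autoImplicit false
set_option linter.style.haveILetI false
set_option linter.unusedSectionVars false

namespace Cfsg.Agent.H85

variable {G : Type*} [Group G] [Finite G] {p : ℕ} [hp : Fact p.Prime]

/-- A `p`-element normalising a Sylow `p`-subgroup lies in it. -/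
theorem mem_sylow_of_normalizes (P : Sylow p G) {u : G} (hu : ∃ k, orderOf u = p ^ k)
    (hn : u ∈ Subgroup.normalizer ((P : Subgroup G) : Set G)) : u ∈ (P : Subgroup G) := by
  obtain ⟨k, hk⟩ := hu
  have h1 : IsPGroup p (Subgroup.zpowers u) := IsPGroup.of_card (n := k) (by rw [Nat.card_zpowers, hk])
  have h3 := P.3 (P.2.to_sup_of_normal_left' h1 (Subgroup.zpowers_le.2 hn)) le_sup_left
  rw [← h3]
  exact Subgroup.mem_sup_right (Subgroup.mem_zpowers u)

/-- A subgroup containing a product of commuting elements of coprime orders contains both. -/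
theorem mem_of_mul_mem_coprime {H : Subgroup G} {a b : G} (hc : Commute a b)
    (hco : (orderOf a).Coprime (orderOf b)) (h : a * b ∈ H) : a ∈ H ∧ b ∈ H := by
  have ha : a ∈ H := by
    obtain ⟨t, ht⟩ := exists_pow_eq_self_of_coprime (x := a) hco.symm
    have h1 : ((a * b) ^ orderOf b) ^ t ∈ H := pow_mem (pow_mem h _) _
    rwa [hc.mul_pow, pow_orderOf_eq_one, mul_one, ht] at h1
  exact ⟨ha, by simpa using mul_mem (inv_mem ha) h⟩

theorem mem_unique_sylow {C : Subgroup G} (hC : Group.IsNilpotent C) {P : Sylow p G}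
    (hPC : (P : Subgroup G) ≤ C) {u : G} (huC : u ∈ C) (hu : ∃ k, orderOf u = p ^ k) :
    u ∈ (P : Subgroup G) := by
  haveI : Fintype C := Fintype.ofFinite _
  have hPn : ((P.subtype hPC : Sylow p C) : Subgroup C).Normal :=
    ((Group.isNilpotent_of_finite_tfae (G := C)).out 0 3 rfl rfl).1 hC p hp _
  haveI := Sylow.unique_of_normal _ hPn
  obtain ⟨k, hk⟩ := hu
  obtain ⟨R, hR⟩ := (IsPGroup.of_card (n := k)
    (by rw [Nat.card_zpowers, Subgroup.orderOf_mk, hk]) :
      IsPGroup p (Subgroup.zpowers (⟨u, huC⟩ : C))).exists_le_sylow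
  rw [Subsingleton.elim R (P.subtype hPC)] at hR
  exact hR (Subgroup.mem_zpowers _)

namespace NilpCover

variable {𝓐 : Finset (Subgroup G)}

/-- A member containing an element of an abelian Sylow subgroup centralises it. -/
theorem le_centralizer_of_mem (h : NilpCover 𝓐) (P : Sylow p G)
    (hab : IsMulCommutative (P : Subgroup G)) {z : G} (hz : z ∈ (P : Subgroup G))
    {C : Subgroup G} (hC : C ∈ 𝓐) (hzC : z ∈ C) : C ≤ Subgroup.centralizer ({z} : Set G) := by
  intro a ha
  rw [Subgroup.mem_centralizer_singleton_iff]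
  obtain ⟨k, hk⟩ := IsPGroup.iff_orderOf.1 P.2 ⟨z, hz⟩
  rw [Subgroup.orderOf_mk] at hk
  obtain ⟨u, v, rfl, huv, ⟨i, hi⟩, hv, -⟩ := exists_prime_part hp.out a
  obtain ⟨hu', hv'⟩ := mem_of_mul_mem_coprime huv
    (hi ▸ (hp.out.coprime_iff_not_dvd.2 hv).pow_left i) ha
  have hnil := h.2.2 C hC
  -- the `p`-part and `z` lie in one conjugate of `P`
  haveI : Fintype C := Fintype.ofFinite _
  obtain ⟨Q⟩ := (inferInstance : Nonempty (Sylow p C))
  have hQn : (Q : Subgroup C).Normal :=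
    ((Group.isNilpotent_of_finite_tfae (G := C)).out 0 3 rfl rfl).1 hnil p hp Q
  haveI := Sylow.unique_of_normal Q hQn
  obtain ⟨S, hS⟩ := (Q.2.map C.subtype).exists_le_sylow
  have hmem : ∀ w : C, (∃ i, orderOf w = p ^ i) → (w : G) ∈ (S : Subgroup G) := fun w ⟨i, hi⟩ => by
    obtain ⟨R, hR⟩ := (IsPGroup.of_card (n := i)
      (by rw [Nat.card_zpowers, hi]) : IsPGroup p (Subgroup.zpowers w)).exists_le_sylow
    rw [Subsingleton.elim R Q] at hR
    exact hS ⟨w, hR (Subgroup.mem_zpowers w), rfl⟩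
  have hcu : Commute u z := by
    obtain ⟨g, hg⟩ := MulAction.exists_smul_eq G P S
    have h1 := hmem ⟨u, hu'⟩ ⟨i, by rw [Subgroup.orderOf_mk, hi]⟩
    have h2 := hmem ⟨z, hzC⟩ ⟨k, by rw [Subgroup.orderOf_mk, hk]⟩
    rw [← hg, Sylow.coe_subgroup_smul] at h1 h2
    obtain ⟨a', ha', rfl⟩ := h1
    obtain ⟨b', hb', hb''⟩ := h2
    have h3 := (show Commute a' b' from congrArg Subtype.val
      (hab.is_comm.comm ⟨a', ha'⟩ ⟨b', hb'⟩)).map (MulAut.conj g).toMonoidHom
    change Commute (MulAut.conj g a') z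
    rw [show z = MulAut.conj g b' from hb''.symm]
    exact h3
  have hcv : Commute v z := commute_of_coprime_nilpotent hnil hv' hzC
    (hk ▸ ((hp.out.coprime_iff_not_dvd.2 hv).symm.pow_right k))
  exact (hcu.mul_left hcv).eq

/-- For an abelian Sylow subgroup, a nontrivial element of it lies in only one member. -/
theorem unique_member (h : NilpCover 𝓐) (hZ : Subgroup.center G = ⊥) (P : Sylow p G)
    (hab : IsMulCommutative (P : Subgroup G)) {z : G} (hz : z ∈ (P : Subgroup G)) (hz1 : z ≠ 1)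
    {A B : Subgroup G} (hA : A ∈ 𝓐) (hB : B ∈ 𝓐) (hzA : z ∈ A) (hzB : z ∈ B) : A = B := by
  by_contra hne
  have htop : (⊤ : Subgroup G) ≤ Subgroup.centralizer ({z} : Set G) :=
    (h.sup_eq_top hA hB hne) ▸ sup_le (h.le_centralizer_of_mem P hab hz hA hzA)
      (h.le_centralizer_of_mem P hab hz hB hzB)
  have hc : z ∈ Subgroup.center G := Subgroup.mem_center_iff.2 fun g =>
    Subgroup.mem_centralizer_singleton_iff.1 (htop (Subgroup.mem_top g))
  rw [hZ, Subgroup.mem_bot] at hc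
  exact hz1 hc

/-- A member containing an abelian Sylow subgroup is its centraliser. -/
theorem centralizer_eq_member (h : NilpCover 𝓐) (hZ : Subgroup.center G = ⊥) (P : Sylow p G)
    (hab : IsMulCommutative (P : Subgroup G)) (hPne : (P : Subgroup G) ≠ ⊥) {A : Subgroup G}
    (hA : A ∈ 𝓐) (hPA : (P : Subgroup G) ≤ A) :
    Subgroup.centralizer ((P : Subgroup G) : Set G) = A := by
  refine le_antisymm (fun c hc => ?_) fun a ha => Subgroup.mem_centralizer_iff.2 fun x hx =>
    (Subgroup.mem_centralizer_singleton_iff.1 (h.le_centralizer_of_mem P hab hx hA (hPA hx) ha)).symm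
  obtain ⟨z, hz, hz1⟩ : ∃ z ∈ (P : Subgroup G), z ≠ 1 := by
    by_contra hall
    push Not at hall
    exact hPne ((Subgroup.eq_bot_iff_forall _).2 hall)
  obtain ⟨u, v, rfl, huv, ⟨i, hi⟩, hv, -⟩ := exists_prime_part hp.out c
  have hco : (orderOf u).Coprime (orderOf v) := hi ▸ (hp.out.coprime_iff_not_dvd.2 hv).pow_left i
  have huvC : u ∈ Subgroup.centralizer ((P : Subgroup G) : Set G) ∧
      v ∈ Subgroup.centralizer ((P : Subgroup G) : Set G) := mem_of_mul_mem_coprime huv hco hc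
  have huP : u ∈ (P : Subgroup G) :=
    mem_sylow_of_normalizes P ⟨i, hi⟩ (Subgroup.centralizer_le_normalizer _ huvC.1)
  obtain ⟨B, hB, hzB⟩ := h.1.2 (z * v)
  obtain ⟨k, hk⟩ := IsPGroup.iff_orderOf.1 P.2 ⟨z, hz⟩
  rw [Subgroup.orderOf_mk] at hk
  obtain ⟨hzB', hvB⟩ := mem_of_mul_mem_coprime (Subgroup.mem_centralizer_iff.1 huvC.2 z hz)
    (hk ▸ (hp.out.coprime_iff_not_dvd.2 hv).pow_left k) hzB
  have hBA := h.unique_member hZ P hab hz hz1 hB hA hzB' (hPA hz)
  exact mul_mem (hPA huP) (hBA ▸ hvB)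

/-- An abelian Sylow subgroup lies in a member unless it is elementary abelian of order `> p`. -/
theorem exists_member_ge (h : NilpCover 𝓐) (hZ : Subgroup.center G = ⊥) (P : Sylow p G)
    (hab : IsMulCommutative (P : Subgroup G))
    (hnel : ¬ (Cfsg.IsElementaryAbelian p (P : Subgroup G) ∧ p < Nat.card (P : Subgroup G))) :
    ∃ A ∈ 𝓐, (P : Subgroup G) ≤ A := by
  by_contra hall
  push Not at hall
  letI : CommGroup (P : Subgroup G) :=
    { (inferInstance : Group (P : Subgroup G)) with mul_comm := hab.is_comm.comm }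
  have hexp := Cfsg.Agent.S3889.result (G := (P : Subgroup G))
    ((fun A : Subgroup G => A.subgroupOf (P : Subgroup G)) '' (𝓐 : Set (Subgroup G)))
    (by rintro _ ⟨A, hA, rfl⟩ ht; exact hall A hA (Subgroup.subgroupOf_eq_top.1 ht))
    (fun g => by
      obtain ⟨A, hA, hgA⟩ := h.1.2 g
      exact ⟨_, ⟨A, hA, rfl⟩, hgA⟩)
    (by
      rintro _ ⟨A, hA, rfl⟩ _ ⟨B, hB, rfl⟩ hne
      refine (Subgroup.eq_bot_iff_forall _).2 fun z hz => by_contra fun hz1 => hne ?_
      rw [h.unique_member hZ P hab z.2 (fun he => hz1 (Subtype.ext he)) hA hB hz.1 hz.2])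
  obtain ⟨l, hl⟩ := IsPGroup.iff_card.1 P.2
  have hE : Monoid.exponent (P : Subgroup G) = p := by
    have h1 : Monoid.exponent (P : Subgroup G) ∣ p ^ l := hl ▸ Group.exponent_dvd_nat_card
    exact (Nat.prime_dvd_prime_iff_eq hexp hp.out).1 (hexp.dvd_of_dvd_pow h1)
  refine hnel ⟨⟨hab, fun a ha => ?_⟩, ?_⟩
  · have h1 := Monoid.pow_exponent_eq_one (⟨a, ha⟩ : (P : Subgroup G))
    rw [hE] at h1
    simpa using congrArg Subtype.val h1
  · by_contra hle
    push Not at hle
    have hl1 : l ≤ 1 := by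
      by_contra hl2
      have : p ^ 1 < p ^ l := Nat.pow_lt_pow_right hp.out.one_lt (by omega)
      rw [pow_one, ← hl] at this
      omega
    obtain ⟨z, hzgen⟩ : ∃ z : G, ∀ A : Subgroup G, z ∈ A → (P : Subgroup G) ≤ A := by
      rcases l with _ | _ | l
      · exact ⟨1, fun A _ x hx => by
          rw [Subgroup.card_eq_one.1 (hl.trans (pow_zero p))] at hx
          rw [Subgroup.mem_bot.1 hx]; exact one_mem A⟩
      · haveI := isCyclic_of_prime_card (hl.trans (pow_one p))
        obtain ⟨z, hz⟩ := IsCyclic.exists_generator (α := (P : Subgroup G))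
        refine ⟨z, fun A hA x hx => ?_⟩
        obtain ⟨i, hi⟩ := hz ⟨x, hx⟩
        rw [show x = (z : G) ^ i from (congrArg Subtype.val hi).symm]
        exact zpow_mem hA i
      · omega
    obtain ⟨A, hA, hzA⟩ := h.1.2 z
    exact hall A hA (hzgen A hzA)

/-- The conclusions for an abelian Sylow subgroup that is not elementary abelian of order `> p`. -/
theorem sylow_conclusion (h : NilpCover 𝓐) (hZ : Subgroup.center G = ⊥) (P : Sylow p G)
    (hab : IsMulCommutative (P : Subgroup G)) (hnn : ¬ (P : Subgroup G).Normal)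
    (hnel : ¬ (Cfsg.IsElementaryAbelian p (P : Subgroup G) ∧ p < Nat.card (P : Subgroup G))) :
    ∃ A ∈ 𝓐, (P : Subgroup G) ≤ A ∧ Subgroup.centralizer ((P : Subgroup G) : Set G) = A ∧
      IsCoatom (Subgroup.normalizer ((P : Subgroup G) : Set G)) ∧
      (∀ M : Subgroup G, IsCoatom M → A ≤ M → M = Subgroup.normalizer ((P : Subgroup G) : Set G)) ∧
      ∀ g : G, g ∉ Subgroup.normalizer ((P : Subgroup G) : Set G) →
        ¬ p ∣ Nat.card ↥(Subgroup.normalizer ((P : Subgroup G) : Set G) ⊓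
          (Subgroup.normalizer ((P : Subgroup G) : Set G)).map (MulAut.conj g).toMonoidHom) := by
  have hPne : (P : Subgroup G) ≠ ⊥ := fun hb => hnn (hb ▸ inferInstance)
  obtain ⟨A, hA, hPA⟩ := h.exists_member_ge hZ P hab hnel
  have hcA := h.centralizer_eq_member hZ P hab hPne hA hPA
  set N := Subgroup.normalizer ((P : Subgroup G) : Set G) with hN
  have hAN : A ≤ N := hcA ▸ Subgroup.centralizer_le_normalizer _
  -- the member over a conjugate
  have hconj : ∀ g : G, g ∉ N → ∃ B ∈ 𝓐, B ≠ A ∧ ((g • P : Sylow p G) : Subgroup G) ≤ B ∧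
      ∀ b ∈ B, g⁻¹ * b * g ∈ A := by
    intro g hg
    have hcoe : ((g • P : Sylow p G) : Subgroup G) =
        (P : Subgroup G).map (MulAut.conj g).toMonoidHom := Sylow.coe_subgroup_smul
    have hab' : IsMulCommutative ((g • P : Sylow p G) : Subgroup G) := by
      rw [hcoe]; haveI := hab; exact Subgroup.map_isMulCommutative _ _
    have hcard : Nat.card ((g • P : Sylow p G) : Subgroup G) = Nat.card (P : Subgroup G) := by
      rw [hcoe]
      exact (Nat.card_congr ((P : Subgroup G).equivMapOfInjective _ (MulAut.conj g).injective).toEquiv).symm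
    obtain ⟨B, hB, hgB⟩ := h.exists_member_ge hZ (g • P) hab' fun ⟨he, hlt⟩ => hnel ⟨⟨hab, fun a ha => by
      have h1 : g * a * g⁻¹ ∈ ((g • P : Sylow p G) : Subgroup G) := hcoe ▸ ⟨a, ha, rfl⟩
      have h2 := he.2 _ h1
      rwa [conj_pow, mul_inv_eq_one, mul_eq_left] at h2⟩, hcard ▸ hlt⟩
    refine ⟨B, hB, fun he => ?_, hgB, fun b hb => ?_⟩
    · apply hg
      refine Sylow.smul_eq_iff_mem_normalizer.1 (Sylow.ext ?_)
      refine Subgroup.eq_of_le_of_card_ge (fun x hx => ?_) hcard.ge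
      obtain ⟨k, hk⟩ := IsPGroup.iff_orderOf.1 (g • P).2 ⟨x, hx⟩
      exact mem_unique_sylow (h.2.2 A hA) hPA (he ▸ hgB hx) ⟨k, by rwa [Subgroup.orderOf_mk] at hk⟩
    · rw [← hcA, Subgroup.mem_centralizer_iff]
      intro x hx
      have h1 : g * x * g⁻¹ ∈ ((g • P : Sylow p G) : Subgroup G) := hcoe ▸ ⟨x, hx, rfl⟩
      have h2 : b * (g * x * g⁻¹) = g * x * g⁻¹ * b := Subgroup.mem_centralizer_singleton_iff.1
        (h.le_centralizer_of_mem (g • P) hab' h1 hB (hgB h1) hb)
      calc x * (g⁻¹ * b * g) = g⁻¹ * (g * x * g⁻¹ * b) * g := by group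
        _ = g⁻¹ * (b * (g * x * g⁻¹)) * g := by rw [h2]
        _ = g⁻¹ * b * g * x := by group
  have hover : ∀ M : Subgroup G, M ≠ ⊤ → A ≤ M → M ≤ N := by
    intro M hM hAM g hg
    by_contra hgN
    obtain ⟨B, hB, hne, -, hBA⟩ := hconj g hgN
    refine hM (top_le_iff.1 ((h.sup_eq_top hB hA hne) ▸ sup_le (fun b hb => ?_) hAM))
    have h1 := mul_mem (mul_mem hg (hAM (hBA b hb))) (inv_mem hg)
    simpa [mul_assoc] using h1
  have hNtop : N ≠ ⊤ := fun h => hnn (Subgroup.normalizer_eq_top_iff.1 h)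
  refine ⟨A, hA, hPA, hcA, ⟨hNtop, fun M hM => ?_⟩, fun M hM hAM => ?_, fun g hg hdvd => ?_⟩
  · by_contra hMt
    exact hM.not_ge (hover M hMt (hAN.trans hM.le))
  · by_contra hne
    exact hNtop (hM.2 N (lt_of_le_of_ne (hover M hM.1 hAM) hne))
  · obtain ⟨⟨y, hy⟩, hyo⟩ := exists_prime_orderOf_dvd_card' p hdvd
    rw [Subgroup.orderOf_mk] at hyo
    obtain ⟨hyN, w, hw, rfl⟩ := hy
    obtain ⟨B, hB, hne, hgB, -⟩ := hconj g hg
    have hwo : orderOf w = p ^ 1 := by
      rw [pow_one, ← hyo]; exact ((MulAut.conj g).orderOf_eq w).symm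
    have hwP := mem_sylow_of_normalizes P ⟨1, hwo⟩ hw
    have hyP := mem_sylow_of_normalizes P ⟨1, by rw [pow_one]; exact hyo⟩ hyN
    have hygP : (MulAut.conj g).toMonoidHom w ∈ ((g • P : Sylow p G) : Subgroup G) := by
      rw [Sylow.coe_subgroup_smul]; exact ⟨w, hwP, rfl⟩
    refine hne (h.unique_member hZ P hab hyP (fun h1 => ?_) hB hA (hgB hygP) (hPA hyP))
    rw [h1, orderOf_one] at hyo
    exact hp.out.one_lt.ne hyo

end NilpCover

end Cfsg.Agent.H85
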