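import Mathlib
import Cfsg.Agent.H85.NilpotentCover

/-!
# Elements of `GL_n(q)` for refuting minimal covers by nilpotent subgroups
-/

set_option autoImplicit false
set_option linter.unusedSectionVars false

open Matrix

namespace Cfsg.Agent.H85

variable {F : Type*} [Field F] {n : ℕ}

/-- `v` spans a line fixed by `g`. -/
def IsEig (g : GL (Fin n) F) (v : Fin n → F) : Prop :=
  ∃ c : F, (g : Matrix (Fin n) (Fin n) F) *ᵥ v = c • v

theorem mulVec_inv_cancel (g : GL (Fin n) F) (v : Fin n → F) :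
    ((g⁻¹ : GL (Fin n) F) : Matrix (Fin n) (Fin n) F) *ᵥ ((g : Matrix (Fin n) (Fin n) F) *ᵥ v) = v := by
  rw [Matrix.mulVec_mulVec, Units.inv_mul, Matrix.one_mulVec]

theorem mulVec_ne_zero (g : GL (Fin n) F) {v : Fin n → F} (hv : v ≠ 0) :
    (g : Matrix (Fin n) (Fin n) F) *ᵥ v ≠ 0 := fun h =>
  hv (by rw [← mulVec_inv_cancel g v, h, Matrix.mulVec_zero])

theorem isEig_one (v : Fin n → F) : IsEig (1 : GL (Fin n) F) v := ⟨1, by simp⟩

theorem IsEig.mul {g h : GL (Fin n) F} {v : Fin n → F} (hg : IsEig g v) (hh : IsEig h v) :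
    IsEig (g * h) v := by
  obtain ⟨a, ha⟩ := hg
  obtain ⟨b, hb⟩ := hh
  exact ⟨b * a, by
    rw [Matrix.GeneralLinearGroup.coe_mul, ← Matrix.mulVec_mulVec, hb, Matrix.mulVec_smul, ha,
      smul_smul]⟩

theorem IsEig.inv {g : GL (Fin n) F} {v : Fin n → F} (hg : IsEig g v) : IsEig g⁻¹ v := by
  by_cases hv : v = 0
  · exact ⟨1, by simp [hv]⟩
  obtain ⟨a, ha⟩ := hg
  have ha0 : a ≠ 0 := fun h => mulVec_ne_zero g hv (by rw [ha, h, zero_smul])
  refine ⟨a⁻¹, ?_⟩
  have := mulVec_inv_cancel g v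
  rw [ha, Matrix.mulVec_smul] at this
  conv_rhs => rw [← this, smul_smul, inv_mul_cancel₀ ha0, one_smul]

theorem IsEig.smul {g : GL (Fin n) F} {v : Fin n → F} (hg : IsEig g v) (c : F) :
    IsEig g (c • v) := by
  obtain ⟨a, ha⟩ := hg
  exact ⟨a, by rw [Matrix.mulVec_smul, ha, smul_comm]⟩

/-- The stabiliser of a line. -/
def lineStab (v : Fin n → F) : Subgroup (GL (Fin n) F) where
  carrier := {g | IsEig g v}
  one_mem' := isEig_one v
  mul_mem' := IsEig.mul
  inv_mem' := IsEig.inv

theorem mem_lineStab {g : GL (Fin n) F} {v : Fin n → F} : g ∈ lineStab v ↔ IsEig g v := Iff.rfl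

theorem isEig_of_mem_center {g : GL (Fin n) F} (hg : g ∈ Subgroup.center (GL (Fin n) F))
    (v : Fin n → F) : IsEig g v := by
  rw [Matrix.GeneralLinearGroup.center_eq_range_scalar] at hg
  obtain ⟨r, rfl⟩ := hg
  refine ⟨r, ?_⟩
  show (Matrix.scalar (Fin n) (r : F)) *ᵥ v = (r : F) • v
  ext i
  simp [Matrix.scalar_apply, Matrix.mulVec_diagonal]

/-- The eigenlines of a conjugate. -/
theorem isEig_conj_iff (a g : GL (Fin n) F) (v : Fin n → F) :
    IsEig (a * g * a⁻¹) v ↔ IsEig g (((a⁻¹ : GL (Fin n) F) : Matrix _ _ F) *ᵥ v) := by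
  constructor
  · rintro ⟨c, hc⟩
    refine ⟨c, ?_⟩
    have := congrArg (fun w => ((a⁻¹ : GL (Fin n) F) : Matrix (Fin n) (Fin n) F) *ᵥ w) hc
    simp only [Matrix.mulVec_smul, Matrix.mulVec_mulVec, ← Matrix.GeneralLinearGroup.coe_mul] at this
    rw [show a⁻¹ * (a * g * a⁻¹) = g * a⁻¹ by group] at this
    rw [Matrix.mulVec_mulVec, ← Matrix.GeneralLinearGroup.coe_mul]
    exact this
  · rintro ⟨c, hc⟩
    refine ⟨c, ?_⟩
    have := congrArg (fun w => (a : Matrix (Fin n) (Fin n) F) *ᵥ w) hc
    simp only [Matrix.mulVec_smul, Matrix.mulVec_mulVec, ← Matrix.GeneralLinearGroup.coe_mul] at this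
    rw [← mul_assoc, mul_inv_cancel, Matrix.GeneralLinearGroup.coe_one, Matrix.one_mulVec] at this
    exact this

/-- A nilpotent subgroup containing an element with a unique eigenline fixes that line. -/
theorem le_lineStab {K : Subgroup (GL (Fin n) F)} (hK : Group.IsNilpotent K) {x : GL (Fin n) F}
    (hx : x ∈ K) {v : Fin n → F} (hv : v ≠ 0) (hxv : IsEig x v)
    (huniq : ∀ w, w ≠ 0 → IsEig x w → ∃ c : F, w = c • v) : K ≤ lineStab v := by
  refine nilpotent_induction hK (fun a => IsEig a v) (isEig_one v) fun a _ h => ?_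
  have h1 : IsEig (a * x * a⁻¹) v := by simpa using (h x hx).mul hxv
  obtain ⟨c, hc⟩ := huniq _ (mulVec_ne_zero _ hv) ((isEig_conj_iff a x v).1 h1)
  simpa using (IsEig.inv ⟨c, hc⟩ : IsEig a⁻¹⁻¹ v)

/-- A commuting element fixes the unique eigenline. -/
theorem isEig_of_commute {x y : GL (Fin n) F} (hc : Commute x y) {v : Fin n → F} (hv : v ≠ 0)
    (hxv : IsEig x v) (huniq : ∀ w, w ≠ 0 → IsEig x w → ∃ c : F, w = c • v) : IsEig y v := by
  have h1 : IsEig (y⁻¹⁻¹ * x * y⁻¹) v := by
    rw [inv_inv, ← hc.eq, mul_inv_cancel_right]; exact hxv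
  rw [inv_inv] at h1
  obtain ⟨c, hc'⟩ := huniq _ (mulVec_ne_zero _ hv) ((isEig_conj_iff y x v).1 h1)
  simpa using (IsEig.inv ⟨c, hc'⟩ : IsEig y⁻¹⁻¹ v)

section Regular

/-- The matrix of a regular unipotent element. -/
def jordanMat (n : ℕ) : Matrix (Fin n) (Fin n) F :=
  Matrix.of fun i j => if (j : ℕ) = i + 1 then 1 else if j = i then 1 else 0

theorem jordanMat_mulVec (v : Fin n → F) (i : Fin n) :
    (jordanMat n *ᵥ v) i = v i + if h : (i : ℕ) + 1 < n then v ⟨i + 1, h⟩ else 0 := by
  simp only [Matrix.mulVec, dotProduct, jordanMat, Matrix.of_apply, ite_mul, one_mul, zero_mul]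
  have e : ∀ j : Fin n, (if (j : ℕ) = i + 1 then v j else if j = i then v j else 0)
      = (if j = i then v j else 0) + (if (j : ℕ) = i + 1 then v j else 0) := by
    intro j
    by_cases h1 : (j : ℕ) = i + 1
    · have : j ≠ i := fun h => by rw [h] at h1; omega
      simp [h1, this]
    · simp [h1]
  rw [Finset.sum_congr rfl (fun j _ => e j), Finset.sum_add_distrib, Finset.sum_ite_eq' Finset.univ i]
  simp only [Finset.mem_univ, if_true, add_right_inj]
  split_ifs with h
  · rw [Finset.sum_eq_single_of_mem (⟨i + 1, h⟩ : Fin n) (Finset.mem_univ _)]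
    · simp
    · intro j _ hj
      rw [if_neg]
      exact fun he => hj (Fin.ext he)
  · refine Finset.sum_eq_zero fun j _ => if_neg ?_
    have := j.2
    omega

theorem jordanMat_det : (jordanMat (F := F) n).det = 1 := by
  rw [Matrix.det_of_isUpperTriangular]
  · exact Finset.prod_eq_one fun i _ => by simp [jordanMat]
  · intro i j hij
    simp only [jordanMat, Matrix.of_apply]
    have h1 : (j : ℕ) < i := hij
    rw [if_neg (by omega), if_neg (fun h => by rw [h] at h1; omega)]

theorem jordanMat_nil : ((jordanMat (F := F) n) - 1) ^ n = 0 := by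
  have key : ∀ k : ℕ, ∀ i j : Fin n, (((jordanMat (F := F) n) - 1) ^ k) i j ≠ 0 →
      (i : ℕ) + k ≤ j := by
    intro k
    induction k with
    | zero =>
      intro i j h
      rw [pow_zero, Matrix.one_apply] at h
      by_cases hij : i = j
      · rw [hij, add_zero]
      · simp [hij] at h
    | succ k ih =>
      intro i j h
      rw [pow_succ', Matrix.mul_apply] at h
      obtain ⟨l, -, hl⟩ := Finset.exists_ne_zero_of_sum_ne_zero h
      have h1 := ih l j (fun h0 => hl (by rw [h0, mul_zero]))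
      have h2 : ((jordanMat (F := F) n) - 1) i l ≠ 0 := fun h0 => hl (by rw [h0, zero_mul])
      simp only [jordanMat, Matrix.sub_apply, Matrix.of_apply, Matrix.one_apply] at h2
      by_cases hl1 : (l : ℕ) = i + 1
      · omega
      · exfalso
        apply h2
        by_cases hli : l = i
        · subst hli; simp
        · simp [hl1, hli, Ne.symm hli]
  ext i j
  by_contra h
  have := key n i j h
  have := j.2
  omega

/-- The regular unipotent element, as an element of `SL_n`. -/
def jordanSL (n : ℕ) (F : Type*) [Field F] : Matrix.SpecialLinearGroup (Fin n) F :=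
  ⟨jordanMat n, jordanMat_det⟩

theorem jordan_eig_unique {m : ℕ} {v : Fin (m + 1) → F} (hv : v ≠ 0) {c : F}
    (h : jordanMat (m + 1) *ᵥ v = c • v) : ∃ d : F, v = d • Pi.single 0 1 := by
  have hrec : ∀ i : Fin (m + 1), v i + (if h : (i : ℕ) + 1 < m + 1 then v ⟨i + 1, h⟩ else 0)
      = c * v i := fun i => by rw [← jordanMat_mulVec, h]; rfl
  by_cases hc : c = 1
  · refine ⟨v 0, funext fun i => ?_⟩
    rcases Fin.eq_zero_or_eq_succ i with rfl | ⟨j, rfl⟩
    · simp
    · have := hrec j.castSucc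
      have hj : (j.castSucc : ℕ) + 1 < m + 1 := by simp
      rw [dif_pos hj, hc, one_mul, add_eq_left] at this
      rw [Pi.smul_apply, Pi.single_eq_of_ne (Fin.succ_ne_zero j), smul_zero, ← this]
      rfl
  · exfalso
    apply hv
    have hall : ∀ k : ℕ, ∀ i : Fin (m + 1), (i : ℕ) + k = m → v i = 0 := by
      intro k
      induction k with
      | zero =>
        intro i hi
        have := hrec i
        rw [dif_neg (by omega), add_zero] at this
        have h' : (c - 1) * v i = 0 := by linear_combination -this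
        exact (mul_eq_zero.1 h').resolve_left (sub_ne_zero.2 hc)
      | succ k ih =>
        intro i hi
        have := hrec i
        rw [dif_pos (by omega : (i : ℕ) + 1 < m + 1),
          ih ⟨(i : ℕ) + 1, by omega⟩ (by simp only; omega), add_zero] at this
        have h' : (c - 1) * v i = 0 := by linear_combination -this
        exact (mul_eq_zero.1 h').resolve_left (sub_ne_zero.2 hc)
    funext i
    exact hall (m - i) i (by omega)

/-- The regular unipotent element has `p`-power order. -/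
theorem jordan_pow_prime_pow (p : ℕ) [Fact p.Prime] [CharP F p] (m : ℕ) :
    (jordanSL (m + 1) F) ^ p ^ (m + 1) = 1 := by
  apply Subtype.ext
  rw [Matrix.SpecialLinearGroup.coe_pow, Matrix.SpecialLinearGroup.coe_one]
  show jordanMat (m + 1) ^ p ^ (m + 1) = 1
  have h1 : jordanMat (m + 1) = (jordanMat (F := F) (m + 1) - 1) + 1 := (sub_add_cancel _ _).symm
  rw [h1, add_pow_char_pow_of_commute p (m + 1) (Commute.one_right _), one_pow,
    pow_eq_zero_of_le (Nat.lt_pow_self (Fact.out : p.Prime).one_lt).le jordanMat_nil, zero_add]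

end Regular

section Semisimple

variable [Finite F]

/-- An element of `SL_{m+1}(q)`, `m ≥ 2`, of order prime to `p`, fixing only the first coordinate
line and not commuting with the regular unipotent element. -/
theorem exists_semisimple (p : ℕ) [hp : Fact p.Prime] [CharP F p] {m : ℕ} (hm : 2 ≤ m) :
    ∃ y : Matrix.SpecialLinearGroup (Fin (m + 1)) F, ¬ p ∣ orderOf y ∧
      (∃ c : F, (y : Matrix (Fin (m + 1)) (Fin (m + 1)) F) *ᵥ Pi.single 0 1 = c • Pi.single 0 1) ∧
      (∀ w, w ≠ 0 → ∀ c : F, (y : Matrix (Fin (m + 1)) (Fin (m + 1)) F) *ᵥ w = c • w →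
        ∃ d : F, w = d • Pi.single 0 1) ∧
      (jordanMat (m + 1) : Matrix (Fin (m + 1)) (Fin (m + 1)) F) * (y : Matrix (Fin (m + 1)) (Fin (m + 1)) F) ≠
        (y : Matrix (Fin (m + 1)) (Fin (m + 1)) F) * jordanMat (m + 1) := by
  classical
  haveI : NeZero m := ⟨by omega⟩
  obtain ⟨E, _, _, _, _, hEF, hEcard⟩ : ∃ (E : Type) (_ : Field E) (_ : Finite E) (_ : Algebra F E)
      (_ : Module.Finite F E), Module.finrank F E = m ∧ Nat.card E = Nat.card F ^ m :=
    ⟨FiniteField.Extension F p m, inferInstance, inferInstance, inferInstance, inferInstance,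
      FiniteField.finrank_extension F p m, FiniteField.natCard_extension F p m⟩
  haveI := Fintype.ofFinite E
  obtain ⟨ζ, hζ⟩ : ∃ ζ : E, ∀ a : F, algebraMap F E a ≠ ζ := by
    by_contra hall
    push Not at hall
    have hsurj : Function.Surjective (algebraMap F E) := fun ζ => hall ζ
    have h1 := Nat.card_le_card_of_surjective _ hsurj
    rw [hEcard] at h1
    have h2 : 1 < Nat.card F := Finite.one_lt_card
    have h3 : Nat.card F ^ 1 < Nat.card F ^ m := Nat.pow_lt_pow_right h2 (by omega)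
    rw [pow_one] at h3
    omega
  have hζ0 : ζ ≠ 0 := fun h => hζ 0 (by rw [map_zero, h])
  set Lζ : E →ₗ[F] E := LinearMap.mulLeft F ζ
  have hd0 : LinearMap.det Lζ ≠ 0 := by
    intro h
    have hbij : Function.Bijective Lζ :=
      ⟨fun a b hab => mul_left_cancel₀ hζ0 hab, fun a => ⟨ζ⁻¹ * a, by
        show ζ * (ζ⁻¹ * a) = a
        rw [← mul_assoc, mul_inv_cancel₀ hζ0, one_mul]⟩⟩
    have := LinearEquiv.isUnit_det' (LinearEquiv.ofBijective Lζ hbij)
    exact this.ne_zero h
  set c : F := (LinearMap.det Lζ)⁻¹ with hc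
  set φ : (F × E) ≃ₗ[F] (Fin (m + 1) → F) :=
    (LinearEquiv.prodCongr (LinearEquiv.refl F F)
      ((Module.finBasisOfFinrankEq F E hEF).equivFun)).trans
      (Fin.consLinearEquiv F (fun _ => F)) with hφ
  have hφ0 : ∀ a : F × E, φ a 0 = a.1 := fun a => rfl
  set Y : F × E →ₗ[F] F × E := LinearMap.prodMap (c • LinearMap.id) Lζ with hY
  have hYap : ∀ a : F × E, Y a = (c * a.1, ζ * a.2) := fun a => rfl
  set T : (Fin (m + 1) → F) →ₗ[F] (Fin (m + 1) → F) :=
    φ.toLinearMap ∘ₗ Y ∘ₗ φ.symm.toLinearMap with hT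
  set y₀ : Matrix (Fin (m + 1)) (Fin (m + 1)) F := LinearMap.toMatrix' T with hy₀
  have hmv : ∀ w, y₀ *ᵥ w = φ (Y (φ.symm w)) := fun w => LinearMap.toMatrix'_mulVec T w
  have hdet : y₀.det = 1 := by
    rw [hy₀, LinearMap.det_toMatrix', hT, LinearMap.det_conj, hY, LinearMap.det_prodMap,
      LinearMap.det_smul, LinearMap.det_id, mul_one, Module.finrank_self, pow_one, hc,
      inv_mul_cancel₀ hd0]
  let y : Matrix.SpecialLinearGroup (Fin (m + 1)) F := ⟨y₀, hdet⟩
  have hpow : ∀ k (w : Fin (m + 1) → F),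
      (y₀ ^ k) *ᵥ w = φ (c ^ k * (φ.symm w).1, ζ ^ k * (φ.symm w).2) := by
    intro k
    induction k with
    | zero => intro w; simp
    | succ k ih =>
      intro w
      rw [pow_succ', ← Matrix.mulVec_mulVec, ih, hmv, LinearEquiv.symm_apply_apply, hYap]
      simp only [pow_succ']
      congr 2 <;> ring
  have hE1 : ∀ a : E, a ≠ 0 → a ^ (Nat.card E - 1) = 1 := fun a ha => by
    rw [Nat.card_eq_fintype_card]; exact FiniteField.pow_card_sub_one_eq_one a ha
  have hordy : orderOf y ∣ Nat.card E - 1 := by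
    apply orderOf_dvd_of_pow_eq_one
    apply Subtype.ext
    rw [Matrix.SpecialLinearGroup.coe_pow, Matrix.SpecialLinearGroup.coe_one]
    have hcE : c ^ (Nat.card E - 1) = 1 := (algebraMap F E).injective (by
      rw [map_pow, map_one, hE1]
      rw [map_ne_zero]
      exact inv_ne_zero hd0)
    refine Matrix.ext_of_mulVec_single fun i => ?_
    show (y₀ ^ (Nat.card E - 1)) *ᵥ _ = _
    rw [hpow, hcE, hE1 ζ hζ0, one_mul, one_mul, Matrix.one_mulVec]
    exact φ.apply_symm_apply _
  have hpd : ¬ p ∣ orderOf y := by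
    intro h
    have h1 := h.trans hordy
    haveI : CharP E p := charP_of_injective_algebraMap (algebraMap F E).injective p
    have h2 : p ∣ Nat.card E := (CharP.cast_eq_zero_iff E p _).1 (Nat.cast_card_eq_zero E |>
      fun h => by rw [Nat.card_eq_fintype_card]; exact_mod_cast h)
    have h3 : 0 < Nat.card E := Nat.card_pos
    have := Nat.dvd_sub h2 h1
    rw [Nat.sub_sub_self h3] at this
    exact hp.out.not_dvd_one this
  have hsingle : φ.symm (Pi.single 0 1) = ((1 : F), (0 : E)) := by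
    rw [LinearEquiv.symm_apply_eq, hφ]
    funext i
    refine Fin.cases ?_ (fun j => ?_) i
    · rw [Pi.single_eq_same]; rfl
    · rw [Pi.single_eq_of_ne (Fin.succ_ne_zero j)]
      simp [LinearEquiv.trans_apply, Fin.consLinearEquiv]
  refine ⟨y, hpd, ⟨c, ?_⟩, fun w hw c' hw' => ?_, ?_⟩
  · show y₀ *ᵥ _ = _
    rw [hmv, hsingle, hYap]
    conv_rhs => rw [← φ.apply_symm_apply (Pi.single 0 1), hsingle, ← map_smul]
    simp
  · have h1 : Y (φ.symm w) = c' • φ.symm w := by
      apply φ.injective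
      rw [map_smul, φ.apply_symm_apply, ← hmv]
      exact hw'
    rw [hYap, Prod.ext_iff] at h1
    have h2 : ζ * (φ.symm w).2 = algebraMap F E c' * (φ.symm w).2 := by
      rw [← Algebra.smul_def]; exact h1.2
    have h3 : (φ.symm w).2 = 0 := by
      by_contra hne
      exact hζ c' (mul_right_cancel₀ hne h2).symm
    refine ⟨(φ.symm w).1, φ.symm.injective ?_⟩
    rw [map_smul, hsingle]
    exact Prod.ext (by simp) (by simp [h3])
  · intro hcomm
    -- the image of `y - c` is killed by the first coordinate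
    haveI : NeZero (m + 1) := ⟨by omega⟩
    set e1 : Fin (m + 1) → F := Pi.single ⟨1, by omega⟩ 1 with he1
    set u : Fin (m + 1) → F := φ (0, (ζ - algebraMap F E c)⁻¹ * (φ.symm e1).2) with hu
    have hne : ζ - algebraMap F E c ≠ 0 := sub_ne_zero.2 (Ne.symm (hζ c))
    have he10 : (φ.symm e1).1 = 0 := by
      rw [← hφ0, φ.apply_symm_apply, he1, Pi.single_eq_of_ne]
      intro h
      exact absurd (congrArg Fin.val h) (by simp)
    have hue : y₀ *ᵥ u - c • u = e1 := by
      rw [hmv, hu, φ.symm_apply_apply, hYap, ← map_smul, ← map_sub]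
      conv_rhs => rw [← φ.apply_symm_apply e1]
      congr 1
      refine Prod.ext (by simp [he10]) ?_
      rw [Prod.snd_sub, Prod.smul_snd, Algebra.smul_def]
      rw [← sub_mul, ← mul_assoc, mul_inv_cancel₀ hne, one_mul]
    have h0 : ∀ w, (y₀ *ᵥ w - c • w) 0 = 0 := by
      intro w
      rw [Pi.sub_apply, Pi.smul_apply, hmv, hφ0, hYap]
      conv_lhs => arg 2; rw [← φ.apply_symm_apply w, hφ0]
      simp
    have h1 : (jordanMat (m + 1) *ᵥ e1) 0 = 1 := by
      rw [jordanMat_mulVec, dif_pos (by simp; omega), he1]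
      rw [Pi.single_eq_of_ne (fun h => absurd (congrArg Fin.val h) (by simp)), zero_add]
      simp
    rw [← hue, Matrix.mulVec_sub, Matrix.mulVec_smul, Matrix.mulVec_mulVec] at h1
    change jordanMat (m + 1) * y₀ = y₀ * jordanMat (m + 1) at hcomm
    rw [hcomm, ← Matrix.mulVec_mulVec] at h1
    exact zero_ne_one ((h0 _).symm.trans h1)

end Semisimple

end Cfsg.Agent.H85
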