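import Mathlib
import Cfsg.Agent.H85.EigenCover

/-!
# Two-by-two matrices for refuting minimal covers by nilpotent subgroups
-/

set_option autoImplicit false
set_option linter.unusedSectionVars false
set_option linter.style.haveILetI false

open Matrix

namespace Cfsg.Agent.H85

variable {F : Type*} [Field F]

/-- The transvection fixing exactly the line of `v`. -/
def tvSL (v : Fin 2 → F) : Matrix.SpecialLinearGroup (Fin 2) F :=
  ⟨!![1 - v 0 * v 1, v 0 * v 0; -(v 1 * v 1), 1 + v 0 * v 1], by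
    rw [Matrix.det_fin_two_of]; ring⟩

theorem tvSL_mulVec (v w : Fin 2 → F) :
    (tvSL v : Matrix (Fin 2) (Fin 2) F) *ᵥ w = w + (v 0 * w 1 - v 1 * w 0) • v := by
  ext i
  fin_cases i <;> simp [tvSL, Matrix.mulVec, dotProduct, Fin.sum_univ_two] <;> ring

theorem tvSL_eig (v : Fin 2 → F) :
    (tvSL v : Matrix (Fin 2) (Fin 2) F) *ᵥ v = (1 : F) • v := by
  rw [tvSL_mulVec, mul_comm (v 0) (v 1), sub_self, zero_smul, add_zero, one_smul]

theorem tvSL_eig_unique {v w : Fin 2 → F} (hv : v ≠ 0) {c : F}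
    (h : (tvSL v : Matrix (Fin 2) (Fin 2) F) *ᵥ w = c • w) : ∃ d : F, w = d • v := by
  rw [tvSL_mulVec] at h
  set e := v 0 * w 1 - v 1 * w 0 with he
  have h' : (c - 1) • w = e • v := by
    rw [sub_smul, one_smul, ← h, add_sub_cancel_left]
  by_cases hc : c = 1
  · rw [hc, sub_self, zero_smul] at h'
    have he0 : e = 0 := by
      by_contra hne
      exact hv ((smul_eq_zero.1 h'.symm).resolve_left hne)
    by_cases h0 : v 0 = 0
    · have h1 : v 1 ≠ 0 := fun h1 => hv (funext fun i => by fin_cases i <;> simp [h0, h1])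
      refine ⟨w 1 / v 1, funext fun i => ?_⟩
      fin_cases i
      · rw [he, h0, zero_mul, zero_sub, neg_eq_zero, mul_eq_zero] at he0
        simpa [h0] using he0.resolve_left h1
      · simp [div_mul_cancel₀ _ h1]
    · refine ⟨w 0 / v 0, funext fun i => ?_⟩
      fin_cases i
      · simp [div_mul_cancel₀ _ h0]
      · show w 1 = w 0 / v 0 * v 1
        rw [div_mul_eq_mul_div, eq_div_iff h0]
        linear_combination he0
  · refine ⟨(c - 1)⁻¹ * e, ?_⟩
    rw [mul_smul, ← h', smul_smul, inv_mul_cancel₀ (sub_ne_zero.2 hc), one_smul]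

theorem tvSL_pow_char (p : ℕ) [hp : Fact p.Prime] [CharP F p] (v : Fin 2 → F) :
    (tvSL v) ^ p = 1 := by
  apply Subtype.ext
  rw [Matrix.SpecialLinearGroup.coe_pow, Matrix.SpecialLinearGroup.coe_one]
  have hN : ((tvSL v : Matrix (Fin 2) (Fin 2) F) - 1) ^ 2 = 0 := by
    rw [sq]
    ext i j
    fin_cases i <;> fin_cases j <;>
      simp [tvSL, Matrix.mul_apply, Fin.sum_univ_two] <;> ring
  have h1 : (tvSL v : Matrix (Fin 2) (Fin 2) F)
      = ((tvSL v : Matrix (Fin 2) (Fin 2) F) - 1) + 1 := (sub_add_cancel _ _).symm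
  rw [h1, add_pow_char_of_commute p (Commute.one_right _), one_pow,
    pow_eq_zero_of_le hp.out.two_le hN, zero_add]

/-- The diagonal element with entries `a`, `a⁻¹`. -/
def diagSL (a : Fˣ) : Matrix.SpecialLinearGroup (Fin 2) F :=
  ⟨!![(a : F), 0; 0, ((a⁻¹ : Fˣ) : F)], by simp [Matrix.det_fin_two_of]⟩

theorem diagSL_mulVec (a : Fˣ) (w : Fin 2 → F) :
    (diagSL a : Matrix (Fin 2) (Fin 2) F) *ᵥ w = ![(a : F) * w 0, ((a⁻¹ : Fˣ) : F) * w 1] := by
  ext i
  fin_cases i <;> simp [diagSL, Matrix.mulVec, dotProduct, Fin.sum_univ_two]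

theorem diagSL_pow (a : Fˣ) (k : ℕ) : (diagSL a) ^ k = diagSL (a ^ k) := by
  induction k with
  | zero =>
    rw [pow_zero, pow_zero]
    apply Subtype.ext
    ext i j
    fin_cases i <;> fin_cases j <;> simp [diagSL]
  | succ k ih =>
    rw [pow_succ, ih]
    apply Subtype.ext
    rw [Matrix.SpecialLinearGroup.coe_mul]
    show !![((a ^ k : Fˣ) : F), 0; 0, (((a ^ k)⁻¹ : Fˣ) : F)] * !![(a : F), 0; 0, ((a⁻¹ : Fˣ) : F)]
      = !![((a ^ (k + 1) : Fˣ) : F), 0; 0, (((a ^ (k + 1))⁻¹ : Fˣ) : F)]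
    ext i j
    fin_cases i <;> fin_cases j <;>
      simp [Matrix.mul_apply, Fin.sum_univ_two, pow_succ, mul_comm]

theorem diagSL_one : diagSL (1 : Fˣ) = 1 := by
  rw [← pow_zero (1 : Fˣ), ← diagSL_pow, pow_zero]

theorem diagSL_eig_cases {a : Fˣ} (ha : (a : F) ≠ ((a⁻¹ : Fˣ) : F)) {w : Fin 2 → F} {c : F}
    (h : (diagSL a : Matrix (Fin 2) (Fin 2) F) *ᵥ w = c • w) :
    (∃ d : F, w = d • Pi.single 0 1) ∨ ∃ d : F, w = d • Pi.single 1 1 := by
  rw [diagSL_mulVec] at h
  have h0 : (a : F) * w 0 = c * w 0 := congrFun h 0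
  have h1 : ((a⁻¹ : Fˣ) : F) * w 1 = c * w 1 := congrFun h 1
  by_cases hw0 : w 0 = 0
  · exact Or.inr ⟨w 1, funext fun i => by fin_cases i <;> simp [hw0]⟩
  · left
    refine ⟨w 0, funext fun i => ?_⟩
    have hca : (a : F) = c := mul_right_cancel₀ hw0 h0
    have hw1 : w 1 = 0 := by
      by_contra hne
      exact ha (hca.trans (mul_right_cancel₀ hne h1).symm)
    fin_cases i <;> simp [hw1]

theorem diagSL_eig_zero (a : Fˣ) :
    (diagSL a : Matrix (Fin 2) (Fin 2) F) *ᵥ Pi.single 0 1 = (a : F) • Pi.single 0 1 := by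
  rw [diagSL_mulVec]; ext i; fin_cases i <;> simp

theorem diagSL_eig_one (a : Fˣ) :
    (diagSL a : Matrix (Fin 2) (Fin 2) F) *ᵥ Pi.single 1 1 =
      ((a⁻¹ : Fˣ) : F) • Pi.single 1 1 := by
  rw [diagSL_mulVec]; ext i; fin_cases i <;> simp

section Torus

open Matrix.SpecialLinearGroup (toGL)

/-- A nilpotent subgroup containing a diagonal element of odd prime order fixes the first
coordinate line. -/
theorem le_lineStab_of_diag [Finite F] {K : Subgroup (GL (Fin 2) F)} (hK : Group.IsNilpotent K)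
    {a : Fˣ} {r : ℕ} (hr : r.Prime) (hr2 : r ≠ 2) (har : orderOf a = r)
    (hyK : toGL (diagSL a) ∈ K) : K ≤ lineStab (Pi.single 0 1) := by
  haveI : Fintype F := Fintype.ofFinite F
  set y := toGL (diagSL a) with hy
  have hya : ∀ w, (y : Matrix (Fin 2) (Fin 2) F) *ᵥ w
      = (diagSL a : Matrix (Fin 2) (Fin 2) F) *ᵥ w := fun w => rfl
  have hne : (a : F) ≠ ((a⁻¹ : Fˣ) : F) := by
    intro h
    have h2 : a ^ 2 = 1 := by rw [sq]; nth_rewrite 2 [Units.ext h]; exact mul_inv_cancel a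
    have h3 := Nat.le_of_dvd two_pos (har ▸ orderOf_dvd_of_pow_eq_one h2)
    have := hr.two_le
    omega
  have hyr : orderOf y ∣ r := orderOf_dvd_of_pow_eq_one (by
    rw [hy, ← map_pow, diagSL_pow, ← har, pow_orderOf_eq_one, diagSL_one, map_one])
  set e0 : Fin 2 → F := Pi.single 0 1 with he0
  set e1 : Fin 2 → F := Pi.single 1 1 with he1
  have he0ne : e0 ≠ 0 := fun h => one_ne_zero (α := F) (by simpa [he0] using congrFun h 0)
  have he1ne : e1 ≠ 0 := fun h => one_ne_zero (α := F) (by simpa [he1] using congrFun h 1)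
  have hy0 : IsEig y e0 := ⟨_, (hya _).trans (diagSL_eig_zero a)⟩
  have hy1 : IsEig y e1 := ⟨_, (hya _).trans (diagSL_eig_one a)⟩
  have hcases : ∀ w, IsEig y w → (∃ d : F, w = d • e0) ∨ ∃ d : F, w = d • e1 := fun w ⟨c, hc⟩ =>
    diagSL_eig_cases hne (by rw [← hya]; exact hc)
  refine fun g hg => (nilpotent_induction hK (fun g => IsEig g e0 ∧ IsEig g e1)
    ⟨isEig_one _, isEig_one _⟩ ?_ g hg).1
  intro g hg h
  obtain ⟨hw0, hw1⟩ := h y hyK
  have hg0 : IsEig (g * y * g⁻¹) e0 := by simpa using hw0.mul hy0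
  have hg1 : IsEig (g * y * g⁻¹) e1 := by simpa using hw1.mul hy1
  rcases hcases _ ((isEig_conj_iff g y e0).1 hg0) with ⟨d, hd⟩ | ⟨d, hd⟩
  · -- `g` fixes both lines
    have hge0 : IsEig g⁻¹ e0 := ⟨d, hd⟩
    rcases hcases _ ((isEig_conj_iff g y e1).1 hg1) with ⟨d', hd'⟩ | ⟨d', hd'⟩
    · exfalso
      have h2 : (g : Matrix (Fin 2) (Fin 2) F) *ᵥ (((g⁻¹ : GL (Fin 2) F) :
          Matrix (Fin 2) (Fin 2) F) *ᵥ e1) = e1 := by
        rw [Matrix.mulVec_mulVec, Units.mul_inv, Matrix.one_mulVec]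
      obtain ⟨c, hc⟩ : IsEig g e0 := by simpa using hge0.inv
      rw [hd', Matrix.mulVec_smul, hc, smul_smul] at h2
      have h3 := congrFun h2 1
      simp [he0, he1] at h3
    · exact ⟨by simpa using hge0.inv, by simpa using (IsEig.inv ⟨d', hd'⟩ : IsEig g⁻¹⁻¹ e1)⟩
  · -- `g` would swap the lines
    exfalso
    have hnot : ¬ IsEig g e0 := by
      intro hge
      obtain ⟨c, hc⟩ := hge.inv
      rw [hc] at hd
      have h3 := congrFun hd 0
      simp [he0, he1] at h3
      have := mulVec_ne_zero (g⁻¹) he0ne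
      rw [hc, h3, zero_smul] at this
      exact this rfl
    have hsq : IsEig (g⁻¹ * g⁻¹) e0 := by
      rcases hcases _ ((isEig_conj_iff g y e1).1 hg1) with ⟨d', hd'⟩ | ⟨d', hd'⟩
      · refine ⟨d * d', ?_⟩
        rw [Matrix.GeneralLinearGroup.coe_mul, ← Matrix.mulVec_mulVec, hd, Matrix.mulVec_smul, hd',
          smul_smul]
      · have hd'0 : d' ≠ 0 := fun h0 => mulVec_ne_zero g⁻¹ he1ne (by rw [hd', h0, zero_smul])
        have h2 : (g : Matrix (Fin 2) (Fin 2) F) *ᵥ (((g⁻¹ : GL (Fin 2) F) :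
            Matrix (Fin 2) (Fin 2) F) *ᵥ e0) = e0 := by
          rw [Matrix.mulVec_mulVec, Units.mul_inv, Matrix.one_mulVec]
        obtain ⟨c, hc⟩ : IsEig g e1 := by simpa using (IsEig.inv ⟨d', hd'⟩ : IsEig g⁻¹⁻¹ e1)
        rw [hd, Matrix.mulVec_smul, hc, smul_smul] at h2
        have h3 := congrFun h2 0
        simp [he0, he1] at h3
    -- the odd part of the order
    obtain ⟨k, m, hm, hgm⟩ :=
      Nat.exists_eq_pow_mul_and_not_dvd (orderOf_pos g).ne' 2 (by norm_num)
    obtain ⟨j, hj⟩ : Odd m := Nat.odd_iff.2 (Nat.two_dvd_ne_zero.1 hm)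
    set t := g ^ m with ht
    have htnot : ¬ IsEig t e0 := by
      intro hte
      apply hnot
      have hpow : ∀ i : ℕ, IsEig ((g⁻¹ * g⁻¹) ^ i) e0 := by
        intro i
        induction i with
        | zero => exact isEig_one _
        | succ i ih => rw [pow_succ]; exact ih.mul hsq
      have hge : g = t * (g⁻¹ * g⁻¹) ^ j := by
        rw [ht, hj, ← sq, ← pow_mul, inv_pow, eq_mul_inv_iff_mul_eq, ← pow_succ']
      rw [hge]
      exact hte.mul (hpow j)
    have hty : Commute t y := by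
      refine commute_of_coprime_nilpotent hK (K.pow_mem hg m) hyK ?_
      refine Nat.Coprime.coprime_dvd_right hyr (Nat.Coprime.coprime_dvd_left (orderOf_dvd_of_pow_eq_one
        (show t ^ 2 ^ k = 1 by rw [ht, ← pow_mul, mul_comm, ← hgm, pow_orderOf_eq_one]))
        (((Nat.coprime_primes Nat.prime_two hr).2 (Ne.symm hr2)).pow_left k))
    have heig : (y : Matrix (Fin 2) (Fin 2) F) *ᵥ ((t : Matrix (Fin 2) (Fin 2) F) *ᵥ e0)
        = (a : F) • ((t : Matrix (Fin 2) (Fin 2) F) *ᵥ e0) := by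
      rw [Matrix.mulVec_mulVec, ← Matrix.GeneralLinearGroup.coe_mul, ← hty.eq,
        Matrix.GeneralLinearGroup.coe_mul, ← Matrix.mulVec_mulVec, hya, diagSL_eig_zero,
        Matrix.mulVec_smul]
    rcases hcases _ ⟨_, heig⟩ with ⟨f, hf⟩ | ⟨f, hf⟩
    · exact htnot ⟨f, hf⟩
    · have hf0 : f ≠ 0 := fun h0 => mulVec_ne_zero t he0ne (by rw [hf, h0, zero_smul])
      rw [hf, Matrix.mulVec_smul, hya, diagSL_eig_one, smul_smul, smul_smul] at heig
      have h3 := congrFun heig 1
      simp [he1] at h3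
      exact hne (mul_left_cancel₀ hf0 (by rw [Units.val_inv_eq_inv_val]; linear_combination -h3))

end Torus

section Field

/-- No eigenvectors. -/
def NoEig (g : GL (Fin 2) F) : Prop := ∀ w, w ≠ 0 → ¬ IsEig g w

theorem NoEig.entry_ne {g : GL (Fin 2) F} (hg : NoEig g) :
    (g : Matrix (Fin 2) (Fin 2) F) 1 0 ≠ 0 := by
  intro h
  refine hg (Pi.single 0 1) (fun h0 => one_ne_zero (α := F) (by simpa using congrFun h0 0))
    ⟨(g : Matrix (Fin 2) (Fin 2) F) 0 0, ?_⟩
  ext i
  fin_cases i <;> simp [Matrix.mulVec, dotProduct, Fin.sum_univ_two, h]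

/-- Matrices commuting with a matrix without eigenvectors are linear polynomials in it. -/
theorem NoEig.exists_linear {g : GL (Fin 2) F} (hg : NoEig g) {h : Matrix (Fin 2) (Fin 2) F}
    (hc : h * (g : Matrix (Fin 2) (Fin 2) F) = (g : Matrix (Fin 2) (Fin 2) F) * h) :
    ∃ a b : F, h = a • (1 : Matrix (Fin 2) (Fin 2) F) + b • (g : Matrix (Fin 2) (Fin 2) F) := by
  have h10 := hg.entry_ne
  set M := (g : Matrix (Fin 2) (Fin 2) F) with hM
  refine ⟨h 0 0 - h 1 0 / M 1 0 * M 0 0, h 1 0 / M 1 0, ?_⟩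
  have e00 := congrFun (congrFun hc 0) 0
  have e10 := congrFun (congrFun hc 1) 0
  simp [Matrix.mul_apply, Fin.sum_univ_two] at e00 e10
  ext i j
  fin_cases i <;> fin_cases j <;> simp [Matrix.add_apply, Matrix.smul_apply]
  · field_simp
    linear_combination e00
  · field_simp
  · field_simp
    linear_combination e10

theorem centralizer_eq_of_commute {y y' : GL (Fin 2) F} (hy : NoEig y) (hy' : NoEig y')
    (hc : Commute y y') :
    Subgroup.centralizer ({y} : Set (GL (Fin 2) F)) = Subgroup.centralizer {y'} := by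
  have key : ∀ u u' : GL (Fin 2) F, NoEig u → Commute u u' →
      Subgroup.centralizer ({u} : Set (GL (Fin 2) F)) ≤ Subgroup.centralizer {u'} := by
    intro u u' hu huu' g hg
    rw [Subgroup.mem_centralizer_singleton_iff] at hg ⊢
    obtain ⟨a, b, hab⟩ := hu.exists_linear
      (show ((g : Matrix (Fin 2) (Fin 2) F)) * u = (u : Matrix (Fin 2) (Fin 2) F) * g by
        rw [← Matrix.GeneralLinearGroup.coe_mul, hg, Matrix.GeneralLinearGroup.coe_mul])
    obtain ⟨c, d, hcd⟩ := hu.exists_linear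
      (show ((u' : Matrix (Fin 2) (Fin 2) F)) * u = (u : Matrix (Fin 2) (Fin 2) F) * u' by
        rw [← Matrix.GeneralLinearGroup.coe_mul, ← huu'.eq, Matrix.GeneralLinearGroup.coe_mul])
    apply Units.ext
    rw [Matrix.GeneralLinearGroup.coe_mul, Matrix.GeneralLinearGroup.coe_mul, hab, hcd]
    simp only [mul_add, add_mul, smul_mul_assoc, mul_smul_comm, one_mul, mul_one, smul_add,
      smul_smul, mul_comm]
    abel
  exact le_antisymm (key y y' hy hc) (key y' y hy' hc.symm)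

/-- A norm-one element of prime order not dividing `q(q-1)` has no eigenvectors. -/
theorem noEig_of_order [Finite F] (p : ℕ) [hp : Fact p.Prime] [CharP F p] {y : GL (Fin 2) F} {r : ℕ}
    (hr : r.Prime) (hrp : r ≠ p) (hrq : ¬ r ∣ Nat.card F - 1) (hyr : orderOf y = r)
    (hdet : (y : Matrix (Fin 2) (Fin 2) F).det = 1) : NoEig y := by
  haveI := Fintype.ofFinite F
  rintro w hw ⟨c, hc⟩
  set M := (y : Matrix (Fin 2) (Fin 2) F) with hM
  have hc0 : c ≠ 0 := fun h => mulVec_ne_zero y hw (by rw [← hM, hc, h, zero_smul])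
  have hpow : ∀ k : ℕ, (M ^ k) *ᵥ w = c ^ k • w := by
    intro k
    induction k with
    | zero => simp
    | succ k ih => rw [pow_succ, ← Matrix.mulVec_mulVec, hc, Matrix.mulVec_smul, ih, smul_smul, ← pow_succ']
  have hMr : M ^ r = 1 := by
    rw [hM, ← Units.val_pow_eq_pow_val, ← hyr, pow_orderOf_eq_one, Units.val_one]
  have hc1 : c = 1 := by
    have h1 := hpow r
    rw [hMr, Matrix.one_mulVec] at h1
    have h2 : c ^ r = 1 := by
      have h3 : ((1 : F) - c ^ r) • w = 0 := by rw [sub_smul, one_smul, ← h1, sub_self]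
      exact (sub_eq_zero.1 ((smul_eq_zero.1 h3).resolve_right hw)).symm
    rw [← orderOf_eq_one_iff]
    exact Nat.eq_one_of_dvd_coprimes (hr.coprime_iff_not_dvd.2 hrq) (orderOf_dvd_of_pow_eq_one h2)
      (orderOf_dvd_of_pow_eq_one (by
        rw [Nat.card_eq_fintype_card]; exact FiniteField.pow_card_sub_one_eq_one c hc0))
  subst hc1
  rw [one_smul] at hc
  have h0 : (M - 1).det = 0 :=
    Matrix.exists_mulVec_eq_zero_iff.1 ⟨w, hw, by rw [Matrix.sub_mulVec, hc, Matrix.one_mulVec, sub_self]⟩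
  rw [Matrix.det_fin_two] at h0 hdet
  simp at h0
  have hN : (M - 1) ^ 2 = 0 := by
    rw [sq]
    ext i j
    have htr : M 1 1 = 2 - M 0 0 := by linear_combination hdet - h0
    fin_cases i <;> fin_cases j <;> simp [Matrix.mul_apply, Fin.sum_univ_two, htr]
    · rw [htr] at hdet; linear_combination -hdet
    · ring
    · ring
    · rw [htr] at hdet; linear_combination -hdet
  have hMp : M ^ p = 1 := by
    conv_lhs => rw [← sub_add_cancel M 1]
    rw [add_pow_char_of_commute p (Commute.one_right _), one_pow,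
      pow_eq_zero_of_le hp.out.two_le hN, zero_add]
  have : orderOf y ∣ p := orderOf_dvd_of_pow_eq_one (Units.ext (by
    rw [Units.val_pow_eq_pow_val, Units.val_one]; exact hMp))
  rw [hyr] at this
  exact hrp ((Nat.prime_dvd_prime_iff_eq hr hp.out).1 this)

/-- If a conjugate of `y` by `h` commutes with `y`, then `h^2` centralises `y`. -/
theorem commute_sq_of_conj {y h : GL (Fin 2) F} (hy : NoEig y)
    (hdet : (y : Matrix (Fin 2) (Fin 2) F).det = 1) (hc : Commute (h * y * h⁻¹) y) :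
    Commute (h * h) y := by
  set M := (y : Matrix (Fin 2) (Fin 2) F) with hM
  set Z := ((h * y * h⁻¹ : GL (Fin 2) F) : Matrix (Fin 2) (Fin 2) F) with hZ
  obtain ⟨α, β, hab⟩ := hy.exists_linear (h := Z) (by
    rw [hZ, ← Matrix.GeneralLinearGroup.coe_mul, hc.eq, Matrix.GeneralLinearGroup.coe_mul])
  have htr : Z.trace = M.trace := by
    rw [hZ, Matrix.GeneralLinearGroup.coe_mul, Matrix.GeneralLinearGroup.coe_mul]
    exact Matrix.trace_units_conj h _
  have hdz : Z.det = 1 := by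
    rw [hZ, Matrix.GeneralLinearGroup.coe_mul, Matrix.GeneralLinearGroup.coe_mul, Matrix.det_units_conj]
    exact hdet
  rw [hab] at htr hdz
  rw [Matrix.det_fin_two] at hdet
  simp [Matrix.trace_fin_two, Matrix.det_fin_two] at htr hdz
  have hkey : (1 - β ^ 2) * ((M 0 0 + M 1 1) ^ 2 - 4) = 0 := by
    linear_combination 4 * hdz - 4 * β ^ 2 * hdet
      - (α + β * M 0 0 + (α + β * M 1 1) + M 0 0 + M 1 1) * htr
  have hne : (M 0 0 + M 1 1) ^ 2 - 4 ≠ 0 := by
    intro h0
    have h2 : (M 0 0 + M 1 1 - 2) * (M 0 0 + M 1 1 + 2) = 0 := by linear_combination h0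
    rcases mul_eq_zero.1 h2 with h2 | h2
    · have hd : (M - 1).det = 0 := by
        rw [Matrix.det_fin_two]; simp; linear_combination hdet - h2
      obtain ⟨w, hw, hw'⟩ := Matrix.exists_mulVec_eq_zero_iff.2 hd
      rw [Matrix.sub_mulVec, Matrix.one_mulVec, sub_eq_zero] at hw'
      exact hy w hw ⟨1, by rw [one_smul]; exact hw'⟩
    · have hd : (M + 1).det = 0 := by
        rw [Matrix.det_fin_two]; simp; linear_combination hdet + h2
      obtain ⟨w, hw, hw'⟩ := Matrix.exists_mulVec_eq_zero_iff.2 hd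
      rw [Matrix.add_mulVec, Matrix.one_mulVec, add_eq_zero_iff_eq_neg] at hw'
      exact hy w hw ⟨-1, by rw [neg_one_smul]; exact hw'⟩
  have hβ : (β - 1) * (β + 1) = 0 := by
    linear_combination -(mul_eq_zero.1 hkey).resolve_right hne
  suffices hzz : h * (h * y * h⁻¹) * h⁻¹ = y by
    show h * h * y = y * (h * h)
    calc h * h * y = h * (h * y * h⁻¹) * h⁻¹ * (h * h) := by group
      _ = y * (h * h) := by rw [hzz]
  apply Units.ext
  rw [Matrix.GeneralLinearGroup.coe_mul, Matrix.GeneralLinearGroup.coe_mul, ← hZ, hab]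
  simp only [mul_add, add_mul, Matrix.mul_smul, Matrix.smul_mul, mul_one, Units.mul_inv]
  rw [show (h : Matrix (Fin 2) (Fin 2) F) * M * ((h⁻¹ : GL (Fin 2) F) : Matrix (Fin 2) (Fin 2) F) = Z
    from by rw [hZ, hM, Matrix.GeneralLinearGroup.coe_mul, Matrix.GeneralLinearGroup.coe_mul], hab]
  rcases mul_eq_zero.1 hβ with hβ | hβ
  · obtain rfl : β = 1 := sub_eq_zero.1 hβ
    have h2 : (2 : F) * α = 0 := by linear_combination htr
    ext i j
    fin_cases i <;> fin_cases j <;> simp [smul_add, smul_smul, ← hM] <;> linear_combination h2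
  · obtain rfl : β = -1 := add_eq_zero_iff_eq_neg.1 hβ
    ext i j
    fin_cases i <;> fin_cases j <;> simp [smul_add, smul_smul, ← hM]

/-- In a finite nilpotent subgroup, norm-one elements of odd prime order without eigenvectors
commute. -/
theorem commute_of_noEig [Finite F] {K : Subgroup (GL (Fin 2) F)} (hK : Group.IsNilpotent K)
    {r : ℕ} (hr : r.Prime) (hr2 : r ≠ 2) {y y' : GL (Fin 2) F} (hy : y ∈ K) (hy' : y' ∈ K)
    (hyr : y ^ r = 1) (hy'r : y' ^ r = 1) (hne : NoEig y)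
    (hdet : (y : Matrix (Fin 2) (Fin 2) F).det = 1) : Commute y y' := by
  obtain ⟨j, hj⟩ := hr.odd_of_ne_two hr2
  have hroot : ∀ z : GL (Fin 2) F, z ^ r = 1 → Commute (z * z) y → Commute z y := by
    intro z hz hzy
    have e : z = (z * z) ^ (j + 1) := by
      rw [← sq, ← pow_mul, show 2 * (j + 1) = r + 1 by omega, pow_succ, hz, one_mul]
    rw [e]
    exact hzy.pow_left _
  have key : ∀ a ∈ K, Commute (a * y * a⁻¹) y := by
    refine nilpotent_induction hK (fun a => Commute (a * y * a⁻¹) y) ?_ fun a _ h => ?_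
    · show Commute (1 * y * 1⁻¹) y
      rw [one_mul, inv_one, mul_one]
    have hw := h y hy
    set w := a * y * a⁻¹ * y⁻¹ with hwdef
    set z := a * y * a⁻¹ with hzdef
    refine hroot z (by rw [hzdef, conj_pow, hyr, mul_one, mul_inv_cancel]) (commute_sq_of_conj hne hdet ?_)
    have e : z * y * z⁻¹ = w * y * w⁻¹ := by rw [hwdef]; group
    rw [e]
    exact hw
  exact (hroot y' hy'r (commute_sq_of_conj hne hdet (key y' hy'))).symm

end Field

end Cfsg.Agent.H85
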