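import Mathlib
import Cfsg.Prelude.Def_LocalStructure
import Cfsg.Agent.H6.PSL
import Cfsg.Agent.H1.PSLSimple
import Cfsg.Agent.H85.MinimalNonPClosed

/-!
# The least order of a group which is not `p`-closed
-/

set_option autoImplicit false
set_option linter.style.haveILetI false
set_option linter.unusedSectionVars false

namespace Cfsg.Agent.H85

variable {p : ℕ} [hp : Fact p.Prime]

theorem not_isPClosed_sdprod {A C : Type*} [Group A] [Group C] [Finite A] [Finite C]
    (φ : C →* MulAut A) (hA : ¬ p ∣ Nat.card A) (hC : Nat.card C = p) (hφ : φ ≠ 1) :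
    ¬ Cfsg.IsPClosed p (A ⋊[φ] C) := by
  intro h
  haveI : Finite (A ⋊[φ] C) := Finite.of_equiv _ SemidirectProduct.equivProd.symm
  set R := (SemidirectProduct.inr : C →* A ⋊[φ] C).range with hR
  have hRc : Nat.card R = p := by
    rw [hR, ← hC]
    exact (Nat.card_congr (MonoidHom.ofInjective SemidirectProduct.inr_injective).toEquiv).symm
  obtain ⟨P, hP⟩ := (IsPGroup.of_card (n := 1) (by rw [hRc, pow_one]) : IsPGroup p R).exists_le_sylow
  have hPR : R = (P : Subgroup (A ⋊[φ] C)) := by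
    refine Subgroup.eq_of_le_of_card_ge hP ?_
    rw [hRc, Sylow.card_eq_multiplicity P, SemidirectProduct.card, hC,
      Nat.factorization_mul Nat.card_pos.ne' hp.out.ne_zero, Finsupp.add_apply,
      Nat.factorization_eq_zero_of_not_dvd hA, hp.out.factorization_self, zero_add, pow_one]
  haveI hn : R.Normal := hPR ▸ h P
  refine hφ (MonoidHom.ext fun c => MulEquiv.ext fun a => ?_)
  obtain ⟨d, hd⟩ := hn.conj_mem _ ⟨c, rfl⟩ (SemidirectProduct.inl a)
  have h1 := congrArg SemidirectProduct.left hd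
  simp at h1
  simpa using (mul_inv_eq_one.1 h1.symm).symm

/-- The group `F ⋊ C`, where `C` has order `p` and `F` is a field of order `m ≡ 1 mod p`. -/
theorem exists_affine {m : ℕ} (hm : IsPrimePow m) (hm1 : m % p = 1) :
    ∃ (H : Type) (_ : Group H) (_ : Finite H), Nat.card H = p * m ∧ ¬ Cfsg.IsPClosed p H := by
  obtain ⟨q, k, hq, hk, rfl⟩ := hm
  haveI : Fact q.Prime := ⟨Nat.prime_iff.2 hq⟩
  classical
  let F := GaloisField q k
  have hF : Nat.card F = q ^ k := GaloisField.card q k hk.ne'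
  haveI : Finite F := Nat.finite_of_card_ne_zero (hF ▸ pow_ne_zero _ (Nat.prime_iff.2 hq).ne_zero)
  haveI : Fintype F := Fintype.ofFinite F
  have hdvd : p ∣ Nat.card Fˣ := by
    rw [Nat.card_units, hF]
    exact (Nat.modEq_iff_dvd' (Nat.one_le_pow _ _ (Nat.prime_iff.2 hq).pos)).1
      (show 1 % p = q ^ k % p by rw [hm1, Nat.mod_eq_of_lt hp.out.one_lt])
  obtain ⟨u, hu⟩ := exists_prime_orderOf_dvd_card' p hdvd
  let φ : Subgroup.zpowers u →* MulAut (Multiplicative F) :=
    MonoidHom.mk' (fun c => AddEquiv.toMultiplicative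
      (DistribMulAction.toAddEquiv F ((c : Fˣ)))) fun a b => MulEquiv.ext fun x => by
        simp [Units.smul_def, mul_assoc]
  refine ⟨Multiplicative F ⋊[φ] Subgroup.zpowers u, inferInstance,
    Finite.of_equiv _ SemidirectProduct.equivProd.symm, ?_, ?_⟩
  · rw [SemidirectProduct.card, Nat.card_zpowers, hu, Nat.card_congr Multiplicative.toAdd, hF, mul_comm]
  · refine not_isPClosed_sdprod φ ?_ (by rw [Nat.card_zpowers, hu]) ?_
    · rw [Nat.card_congr Multiplicative.toAdd, hF, Nat.dvd_iff_mod_eq_zero, hm1]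
      exact one_ne_zero
    · intro h
      have h1 := DFunLike.congr_fun (DFunLike.congr_fun h ⟨u, Subgroup.mem_zpowers u⟩)
        (Multiplicative.ofAdd (1 : F))
      have h2 : (u : F) = 1 := by simpa [φ, Units.smul_def] using h1
      rw [Units.val_eq_one] at h2
      rw [h2, orderOf_one] at hu
      exact hp.out.one_lt.ne hu

/-- `PSL(2, p)` is not `p`-closed. -/
theorem exists_psl (hp5 : 5 ≤ p) (hsimple : IsSimpleGroup
    (Matrix.ProjectiveSpecialLinearGroup (Fin 2) (ZMod p))) :
    ∃ (H : Type) (_ : Group H) (_ : Finite H),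
      Nat.card H = p * (p ^ 2 - 1) / 2 ∧ ¬ Cfsg.IsPClosed p H := by
  have hcard := Cfsg.Agent.H6.card_psl2_mul (F := ZMod p) (ZMod.card p)
  have hodd : p % 2 = 1 := Nat.odd_iff.1 (hp.out.odd_of_ne_two (by omega))
  rw [show Nat.gcd 2 (p - 1) = 2 from Nat.gcd_eq_left (by omega)] at hcard
  refine ⟨Matrix.ProjectiveSpecialLinearGroup (Fin 2) (ZMod p), inferInstance, inferInstance,
    by omega, fun h => ?_⟩
  obtain ⟨P⟩ := (inferInstance : Nonempty (Sylow p (Matrix.ProjectiveSpecialLinearGroup (Fin 2) (ZMod p))))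
  rcases (h P).eq_bot_or_eq_top with hb | ht
  · have h1 := P.not_dvd_index
    rw [hb, Subgroup.index_bot] at h1
    refine h1 ?_
    have h2 : p ∣ Nat.card (Matrix.ProjectiveSpecialLinearGroup (Fin 2) (ZMod p)) * 2 :=
      hcard ▸ dvd_mul_right p _
    exact (hp.out.dvd_mul.1 h2).resolve_right fun h3 => by
      have := Nat.le_of_dvd two_pos h3
      omega
  · obtain ⟨j, hj⟩ := IsPGroup.iff_card.1 P.2
    rw [ht, Subgroup.card_top] at hj
    rw [hj] at hcard
    have h2 : p ^ 2 - 1 ∣ p ^ j * 2 := hcard ▸ dvd_mul_left _ _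
    have h4 : (p ^ 2 - 1).Coprime (p ^ j) := by
      refine (hp.out.coprime_iff_not_dvd.2 fun h3 => ?_).symm.pow_right j
      have h5 : p ∣ p ^ 2 := dvd_pow_self p two_ne_zero
      have h6 := Nat.dvd_sub h5 h3
      rw [Nat.sub_sub_self (Nat.one_le_pow _ _ hp.out.pos)] at h6
      exact hp.out.one_lt.ne' (Nat.dvd_one.1 h6)
    have h7 := Nat.le_of_dvd two_pos (h4.dvd_of_dvd_mul_left h2)
    have : 25 ≤ p ^ 2 := by nlinarith
    omega

/-- The lower bound, given the bound for simple groups of small order. -/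
theorem least_order_le (hsimple : ∀ (S : Type) [Group S] [Finite S] [IsSimpleGroup S],
      ¬ IsCyclic S → p ∣ Nat.card S → Nat.card S < p ^ 3 → p * (p ^ 2 - 1) / 2 ≤ Nat.card S)
    {m : ℕ} (hleast : ∀ k : ℕ, IsPrimePow k → k % p = 1 → m ≤ k)
    (H : Type) [Group H] [Finite H] (hH : ¬ Cfsg.IsPClosed p H) :
    min (p * m) (p * (p ^ 2 - 1) / 2) ≤ Nat.card H := by
  induction hn : Nat.card H using Nat.strong_induction_on generalizing H with
  | _ n ih =>
    subst hn
    by_cases hsub : ∃ K : Subgroup H, K ≠ ⊤ ∧ ¬ Cfsg.IsPClosed p K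
    · obtain ⟨K, hK, hKc⟩ := hsub
      have hlt : Nat.card K < Nat.card H := lt_of_le_of_ne (Subgroup.card_le_card_group K)
        fun h => hK (Subgroup.card_eq_iff_eq_top K |>.1 h)
      exact (ih _ hlt K hKc rfl).trans hlt.le
    push Not at hsub
    by_cases hquo : ∃ N : Subgroup H, ∃ _ : N.Normal, N ≠ ⊥ ∧ ¬ Cfsg.IsPClosed p (H ⧸ N)
    · obtain ⟨N, _, hN, hNc⟩ := hquo
      have hlt : Nat.card (H ⧸ N) < Nat.card H := by
        have h1 := Subgroup.card_mul_index N
        rw [Subgroup.index_eq_card] at h1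
        have h2 : 1 < Nat.card N := (Subgroup.one_lt_card_iff_ne_bot N).2 hN
        have : 0 < Nat.card (H ⧸ N) := Nat.card_pos
        nlinarith
      exact (ih _ hlt (H ⧸ N) hNc rfl).trans hlt.le
    push Not at hquo
    by_cases hs : IsSimpleGroup H
    · refine (min_le_right _ _).trans ?_
      by_cases hbig : Nat.card H < p ^ 3
      · refine hsimple H (fun hc => hH (isPClosed_of_comm fun a b => IsMulCommutative.is_comm.comm a b))
          ?_ hbig
        by_contra hd
        refine hH fun P => ?_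
        have : (P : Subgroup H) = ⊥ := by
          rw [← Subgroup.card_eq_one, Sylow.card_eq_multiplicity,
            Nat.factorization_eq_zero_of_not_dvd hd, pow_zero]
        rw [this]; infer_instance
      · refine (Nat.div_le_self _ _).trans (le_trans ?_ (not_lt.1 hbig))
        rw [pow_succ' p 2]
        exact Nat.mul_le_mul_left p (Nat.sub_le _ _)
    obtain ⟨q, hq, hqp, hcard, -⟩ := nonsimple_structure hH hsub (fun N hN hNb => hquo N hN hNb) hs
    refine (min_le_left _ _).trans ?_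
    rw [hcard]
    refine Nat.mul_le_mul_left p (hleast _ ?_ ?_)
    · have hpos : 0 < orderOf (q : ZMod p) := by
        refine orderOf_pos_iff.2 (isOfFinOrder_iff_pow_eq_one.2
          ⟨p - 1, Nat.sub_pos_of_lt hp.out.one_lt, ZMod.pow_card_sub_one_eq_one ?_⟩)
        rw [Ne, ZMod.natCast_eq_zero_iff]
        exact fun h => hqp ((Nat.prime_dvd_prime_iff_eq hp.out hq).1 h).symm
      exact hq.isPrimePow.pow hpos.ne'
    · have h1 : ((q ^ orderOf (q : ZMod p) : ℕ) : ZMod p) = ((1 : ℕ) : ZMod p) := by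
        rw [Nat.cast_pow, pow_orderOf_eq_one, Nat.cast_one]
      rw [(ZMod.natCast_eq_natCast_iff' _ _ _).1 h1, Nat.mod_eq_of_lt hp.out.one_lt]

/-- The least order, given the theorem of Brauer and Reynolds. -/
theorem least_order (hbr : ∀ (G : Type) [Group G] [Finite G] [IsSimpleGroup G], ¬ IsCyclic G →
      p ∣ Nat.card G → Nat.card G < p ^ 3 →
      (∃ (F : Type) (_ : Field F) (_ : Fintype F), Fintype.card F = p ∧ 3 < p ∧
        Nonempty (G ≃* Matrix.ProjectiveSpecialLinearGroup (Fin 2) F)) ∨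
      (∃ (m : ℕ) (F : Type) (_ : Field F) (_ : Fintype F), Fintype.card F = 2 ^ m ∧ p = 2 ^ m + 1 ∧
        3 < p ∧ Nonempty (G ≃* Matrix.ProjectiveSpecialLinearGroup (Fin 2) F)))
    (hp2 : p ≠ 2) {m : ℕ} (hm : IsPrimePow m) (hm1 : m % p = 1)
    (hleast : ∀ k : ℕ, IsPrimePow k → k % p = 1 → m ≤ k) :
    (∀ (H : Type) [Group H] [Finite H], ¬ Cfsg.IsPClosed p H →
        min (p * m) (p * (p ^ 2 - 1) / 2) ≤ Nat.card H) ∧
      ∃ (H : Type) (_ : Group H) (_ : Finite H),
        Nat.card H = min (p * m) (p * (p ^ 2 - 1) / 2) ∧ ¬ Cfsg.IsPClosed p H := by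
  have hodd : p % 2 = 1 := Nat.odd_iff.1 (hp.out.odd_of_ne_two hp2)
  refine ⟨fun H _ _ hH => least_order_le (fun S _ _ _ hc hd hb => ?_) hleast H hH, ?_⟩
  · rcases hbr S hc hd hb with ⟨F, _, _, hF, h3, ⟨e⟩⟩ | ⟨k, F, _, _, hF, hpk, h3, ⟨e⟩⟩
    · have hcard := Cfsg.Agent.H6.card_psl2_mul (F := F) hF
      rw [show Nat.gcd 2 (p - 1) = 2 from Nat.gcd_eq_left (by omega)] at hcard
      rw [Nat.card_congr e.toEquiv]
      omega
    · have hcard := Cfsg.Agent.H6.card_psl2_mul (F := F) hF
      have hk : k ≠ 0 := by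
        intro h
        rw [h, pow_zero] at hpk
        omega
      have h2 : 2 ∣ 2 ^ k := dvd_pow_self 2 hk
      rw [show Nat.gcd 2 (2 ^ k - 1) = 1 from Nat.coprime_iff_gcd_eq_one.1
        (Nat.prime_two.coprime_iff_not_dvd.2 (by omega)), mul_one] at hcard
      rw [Nat.card_congr e.toEquiv, hcard, hpk]
      have hq4 : 4 ≤ 2 ^ k := by omega
      generalize 2 ^ k = r at hq4
      have h4 : r ^ 2 ≥ 1 := Nat.one_le_pow _ _ (by omega)
      refine Nat.div_le_of_le_mul ?_
      rw [show (r + 1) ^ 2 - 1 = r * (r + 2) by rw [Nat.sub_eq_iff_eq_add (Nat.one_le_pow _ _ (by omega))]; ring]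
      obtain ⟨s, hs⟩ : ∃ s, r ^ 2 = s + 1 := ⟨r ^ 2 - 1, by omega⟩
      rw [hs, Nat.add_sub_cancel]
      nlinarith
  · by_cases hle : p * m ≤ p * (p ^ 2 - 1) / 2
    · rw [min_eq_left hle]
      exact exists_affine hm hm1
    · rw [min_eq_right (not_le.1 hle).le]
      have hp3 : p ≠ 3 := by
        intro h3
        apply hle
        have h4 : m ≤ 4 := hleast 4 (Nat.prime_two.isPrimePow.pow two_ne_zero) (by rw [h3])
        subst h3
        omega
      have hp4 : p ≠ 4 := fun h => by rw [h] at hodd; omega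
      have hp2' := hp.out.two_le
      refine exists_psl (by omega) (Cfsg.Agent.H1.isSimpleGroup_PSL (Or.inr ⟨2, ?_, ?_⟩))
      · intro h
        have h' : ((2 : ℕ) : ZMod p) = 0 := by exact_mod_cast h
        rw [ZMod.natCast_eq_zero_iff] at h'
        have := Nat.le_of_dvd two_pos h'
        omega
      · intro h
        have h' : ((4 : ℕ) : ZMod p) = ((1 : ℕ) : ZMod p) := by push_cast; linear_combination h
        rw [ZMod.natCast_eq_natCast_iff'] at h'
        rw [Nat.mod_eq_of_lt hp.out.one_lt] at h'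
        rcases (by omega : p ≤ 4 ∨ 4 < p) with hh | hh
        · omega
        · rw [Nat.mod_eq_of_lt hh] at h'
          omega

end Cfsg.Agent.H85
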