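import Mathlib
import Cfsg.Agent.H85.EigenCoverTwo

/-!
# No minimal cover by nilpotent subgroups between `PSL_n(q)` and `PGL_n(q)`
-/

set_option autoImplicit false
set_option linter.unusedSectionVars false
set_option linter.style.haveILetI false

open Matrix
open Matrix.SpecialLinearGroup (toGL)

namespace Cfsg.Agent.H85

variable {F : Type*} [Field F] [Finite F] {n : ℕ}

section Lift

variable (G : Subgroup (GL (Fin n) F ⧸ Subgroup.center (GL (Fin n) F)))

/-- The full preimage in `GL` of a subgroup of `G`. -/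
def liftSub (A : Subgroup G) : Subgroup (GL (Fin n) F) :=
  (A.map G.subtype).comap (QuotientGroup.mk' (Subgroup.center (GL (Fin n) F)))

/-- The subgroup of `G` cut out by a subgroup of `GL`. -/
def downSub (S : Subgroup (GL (Fin n) F)) : Subgroup G :=
  (S.map (QuotientGroup.mk' (Subgroup.center (GL (Fin n) F)))).subgroupOf G

theorem liftSub_nilpotent {A : Subgroup G} (hA : Group.IsNilpotent A) :
    Group.IsNilpotent (liftSub G A) := by
  haveI := hA
  haveI : Group.IsNilpotent (A.map G.subtype) :=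
    Group.nilpotent_of_mulEquiv (A.equivMapOfInjective G.subtype G.subtype_injective)
  refine Subgroup.isNilpotent_of_ker_le_center
    ((QuotientGroup.mk' (Subgroup.center (GL (Fin n) F))).subgroupComap (A.map G.subtype))
    fun x hx => ?_
  rw [Subgroup.mem_center_iff]
  intro y
  have h1 : (x : GL (Fin n) F) ∈ Subgroup.center (GL (Fin n) F) :=
    (QuotientGroup.eq_one_iff _).1 (congrArg Subtype.val hx)
  exact Subtype.ext (Subgroup.mem_center_iff.1 h1 y)

theorem mem_liftSub {A : Subgroup G} {g : GL (Fin n) F}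
    (hg : QuotientGroup.mk' (Subgroup.center (GL (Fin n) F)) g ∈ G) :
    (⟨_, hg⟩ : G) ∈ A → g ∈ liftSub G A := fun h => ⟨⟨_, hg⟩, h, rfl⟩

theorem le_downSub {A : Subgroup G} {S : Subgroup (GL (Fin n) F)} (h : liftSub G A ≤ S) :
    A ≤ downSub G S := by
  rintro ⟨a, ha⟩ haA
  obtain ⟨g, rfl⟩ := QuotientGroup.mk'_surjective (Subgroup.center (GL (Fin n) F)) a
  exact ⟨g, h (mem_liftSub G ha haA), rfl⟩

theorem mem_of_mem_downSub {S : Subgroup (GL (Fin n) F)}
    (hS : Subgroup.center (GL (Fin n) F) ≤ S) {g : GL (Fin n) F}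
    (hg : QuotientGroup.mk' (Subgroup.center (GL (Fin n) F)) g ∈ G)
    (h : (⟨_, hg⟩ : G) ∈ downSub G S) : g ∈ S := by
  obtain ⟨s, hs, he⟩ := h
  have h1 : s⁻¹ * g ∈ Subgroup.center (GL (Fin n) F) := QuotientGroup.eq.1 he
  simpa using S.mul_mem hs (hS h1)

theorem center_le_lineStab (v : Fin n → F) : Subgroup.center (GL (Fin n) F) ≤ lineStab v :=
  fun _ hg => isEig_of_mem_center hg v

variable (hG : ((toGL : Matrix.SpecialLinearGroup (Fin n) F →* GL (Fin n) F).range).map
  (QuotientGroup.mk' (Subgroup.center (GL (Fin n) F))) ≤ G)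

include hG in
theorem mk_toGL_mem (x : Matrix.SpecialLinearGroup (Fin n) F) :
    QuotientGroup.mk' (Subgroup.center (GL (Fin n) F)) (toGL x) ∈ G :=
  hG ⟨toGL x, ⟨x, rfl⟩, rfl⟩

include hG in
theorem downSub_ne_top {S : Subgroup (GL (Fin n) F)} (hS : Subgroup.center (GL (Fin n) F) ≤ S)
    (x : Matrix.SpecialLinearGroup (Fin n) F) (hx : toGL x ∉ S) : downSub G S ≠ ⊤ := fun h =>
  hx (mem_of_mem_downSub G hS (mk_toGL_mem G hG x) (h ▸ Subgroup.mem_top _))

include hG in
/-- Two elements of `SL` whose nilpotent overgroups fix the line `v` lie in a common member. -/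
theorem exists_common_lift {𝓐 : Finset (Subgroup G)} (h : NilpCover 𝓐) (v : Fin n → F)
    (z : Matrix.SpecialLinearGroup (Fin n) F) (hz : toGL z ∉ lineStab v)
    (x y : Matrix.SpecialLinearGroup (Fin n) F)
    (hx : ∀ K : Subgroup (GL (Fin n) F), Group.IsNilpotent K → toGL x ∈ K → K ≤ lineStab v)
    (hy : ∀ K : Subgroup (GL (Fin n) F), Group.IsNilpotent K → toGL y ∈ K → K ≤ lineStab v) :
    ∃ K : Subgroup (GL (Fin n) F), Group.IsNilpotent K ∧ toGL x ∈ K ∧ toGL y ∈ K := by
  obtain ⟨A, hA, hxA, hyA⟩ := h.exists_common (downSub_ne_top G hG (center_le_lineStab v) z hz)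
    (x := ⟨_, mk_toGL_mem G hG x⟩) (y := ⟨_, mk_toGL_mem G hG y⟩)
    (fun A _ hA hxA => le_downSub G (hx _ (liftSub_nilpotent G hA) (mem_liftSub G _ hxA)))
    (fun A _ hA hyA => le_downSub G (hy _ (liftSub_nilpotent G hA) (mem_liftSub G _ hyA)))
  exact ⟨_, liftSub_nilpotent G (h.2.2 A hA), mem_liftSub G _ hxA, mem_liftSub G _ hyA⟩

include hG in
/-- The case of dimension at least 3. -/
theorem no_nilpCover_ge_three {m : ℕ} (hm : 2 ≤ m) (hn : n = m + 1) (𝓐 : Finset (Subgroup G)) :
    ¬ NilpCover 𝓐 := by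
  subst hn
  intro h
  obtain ⟨p, hchar⟩ := CharP.exists F
  haveI := hchar
  haveI : Fact p.Prime := ⟨CharP.char_is_prime F p⟩
  obtain ⟨y, hyp, ⟨cy, hy0⟩, hyu, hne⟩ := exists_semisimple (F := F) p hm
  set e0 : Fin (m + 1) → F := Pi.single 0 1 with he0
  have he0ne : e0 ≠ 0 := fun hh => one_ne_zero (α := F) (by simpa [he0] using congrFun hh 0)
  have hx0 : IsEig (toGL (jordanSL (m + 1) F)) e0 := by
    refine ⟨1, ?_⟩
    show jordanMat (m + 1) *ᵥ e0 = _
    ext i
    rw [jordanMat_mulVec, one_smul]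
    have h0 : ∀ hi : (i : ℕ) + 1 < m + 1, e0 ⟨(i : ℕ) + 1, hi⟩ = 0 := fun hi => by
      rw [he0, Pi.single_eq_of_ne]
      intro hh
      exact absurd (congrArg Fin.val hh) (by simp)
    split_ifs with hi
    · rw [h0, add_zero]
    · rw [add_zero]
  have hxu : ∀ w, w ≠ 0 → IsEig (toGL (jordanSL (m + 1) F)) w → ∃ d : F, w = d • e0 :=
    fun w hw ⟨c, hc⟩ => jordan_eig_unique hw hc
  -- a transvection moving the line
  have hij : (⟨1, by omega⟩ : Fin (m + 1)) ≠ 0 := fun hh => absurd (congrArg Fin.val hh) (by simp)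
  let z : Matrix.SpecialLinearGroup (Fin (m + 1)) F :=
    ⟨Matrix.transvection ⟨1, by omega⟩ 0 1, Matrix.det_transvection_of_ne _ _ hij _⟩
  have hz : toGL z ∉ lineStab e0 := by
    rintro ⟨c, hc⟩
    have h1 := congrFun hc ⟨1, by omega⟩
    change (Matrix.transvection (⟨1, by omega⟩ : Fin (m + 1)) 0 (1 : F) *ᵥ e0) ⟨1, by omega⟩ = _ at h1
    simp [Matrix.transvection, Matrix.add_mulVec, he0, hij] at h1
  obtain ⟨K, hK, hxK, hyK⟩ := exists_common_lift G hG h e0 z hz (jordanSL (m + 1) F) y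
    (fun K hK hxK => le_lineStab hK hxK he0ne hx0 hxu)
    (fun K hK hyK => le_lineStab hK hyK he0ne ⟨cy, hy0⟩ fun w hw ⟨c, hc⟩ => hyu w hw c hc)
  haveI : Fintype F := Fintype.ofFinite F
  have hco : (orderOf (toGL (jordanSL (m + 1) F))).Coprime (orderOf (toGL y)) := by
    rw [orderOf_injective _ Matrix.SpecialLinearGroup.toGL_injective,
      orderOf_injective _ Matrix.SpecialLinearGroup.toGL_injective]
    exact Nat.Coprime.coprime_dvd_left (orderOf_dvd_of_pow_eq_one (jordan_pow_prime_pow p m))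
      (((Fact.out : p.Prime).coprime_iff_not_dvd.2 hyp).pow_left _)
  exact hne (congrArg Units.val (commute_of_coprime_nilpotent hK hxK hyK hco).eq)

end Lift

section Two

variable (G : Subgroup (GL (Fin 2) F ⧸ Subgroup.center (GL (Fin 2) F)))
  (hG : ((toGL : Matrix.SpecialLinearGroup (Fin 2) F →* GL (Fin 2) F).range).map
    (QuotientGroup.mk' (Subgroup.center (GL (Fin 2) F))) ≤ G)

include hG in
/-- Dimension 2 with an odd prime dividing `q - 1`. -/
theorem no_nilpCover_two_split {r : ℕ} (hr : r.Prime) (hr2 : r ≠ 2)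
    (hrq : r ∣ Nat.card F - 1) (𝓐 : Finset (Subgroup G)) : ¬ NilpCover 𝓐 := by
  intro h
  haveI : Fintype F := Fintype.ofFinite F
  obtain ⟨p, hchar⟩ := CharP.exists F
  haveI := hchar
  haveI hp : Fact p.Prime := ⟨CharP.char_is_prime F p⟩
  haveI : Fact r.Prime := ⟨hr⟩
  obtain ⟨a, ha⟩ := exists_prime_orderOf_dvd_card' (G := Fˣ) r (by rwa [Nat.card_units])
  set e0 : Fin 2 → F := Pi.single 0 1 with he0
  have he0ne : e0 ≠ 0 := fun hh => one_ne_zero (α := F) (by simpa [he0] using congrFun hh 0)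
  set e1 : Fin 2 → F := Pi.single 1 1 with he1
  have hx0 : IsEig (toGL (tvSL e0)) e0 := ⟨1, tvSL_eig e0⟩
  have hz : toGL (tvSL e1) ∉ lineStab e0 := by
    rintro ⟨c, hc⟩
    obtain ⟨d, hd⟩ := tvSL_eig_unique
      (fun hh => one_ne_zero (α := F) (by simpa [he1] using congrFun hh 1)) hc
    have := congrFun hd 0
    simp [he0, he1] at this
  obtain ⟨K, hK, hxK, hyK⟩ := exists_common_lift G hG h e0 (tvSL e1) hz (tvSL e0) (diagSL a)
    (fun K hK hxK => le_lineStab hK hxK he0ne hx0 fun w _ ⟨c, hc⟩ => tvSL_eig_unique he0ne hc)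
    (fun K hK hyK => le_lineStab_of_diag hK hr hr2 ha hyK)
  have hrp : r ≠ p := by
    rintro rfl
    have h2 : r ∣ Nat.card F := by
      rw [Nat.card_eq_fintype_card]; exact (CharP.cast_eq_zero_iff F r _).1 (FiniteField.cast_card_eq_zero F)
    have h3 : 0 < Nat.card F := Nat.card_pos
    have h4 := Nat.dvd_sub h2 hrq
    rw [Nat.sub_sub_self h3] at h4
    exact hr.not_dvd_one h4
  have hco : (orderOf (toGL (tvSL e0))).Coprime (orderOf (toGL (diagSL a))) := by
    refine Nat.Coprime.coprime_dvd_left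
      ((orderOf_map_dvd _ _).trans (orderOf_dvd_of_pow_eq_one (tvSL_pow_char p e0))) ?_
    refine Nat.Coprime.coprime_dvd_right ((orderOf_map_dvd _ _).trans (orderOf_dvd_of_pow_eq_one
      (show diagSL a ^ r = 1 by rw [diagSL_pow, ← ha, pow_orderOf_eq_one, diagSL_one]))) ?_
    exact (Nat.coprime_primes hp.out hr).2 (Ne.symm hrp)
  have hc := congrArg Units.val (commute_of_coprime_nilpotent hK hxK hyK hco).eq
  have h01 := congrFun (congrFun hc 0) 1
  change ((tvSL e0 : Matrix (Fin 2) (Fin 2) F) * (diagSL a : Matrix (Fin 2) (Fin 2) F)) 0 1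
    = ((diagSL a : Matrix (Fin 2) (Fin 2) F) * (tvSL e0 : Matrix (Fin 2) (Fin 2) F)) 0 1 at h01
  simp [tvSL, diagSL, he0, Matrix.mul_apply, Fin.sum_univ_two] at h01
  have h2 : a ^ 2 = 1 := by
    apply Units.ext
    push_cast
    have h3 : (a : F) * (a : F)⁻¹ = 1 := mul_inv_cancel₀ a.ne_zero
    linear_combination (-(a : F)) * h01 + h3
  have h3 := Nat.le_of_dvd two_pos (ha ▸ orderOf_dvd_of_pow_eq_one h2)
  have := hr.two_le
  omega

include hG in
/-- Dimension 2 with an odd prime dividing `q + 1` and a square root of `-1`. -/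
theorem no_nilpCover_two_nonsplit {r : ℕ} (hr : r.Prime) (hr2 : r ≠ 2)
    (hrq : r ∣ Nat.card F + 1) (p : ℕ) [hp : Fact p.Prime] [CharP F p] (hp2 : p ≠ 2)
    (i : Fˣ) (hi : (i : F) * i = -1) (𝓐 : Finset (Subgroup G)) : ¬ NilpCover 𝓐 := by
  classical
  intro h
  haveI : Fintype F := Fintype.ofFinite F
  haveI : Fact r.Prime := ⟨hr⟩
  set Z := Subgroup.center (GL (Fin 2) F) with hZ
  have h2F : (2 : F) ≠ 0 := by
    intro h0
    have : ((2 : ℕ) : F) = 0 := by exact_mod_cast h0
    exact hp2 ((Nat.prime_dvd_prime_iff_eq hp.out Nat.prime_two).1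
      ((CharP.cast_eq_zero_iff F p 2).1 this))
  have hrp : r ≠ p := by
    rintro rfl
    have h2 : r ∣ Nat.card F := by
      rw [Nat.card_eq_fintype_card]; exact (CharP.cast_eq_zero_iff F r _).1 (FiniteField.cast_card_eq_zero F)
    exact hr.not_dvd_one ((Nat.dvd_add_right h2).1 hrq)
  have hrq1 : ¬ r ∣ Nat.card F - 1 := by
    intro h1
    have h3 : 0 < Nat.card F := Nat.card_pos
    have h4 := Nat.dvd_sub hrq h1
    rw [show Nat.card F + 1 - (Nat.card F - 1) = 2 by omega] at h4
    exact hr2 ((Nat.prime_dvd_prime_iff_eq hr Nat.prime_two).1 h4)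
  let Y : Set (GL (Fin 2) F) :=
    {y | orderOf y = r ∧ (y : Matrix (Fin 2) (Fin 2) F).det = 1}
  have hYne : ∀ y ∈ Y, NoEig y := fun y hy => noEig_of_order p hr hrp hrq1 hy.1 hy.2
  set 𝓛 : Finset (Subgroup (GL (Fin 2) F)) :=
    ((Finset.univ : Finset (Fin 2 → F)).filter (· ≠ 0)).image lineStab with h𝓛
  set 𝓣 : Finset (Subgroup (GL (Fin 2) F)) :=
    ((Set.toFinite Y).toFinset).image (fun y => Subgroup.centralizer {y}) with h𝓣
  -- representatives
  have hLrep : ∀ L : ↥𝓛, ∃ v : Fin 2 → F, v ≠ 0 ∧ (L : Subgroup (GL (Fin 2) F)) = lineStab v := by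
    rintro ⟨L, hL⟩
    obtain ⟨v, hv, rfl⟩ := Finset.mem_image.1 hL
    exact ⟨v, (Finset.mem_filter.1 hv).2, rfl⟩
  choose vL hvL hvLeq using hLrep
  have hTrep : ∀ T : ↥𝓣, ∃ y ∈ Y, (T : Subgroup (GL (Fin 2) F)) = Subgroup.centralizer {y} := by
    rintro ⟨T, hT⟩
    obtain ⟨y, hy, rfl⟩ := Finset.mem_image.1 hT
    exact ⟨y, (Set.Finite.mem_toFinset _).1 hy, rfl⟩
  choose yT hyT hyTeq using hTrep
  -- the cover by line stabilisers and tori
  have htvmove : ∀ v : Fin 2 → F, v ≠ 0 →
      ∃ z : Matrix.SpecialLinearGroup (Fin 2) F, toGL z ∉ lineStab v := by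
    intro v hv
    by_contra hall
    push Not at hall
    obtain ⟨c0, h0⟩ := hall (tvSL (Pi.single 0 1))
    obtain ⟨c1, h1⟩ := hall (tvSL (Pi.single 1 1))
    obtain ⟨d0, hd0⟩ := tvSL_eig_unique
      (fun hh => one_ne_zero (α := F) (by simpa using congrFun hh 0)) h0
    obtain ⟨d1, hd1⟩ := tvSL_eig_unique
      (fun hh => one_ne_zero (α := F) (by simpa using congrFun hh 1)) h1
    apply hv
    funext j
    fin_cases j
    · simpa using congrFun hd1 0
    · simpa using congrFun hd0 1
  set 𝓑 : Finset (Subgroup G) := (𝓛 ∪ 𝓣).image (downSub G) with h𝓑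
  have hB1 : ∀ B ∈ 𝓑, B ≠ ⊤ := by
    intro B hB
    obtain ⟨S, hS, rfl⟩ := Finset.mem_image.1 hB
    rcases Finset.mem_union.1 hS with hS | hS
    · obtain ⟨v, hv, rfl⟩ := Finset.mem_image.1 hS
      obtain ⟨z, hz⟩ := htvmove v (Finset.mem_filter.1 hv).2
      exact downSub_ne_top G hG (center_le_lineStab v) z hz
    · obtain ⟨y, hy, rfl⟩ := Finset.mem_image.1 hS
      have hyY := (Set.Finite.mem_toFinset _).1 hy
      refine downSub_ne_top G hG (Subgroup.center_le_centralizer _) (tvSL (Pi.single 0 1)) fun hm => ?_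
      rw [Subgroup.mem_centralizer_singleton_iff] at hm
      exact hYne y hyY _ (fun hh => one_ne_zero (α := F) (by simpa using congrFun hh 0))
        (isEig_of_commute hm (fun hh => one_ne_zero (α := F) (by simpa using congrFun hh 0))
          ⟨1, tvSL_eig _⟩ fun w _ ⟨c, hc⟩ => tvSL_eig_unique
            (fun hh => one_ne_zero (α := F) (by simpa using congrFun hh 0)) hc)
  have hB2 : ∀ g : G, ∃ B ∈ 𝓑, g ∈ B := by
    rintro ⟨g', hg'⟩
    obtain ⟨g, rfl⟩ := QuotientGroup.mk'_surjective (Subgroup.center (GL (Fin 2) F)) g'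
    by_cases hne : NoEig g
    · -- the centraliser of `g` contains an element of order `r`
      set C := Subgroup.centralizer ({g} : Set (GL (Fin 2) F))
      have hlin : ∀ c : C, ∃ a b : F, ((c : GL (Fin 2) F) : Matrix (Fin 2) (Fin 2) F)
          = a • (1 : Matrix (Fin 2) (Fin 2) F) + b • (g : Matrix (Fin 2) (Fin 2) F) := fun c =>
        hne.exists_linear (by
          rw [← Matrix.GeneralLinearGroup.coe_mul, Subgroup.mem_centralizer_singleton_iff.1 c.2,
            Matrix.GeneralLinearGroup.coe_mul])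
      set e0 : Fin 2 → F := Pi.single 0 1 with he0
      have hcoord : ∀ a b : F,
          (a • (1 : Matrix (Fin 2) (Fin 2) F) + b • (g : Matrix (Fin 2) (Fin 2) F)) *ᵥ e0
            = ![a + b * (g : Matrix (Fin 2) (Fin 2) F) 0 0, b * (g : Matrix (Fin 2) (Fin 2) F) 1 0] := by
        intro a b
        ext j
        fin_cases j <;> simp [he0, Matrix.mulVec, dotProduct, Fin.sum_univ_two]
      have hcard : Nat.card C = Nat.card {v : Fin 2 → F // v ≠ 0} := by
        refine Nat.card_eq_of_bijective (fun c : C => (⟨((c : GL (Fin 2) F) :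
          Matrix (Fin 2) (Fin 2) F) *ᵥ e0, mulVec_ne_zero _
            (fun hh => one_ne_zero (α := F) (by simpa [he0] using congrFun hh 0))⟩ :
          {v : Fin 2 → F // v ≠ 0})) ⟨?_, ?_⟩
        · intro c c' hcc
          have hcc' : ((c : GL (Fin 2) F) : Matrix (Fin 2) (Fin 2) F) *ᵥ e0
              = ((c' : GL (Fin 2) F) : Matrix (Fin 2) (Fin 2) F) *ᵥ e0 := congrArg Subtype.val hcc
          obtain ⟨a, b, hab⟩ := hlin c
          obtain ⟨a', b', hab'⟩ := hlin c'
          rw [hab, hab', hcoord, hcoord] at hcc'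
          have h1 := congrFun hcc' 1
          have h0 := congrFun hcc' 0
          simp at h0 h1
          have hb : b = b' := h1.resolve_right hne.entry_ne
          subst hb
          have ha : a = a' := add_right_cancel h0
          subst ha
          exact Subtype.ext (Units.ext (hab.trans hab'.symm))
        · rintro ⟨v, hv⟩
          set b := v 1 / (g : Matrix (Fin 2) (Fin 2) F) 1 0
          set a := v 0 - b * (g : Matrix (Fin 2) (Fin 2) F) 0 0
          set M := a • (1 : Matrix (Fin 2) (Fin 2) F) + b • (g : Matrix (Fin 2) (Fin 2) F) with hM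
          have hMv : M *ᵥ e0 = v := by
            rw [hM, hcoord]
            ext j
            fin_cases j
            · simp [a]
            · simp [b, div_mul_cancel₀ _ hne.entry_ne]
          have hdet : IsUnit M.det := by
            rw [isUnit_iff_ne_zero]
            intro h0
            obtain ⟨w, hw, hw'⟩ := Matrix.exists_mulVec_eq_zero_iff.2 h0
            rw [hM, Matrix.add_mulVec, Matrix.smul_mulVec, Matrix.smul_mulVec,
              Matrix.one_mulVec] at hw'
            by_cases hb : b = 0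
            · rw [hb, zero_smul, add_zero, smul_eq_zero] at hw'
              apply hv
              rw [← hMv, hM, hb, hw'.resolve_right hw, zero_smul, zero_smul, add_zero,
                Matrix.zero_mulVec]
            · refine hne w hw ⟨-a / b, ?_⟩
              have h1 : b • ((g : Matrix (Fin 2) (Fin 2) F) *ᵥ w) = (-a) • w := by
                rw [neg_smul]; exact eq_neg_of_add_eq_zero_right hw'
              rw [div_eq_inv_mul, mul_smul, ← h1, smul_smul, inv_mul_cancel₀ hb, one_smul]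
          refine ⟨⟨Matrix.GeneralLinearGroup.mkOfDetNeZero M hdet.ne_zero, ?_⟩, Subtype.ext hMv⟩
          rw [Subgroup.mem_centralizer_singleton_iff]
          apply Units.ext
          rw [Matrix.GeneralLinearGroup.coe_mul, Matrix.GeneralLinearGroup.coe_mul]
          show M * (g : Matrix (Fin 2) (Fin 2) F) = (g : Matrix (Fin 2) (Fin 2) F) * M
          rw [hM, add_mul, mul_add, smul_mul_assoc, smul_mul_assoc, mul_smul_comm, mul_smul_comm,
            one_mul, mul_one]
      have hdvd : r ∣ Nat.card C := by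
        rw [hcard, Nat.card_eq_fintype_card, Fintype.card_subtype_compl, Fintype.card_pi,
          Fintype.card_subtype_eq]
        simp only [Finset.prod_const, Finset.card_univ, Fintype.card_fin]
        rw [← Nat.card_eq_fintype_card (α := F)]
        refine hrq.trans ⟨Nat.card F - 1, ?_⟩
        obtain ⟨k, hk⟩ : ∃ k, Nat.card F = k + 1 :=
          ⟨Nat.card F - 1, by have : 0 < Nat.card F := Nat.card_pos; omega⟩
        rw [hk, Nat.add_sub_cancel, show (k + 1) ^ 2 = (k + 1 + 1) * k + 1 by ring, Nat.add_sub_cancel]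
      obtain ⟨⟨y, hyC⟩, hyo⟩ := exists_prime_orderOf_dvd_card' r hdvd
      rw [Subgroup.orderOf_mk] at hyo
      have hyY : y ∈ Y := by
        refine ⟨hyo, ?_⟩
        have h1 : (Matrix.GeneralLinearGroup.det y) ^ r = 1 := by
          rw [← map_pow, ← hyo, pow_orderOf_eq_one, map_one]
        have h2 : Matrix.GeneralLinearGroup.det y = 1 := by
          rw [← orderOf_eq_one_iff]
          refine Nat.eq_one_of_dvd_coprimes (hr.coprime_iff_not_dvd.2 hrq1)
            (orderOf_dvd_of_pow_eq_one h1) ?_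
          rw [← Nat.card_units]
          exact orderOf_dvd_natCard _
        simpa using congrArg Units.val h2
      refine ⟨_, Finset.mem_image_of_mem _ (Finset.mem_union_right _
        (Finset.mem_image_of_mem _ ((Set.Finite.mem_toFinset _).2 hyY))), g, ?_, rfl⟩
      exact Subgroup.mem_centralizer_singleton_iff.2
        (Subgroup.mem_centralizer_singleton_iff.1 hyC).symm
    · simp only [NoEig] at hne
      push Not at hne
      obtain ⟨w, hw, hgw⟩ := hne
      exact ⟨_, Finset.mem_image_of_mem _ (Finset.mem_union_left _ (Finset.mem_image_of_mem _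
        (Finset.mem_filter.2 ⟨Finset.mem_univ w, hw⟩))), g, hgw, rfl⟩
  -- members for the representatives
  have hmem : ∀ g : GL (Fin 2) F, QuotientGroup.mk' Z g ∈ G →
      ∃ A ∈ 𝓐, g ∈ liftSub G A := fun g hg => by
    obtain ⟨A, hA, hgA⟩ := h.1.2 ⟨_, hg⟩
    exact ⟨A, hA, mem_liftSub G hg hgA⟩
  have hYG : ∀ y ∈ Y, QuotientGroup.mk' Z y ∈ G := fun y hy => by
    have := mk_toGL_mem G hG ⟨(y : Matrix (Fin 2) (Fin 2) F), hy.2⟩
    convert this using 2
    exact Units.ext rfl
  let elt : Option (↥𝓛 ⊕ ↥𝓣) → GL (Fin 2) F := fun o =>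
    o.elim (toGL (diagSL i)) (Sum.elim (fun L => toGL (tvSL (vL L))) (fun T => yT T))
  have helt : ∀ o, QuotientGroup.mk' Z (elt o) ∈ G := by
    rintro (_ | L | T)
    · exact mk_toGL_mem G hG _
    · exact mk_toGL_mem G hG _
    · exact hYG _ (hyT T)
  choose mem hmemA hmemg using fun o => hmem (elt o) (helt o)
  have hi4 : i ^ 4 = 1 := by
    apply Units.ext
    push_cast
    linear_combination ((i : F) * i - 1) * hi
  have hoL : ∀ L : ↥𝓛, orderOf (toGL (tvSL (vL L))) ∣ p := fun L =>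
    (orderOf_map_dvd _ _).trans (orderOf_dvd_of_pow_eq_one (tvSL_pow_char p _))
  have hos : orderOf (toGL (diagSL i)) ∣ 2 ^ 2 :=
    (orderOf_map_dvd _ _).trans (orderOf_dvd_of_pow_eq_one
      (by rw [diagSL_pow, show (2 : ℕ) ^ 2 = 4 from rfl, hi4, diagSL_one]))
  have hLy : ∀ (L : ↥𝓛) (T : ↥𝓣) (K : Subgroup (GL (Fin 2) F)), Group.IsNilpotent K →
      toGL (tvSL (vL L)) ∈ K → yT T ∈ K → False := fun L T K hK h1 h2 =>
    hYne _ (hyT T) (vL L) (hvL L) (le_lineStab hK h1 (hvL L) ⟨1, tvSL_eig _⟩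
      (fun w _ ⟨c, hc⟩ => tvSL_eig_unique (hvL L) hc) h2)
  have hLs : ∀ (L : ↥𝓛) (K : Subgroup (GL (Fin 2) F)), Group.IsNilpotent K →
      toGL (tvSL (vL L)) ∈ K → toGL (diagSL i) ∈ K → False := by
    intro L K hK h1 h2
    have hcv := congrArg Units.val (commute_of_coprime_nilpotent hK h1 h2
      (Nat.Coprime.coprime_dvd_left (hoL L) (Nat.Coprime.coprime_dvd_right hos
        (((Nat.coprime_primes hp.out Nat.prime_two).2 hp2).pow_right 2)))).eq
    have h01 := congrFun (congrFun hcv 0) 1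
    have h10 := congrFun (congrFun hcv 1) 0
    change ((tvSL (vL L) : Matrix (Fin 2) (Fin 2) F) * (diagSL i : Matrix (Fin 2) (Fin 2) F)) 0 1
      = ((diagSL i : Matrix (Fin 2) (Fin 2) F) * (tvSL (vL L) : Matrix (Fin 2) (Fin 2) F)) 0 1 at h01
    change ((tvSL (vL L) : Matrix (Fin 2) (Fin 2) F) * (diagSL i : Matrix (Fin 2) (Fin 2) F)) 1 0
      = ((diagSL i : Matrix (Fin 2) (Fin 2) F) * (tvSL (vL L) : Matrix (Fin 2) (Fin 2) F)) 1 0 at h10
    have hinv : (i : F)⁻¹ = -(i : F) := inv_eq_of_mul_eq_one_right (by linear_combination -hi)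
    simp [tvSL, diagSL, Matrix.mul_apply, Fin.sum_univ_two, hinv] at h01 h10
    have hne2 : (2 : F) * i ≠ 0 := mul_ne_zero h2F i.ne_zero
    apply hvL L
    funext j
    fin_cases j
    · have : vL L 0 * vL L 0 = 0 :=
        (mul_eq_zero.1 (by linear_combination -h01 : (2 : F) * i * (vL L 0 * vL L 0) = 0)).resolve_left hne2
      simpa using mul_self_eq_zero.1 this
    · have : vL L 1 * vL L 1 = 0 :=
        (mul_eq_zero.1 (by linear_combination -h10 : (2 : F) * i * (vL L 1 * vL L 1) = 0)).resolve_left hne2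
      simpa using mul_self_eq_zero.1 this
  have hTs : ∀ (T : ↥𝓣) (K : Subgroup (GL (Fin 2) F)), Group.IsNilpotent K →
      yT T ∈ K → toGL (diagSL i) ∈ K → False := by
    intro T K hK h1 h2
    have hcv := congrArg Units.val (commute_of_coprime_nilpotent hK h1 h2
      (Nat.Coprime.coprime_dvd_right hos (by
        rw [(hyT T).1]; exact ((Nat.coprime_primes hr Nat.prime_two).2 hr2).pow_right 2))).eq
    have h10 := congrFun (congrFun hcv 1) 0
    change ((yT T : Matrix (Fin 2) (Fin 2) F) * (diagSL i : Matrix (Fin 2) (Fin 2) F)) 1 0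
      = ((diagSL i : Matrix (Fin 2) (Fin 2) F) * (yT T : Matrix (Fin 2) (Fin 2) F)) 1 0 at h10
    have hinv : (i : F)⁻¹ = -(i : F) := inv_eq_of_mul_eq_one_right (by linear_combination -hi)
    simp [diagSL, Matrix.mul_apply, Fin.sum_univ_two, hinv] at h10
    exact (hYne _ (hyT T)).entry_ne
      ((mul_eq_zero.1 (by linear_combination h10 :
        (2 : F) * i * (yT T : Matrix (Fin 2) (Fin 2) F) 1 0 = 0)).resolve_left (mul_ne_zero h2F i.ne_zero))
  have hinj : Function.Injective (fun o => (⟨mem o, hmemA o⟩ : ↥𝓐)) := by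
    intro o o' he
    have he' : mem o = mem o' := congrArg Subtype.val he
    have hK : Group.IsNilpotent (liftSub G (mem o)) := liftSub_nilpotent G (h.2.2 _ (hmemA o))
    have h1 := hmemg o
    have h2 : elt o' ∈ liftSub G (mem o) := he'.symm ▸ hmemg o'
    rcases o with _ | L | T <;> rcases o' with _ | L' | T'
    · rfl
    · exact (hLs L' _ hK h2 h1).elim
    · exact (hTs T' _ hK h2 h1).elim
    · exact (hLs L _ hK h1 h2).elim
    · congr 2
      apply Subtype.ext
      obtain ⟨c, hc⟩ := le_lineStab hK h1 (hvL L) ⟨1, tvSL_eig _⟩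
        (fun w _ ⟨c, hc⟩ => tvSL_eig_unique (hvL L) hc) h2
      obtain ⟨d, hd⟩ := tvSL_eig_unique (hvL L') hc
      have hd0 : d ≠ 0 := fun h0 => hvL L (by rw [hd, h0, zero_smul])
      rw [hvLeq L, hvLeq L', hd]
      refine le_antisymm (fun g hg => ?_) fun g hg => IsEig.smul hg d
      have h3 := IsEig.smul hg d⁻¹
      rwa [smul_smul, inv_mul_cancel₀ hd0, one_smul] at h3
    · exact (hLy L T' _ hK h1 h2).elim
    · exact (hTs T _ hK h1 h2).elim
    · exact (hLy L' T _ hK h2 h1).elim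
    · congr 2
      apply Subtype.ext
      rw [hyTeq T, hyTeq T']
      refine centralizer_eq_of_commute (hYne _ (hyT T)) (hYne _ (hyT T')) ?_
      exact commute_of_noEig hK hr hr2 h1 h2 (by rw [← (hyT T).1, pow_orderOf_eq_one])
        (by rw [← (hyT T').1, pow_orderOf_eq_one]) (hYne _ (hyT T)) (hyT T).2
  have hlow := Fintype.card_le_of_injective _ hinj
  rw [Fintype.card_option, Fintype.card_sum, Fintype.card_coe, Fintype.card_coe,
    Fintype.card_coe] at hlow
  have hup := h.2.1 𝓑 ⟨hB1, hB2⟩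
  have hBc : 𝓑.card ≤ 𝓛.card + 𝓣.card :=
    Finset.card_image_le.trans (Finset.card_union_le _ _)
  omega

end Two

end Cfsg.Agent.H85
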