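import Cfsg.Agent.H85.OddAutoSmall
import Cfsg.Agent.H20.Generation
import Cfsg.Agent.H24.PGroupBasic
import Cfsg.Prelude.Def_Transfer

/-!
A non-cyclic abelian group of odd automorphisms of a 2-group with at most one involution in each
fixed subgroup: the 2-group is a central product of quaternion groups of order eight.
-/

namespace Cfsg.Agent.H85.OddAuto

open scoped commutatorElement

variable {W : Type*} [Group W]

/-- Fixed points of an automorphism. -/
def fixd (e : MulAut W) : Subgroup W := e.toMonoidHom.eqLocus (MonoidHom.id W)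

theorem mem_fixd {e : MulAut W} {x : W} : x ∈ fixd e ↔ e x = x := Iff.rfl

/-- Generation by fixed points. -/
theorem gen_fixd [Finite W] (hW : IsPGroup 2 W) {p : ℕ} [Fact p.Prime] (hp : p ≠ 2)
    (E : Subgroup (MulAut W)) (hE : IsPGroup p E) (hab : IsMulCommutative E) (hnc : ¬ IsCyclic E)
    (V H : Subgroup W) (hV : ∀ e ∈ E, ∀ x ∈ V, e x ∈ V)
    (h : ∀ e ∈ E, e ≠ 1 → ∀ x ∈ V, e x = x → x ∈ H) : V ≤ H := by
  classical
  let G := W ⋊[E.subtype] E
  haveI : Finite G := Finite.of_equiv (W × E) SemidirectProduct.equivProd.symm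
  let il : W →* G := SemidirectProduct.inl
  let ir : E →* G := SemidirectProduct.inr
  have : IsMulCommutative ir.range := by
    refine ⟨⟨?_⟩⟩
    rintro ⟨_, a, rfl⟩ ⟨_, b, rfl⟩
    apply Subtype.ext
    show ir a * ir b = ir b * ir a
    rw [← map_mul, ← map_mul, hab.is_comm.comm]
  have hcyc : ¬ IsCyclic ir.range := fun hc =>
    hnc ((MonoidHom.ofInjective (f := ir) SemidirectProduct.inr_injective).isCyclic.mpr hc)
  have hnorm : ir.range ≤ Subgroup.normalizer ((V.map il : Subgroup G) : Set G) := by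
    rintro _ ⟨a, rfl⟩
    rw [Subgroup.mem_normalizer_iff]
    intro g
    constructor
    · rintro ⟨x, hx, rfl⟩
      exact ⟨(a : MulAut W) x, hV a a.2 x hx,
        (SemidirectProduct.inl_aut (φ := E.subtype) a x).trans (by simp [il, ir])⟩
    · rintro ⟨x, hx, e⟩
      refine ⟨(↑a⁻¹ : MulAut W) x, hV _ a⁻¹.2 x hx, ?_⟩
      have h1 := SemidirectProduct.inl_aut (φ := E.subtype) a⁻¹ x
      rw [show (SemidirectProduct.inl x : G) = il x from rfl, e] at h1
      refine h1.trans ?_
      simp only [map_inv, ir]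
      group
  have hcop : (Nat.card ir.range).Coprime (Nat.card (V.map il : Subgroup G)) := by
    rw [← Nat.card_congr (MonoidHom.ofInjective (f := ir) SemidirectProduct.inr_injective).toEquiv,
      ← Nat.card_congr (V.equivMapOfInjective il SemidirectProduct.inl_injective).toEquiv]
    obtain ⟨i, hi⟩ := hE.exists_card_eq
    obtain ⟨j, hj⟩ := (hW.to_subgroup V).exists_card_eq
    rw [hi, hj]
    exact Nat.Coprime.pow _ _ ((Nat.coprime_primes Fact.out Nat.prime_two).mpr hp)
  have key := H20.le_of_centralizers_le hcyc hnorm hcop (H := H.map il) (by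
    rintro _ ⟨a, rfl⟩ ha _ ⟨⟨x, hx, rfl⟩, hc⟩
    have ha1 : (a : MulAut W) ≠ 1 := fun h' => ha (by
      rw [show a = 1 from Subtype.ext h', map_one])
    refine ⟨x, h a a.2 ha1 x hx ?_, rfl⟩
    have hc' : ir a * il x = il x * ir a := hc (ir a) rfl
    apply SemidirectProduct.inl_injective (φ := E.subtype)
    show il ((a : MulAut W) x) = il x
    rw [show (a : MulAut W) x = E.subtype a x from rfl,
      show il (E.subtype a x) = ir a * il x * (ir a)⁻¹ from
        (SemidirectProduct.inl_aut a x).trans (by simp [il, ir]), hc', mul_inv_cancel_right])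
  exact (Subgroup.map_le_map_iff_of_injective SemidirectProduct.inl_injective).mp key

/-- Restriction of commuting automorphisms to a fixed subgroup. -/
def restr (E : Subgroup (MulAut W)) (hab : IsMulCommutative E) (e : MulAut W) (he : e ∈ E) :
    E →* MulAut (fixd e) where
  toFun h :=
    { toFun := fun x => ⟨(h : MulAut W) x, by
        have hc := congrArg (fun f : E => (f : MulAut W) x) (hab.is_comm.comm ⟨e, he⟩ h)
        simp only [Subgroup.coe_mul, MulAut.mul_apply] at hc
        rw [mem_fixd, hc, mem_fixd.mp x.2]⟩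
      invFun := fun x => ⟨(↑h⁻¹ : MulAut W) x, by
        have hc := congrArg (fun f : E => (f : MulAut W) x) (hab.is_comm.comm ⟨e, he⟩ h⁻¹)
        simp only [Subgroup.coe_mul, MulAut.mul_apply] at hc
        rw [mem_fixd, hc, mem_fixd.mp x.2]⟩
      left_inv := fun x => by ext; simp
      right_inv := fun x => by ext; simp
      map_mul' := fun x y => by ext; simp }
  map_one' := by ext x; rfl
  map_mul' h k := by ext x; rfl

@[simp] theorem restr_apply (E : Subgroup (MulAut W)) (hab : IsMulCommutative E) (e : MulAut W)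
    (he : e ∈ E) (h : E) (x : fixd e) :
    ((restr E hab e he h x : fixd e) : W) = (h : MulAut W) x := rfl

/-- `e` is big when some member of `E` moves a fixed point of `e`. -/
def Big (E : Subgroup (MulAut W)) (e : MulAut W) : Prop :=
  e ∈ E ∧ e ≠ 1 ∧ ∃ h ∈ E, ∃ x ∈ fixd e, h x ≠ x

theorem main [Finite W] (hW : IsPGroup 2 W) {p : ℕ} [Fact p.Prime] (hp : p ≠ 2)
    (E : Subgroup (MulAut W)) (hE : IsPGroup p E) (hab : IsMulCommutative E) (hnc : ¬ IsCyclic E)
    (hfix : ∀ e ∈ E, e ≠ 1 → ∀ x y : W, orderOf x = 2 → orderOf y = 2 → e x = x → e y = y → x = y) :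
    Nat.card E = 9 ∧ Cfsg.IsExtraspecial 2 W ∧
      (Nat.card W = 2 ^ 5 ∨ Nat.card W = 2 ^ 7 ∨ Nat.card W = 2 ^ 9) ∧
      {x : W | ∀ e ∈ E, e x = x} = (Subgroup.center W : Set W) := by
  classical
  haveI : Fact (Nat.Prime 2) := ⟨Nat.prime_two⟩
  have hcE : ∀ a ∈ E, ∀ b ∈ E, ∀ x : W, a (b x) = b (a x) := by
    intro a ha b hb x
    have hc := congrArg (fun f : E => (f : MulAut W) x) (hab.is_comm.comm ⟨a, ha⟩ ⟨b, hb⟩)
    simpa using hc
  -- facts about a big fixed subgroup
  have hbig : ∀ e, Big E e → p = 3 ∧ Nat.card (fixd e) = 8 ∧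
      (∀ (he : e ∈ E), (restr E hab e he).ker.index = 3) ∧
      (∀ h ∈ E, (∃ x ∈ fixd e, h x ≠ x) →
        ∀ x ∈ fixd e, h (h (h x)) = x ∧ (h x = x → x * x = 1)) ∧
      (∃ x ∈ fixd e, x * x ≠ 1) ∧
      (∀ x ∈ fixd e, ∀ y ∈ fixd e, x * x ≠ 1 → y * y ≠ 1 → y ≠ x → x * y ≠ 1 →
        x * y ≠ y * x) := by
    rintro e ⟨he, he1, h0, hh0, x0, hx0, hne⟩
    have huniq : ∀ x y : fixd e, orderOf x = 2 → orderOf y = 2 → x = y := fun x y hx hy =>
      Subtype.ext (hfix e he he1 x y (by rw [Subgroup.orderOf_coe, hx])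
        (by rw [Subgroup.orderOf_coe, hy]) x.2 y.2)
    have hA : IsPGroup p (restr E hab e he).range :=
      hE.of_surjective _ (restr E hab e he).rangeRestrict_surjective
    have hne' : (restr E hab e he).range ≠ ⊥ := by
      intro h
      have hm : restr E hab e he ⟨h0, hh0⟩ ∈ (restr E hab e he).range := ⟨_, rfl⟩
      rw [h, Subgroup.mem_bot] at hm
      exact hne (congrArg Subtype.val (DFunLike.congr_fun hm (⟨x0, hx0⟩ : fixd e)))
    obtain ⟨hp3, hA3, h8, hcube, ⟨x1, hx1⟩, hnc'⟩ :=
      small_action (hW.to_subgroup _) huniq hp _ hA hne'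
    refine ⟨hp3, h8, fun _ => by rw [Subgroup.index_ker]; exact hA3, ?_,
      ⟨x1, x1.2, fun h => hx1 (Subtype.ext h)⟩, ?_⟩
    · rintro h hh ⟨x2, hx2, hne2⟩ x hx
      have hne3 : restr E hab e he ⟨h, hh⟩ ≠ 1 := fun h' =>
        hne2 (congrArg Subtype.val (DFunLike.congr_fun h' (⟨x2, hx2⟩ : fixd e)))
      obtain ⟨h3, hf⟩ := hcube _ ⟨_, rfl⟩ hne3
      refine ⟨?_, fun hfx => ?_⟩
      · have := congrArg Subtype.val (DFunLike.congr_fun h3 (⟨x, hx⟩ : fixd e))
        simpa [pow_succ] using this
      · exact congrArg Subtype.val (hf ⟨x, hx⟩ (Subtype.ext hfx))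
    · intro x hx y hy h1 h2 h3 h4 h5
      exact hnc' ⟨x, hx⟩ ⟨y, hy⟩ (fun h => h1 (congrArg Subtype.val h))
        (fun h => h2 (congrArg Subtype.val h)) (fun h => h3 (congrArg Subtype.val h))
        (fun h => h4 (congrArg Subtype.val h)) (Subtype.ext h5)
  -- there is a big element
  have hgenW : ∀ H : Subgroup W, (∀ e ∈ E, e ≠ 1 → fixd e ≤ H) → H = ⊤ := fun H hH =>
    eq_top_iff.mpr (gen_fixd hW hp E hE hab hnc ⊤ H (fun _ _ _ _ => trivial)
      fun e he he1 x _ hx => hH e he he1 hx)
  have hE1 : ∃ e ∈ E, e ≠ 1 := by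
    by_contra h
    push Not at h
    apply hnc
    have : Subsingleton E := ⟨fun a b => Subtype.ext ((h a a.2).trans (h b b.2).symm)⟩
    infer_instance
  let FE : Subgroup W :=
    { carrier := {x | ∀ e ∈ E, e x = x}
      one_mem' := fun e _ => map_one e
      mul_mem' := fun hx hy e he => by rw [map_mul, hx e he, hy e he]
      inv_mem' := fun hx e he => by rw [map_inv, hx e he] }
  obtain ⟨e0, he0⟩ : ∃ e, Big E e := by
    by_contra hc
    push Not at hc
    obtain ⟨e, he, he1⟩ := hE1
    apply he1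
    have hFE : FE = ⊤ := hgenW FE fun a ha ha1 x hx b hb => by
      by_contra hne
      exact hc a ⟨ha, ha1, b, hb, x, hx, hne⟩
    refine MulEquiv.ext fun x => ?_
    exact (show x ∈ FE by rw [hFE]; trivial) e he
  have hp3 : p = 3 := (hbig e0 he0).1
  -- the involution
  obtain ⟨z, hzF, hzo⟩ : ∃ z ∈ fixd e0, orderOf z = 2 := by
    obtain ⟨⟨z, hz⟩, ho⟩ := exists_prime_orderOf_dvd_card' (G := fixd e0) 2
      (by rw [(hbig e0 he0).2.1]; norm_num)
    exact ⟨z, hz, by rwa [Subgroup.orderOf_mk] at ho⟩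
  have hzE : ∀ h ∈ E, h z = z := fun h hh =>
    hfix e0 he0.1 he0.2.1 _ z ((h.orderOf_eq z).trans hzo) hzo
      (by rw [← hcE h hh e0 he0.1, mem_fixd.mp hzF]) hzF
  have hz2 : z * z = 1 := by rw [← sq, ← hzo]; exact pow_orderOf_eq_one z
  have hz1 : z ≠ 1 := fun h => by rw [h, orderOf_one] at hzo; omega
  have hsq1 : ∀ e ∈ E, e ≠ 1 → ∀ x ∈ fixd e, x * x = 1 → x = 1 ∨ x = z := by
    intro e he he1 x hx hx2
    by_cases h : x = 1
    · exact Or.inl h
    · exact Or.inr (hfix e he he1 x z (orderOf_eq_prime (by rw [sq]; exact hx2) h) hzo hx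
        (hzE e he))
  -- `z` is central
  have hzc : z ∈ Subgroup.center W := by
    have htop : Subgroup.centralizer ({z} : Set W) = ⊤ := hgenW _ fun e he he1 x hx => by
      rw [Subgroup.mem_centralizer_iff]
      intro _ h
      rw [Set.mem_singleton_iff.mp h]
      have hconj : x * z * x⁻¹ = z := hfix e he he1 _ z
        (((MulAut.conj x).orderOf_eq z).trans hzo) hzo
        (by rw [map_mul, map_mul, map_inv, mem_fixd.mp hx, hzE e he]) (hzE e he)
      calc z * x = x * z * x⁻¹ * x := by rw [hconj]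
        _ = x * z := by group
    rw [Subgroup.mem_center_iff]
    intro g
    have hg : g ∈ Subgroup.centralizer ({z} : Set W) := by rw [htop]; trivial
    exact ((Subgroup.mem_centralizer_iff.mp hg) z rfl).symm
  set Z := Subgroup.zpowers z with hZ
  have hmemZ : ∀ x, x ∈ Z ↔ x = 1 ∨ x = z := by
    intro x
    constructor
    · intro hx
      obtain ⟨i, rfl⟩ := Subgroup.mem_zpowers_iff.mp hx
      rcases Int.even_or_odd' i with ⟨m, rfl | rfl⟩
      · left; rw [zpow_mul, zpow_two, hz2, one_zpow]
      · right; rw [zpow_add, zpow_mul, zpow_two, hz2, one_zpow, one_mul, zpow_one]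
    · rintro (rfl | rfl)
      · exact one_mem _
      · exact Subgroup.mem_zpowers _
  haveI hZn : Z.Normal := ⟨fun n hn g => by
    rcases (hmemZ n).mp hn with rfl | rfl
    · simp
    · rw [Subgroup.mem_center_iff.mp hzc g, mul_inv_cancel_right]; exact hn⟩
  have hZcard : Nat.card Z = 2 := by rw [hZ, Nat.card_zpowers, hzo]
  -- non-big fixed subgroups are small
  have hsmall : ∀ e ∈ E, e ≠ 1 → ¬ Big E e → fixd e ≤ Z := by
    intro e he he1 hnb x hx
    have hfx : ∀ h ∈ E, h x = x := fun h hh => by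
      by_contra hne; exact hnb ⟨he, he1, h, hh, x, hx, hne⟩
    obtain ⟨h1, hh1, x1, hx1, hne1⟩ := he0.2.2
    have := ((hbig e0 he0).2.2.2.1 h1 hh1 ⟨x1, hx1, hne1⟩ x (hfx e0 he0.1)).2 (hfx h1 hh1)
    exact (hmemZ x).mpr (hsq1 e he he1 x hx this)
  have hFEZ : ∀ x, (∀ h ∈ E, h x = x) → x ∈ Z := by
    intro x hx
    obtain ⟨h1, hh1, x1, hx1, hne1⟩ := he0.2.2
    exact (hmemZ x).mpr (hsq1 e0 he0.1 he0.2.1 x (hx e0 he0.1)
      (((hbig e0 he0).2.2.2.1 h1 hh1 ⟨x1, hx1, hne1⟩ x (hx e0 he0.1)).2 (hx h1 hh1)))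
  -- a moving element and the inner structure of a big fixed subgroup
  have hinv : ∀ e, Big E e → ∀ U : Subgroup W, (∀ h ∈ E, ∀ x ∈ U, h x ∈ U) →
      ∀ x ∈ U, x ∈ fixd e → x * x ≠ 1 →
        ∃ y ∈ U, y ∈ fixd e ∧ x * y ≠ y * x ∧ fixd e ≤ U := by
    intro e heB U hU x hxU hxF hx2
    obtain ⟨-, h8, -, hmove, -, hnon⟩ := hbig e heB
    obtain ⟨h, hh, x1, hx1, hne⟩ := heB.2.2
    have hm := hmove h hh ⟨x1, hx1, hne⟩
    have hyF : h x ∈ fixd e := by rw [mem_fixd, hcE e heB.1 h hh, mem_fixd.mp hxF]
    have hy2 : h x * h x ≠ 1 := fun h' => hx2 (h.injective (by rw [map_mul, h', map_one]))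
    have hnx : h x ≠ x := fun h' => hx2 ((hm x hxF).2 h')
    have hninv : x * h x ≠ 1 := by
      intro h'
      have e1 : h x = x⁻¹ := eq_inv_of_mul_eq_one_right h'
      have h3 := (hm x hxF).1
      rw [e1, map_inv, e1, inv_inv] at h3
      exact hnx h3
    have hne2 := hnon x hxF (h x) hyF hx2 hy2 hnx hninv
    refine ⟨h x, hU h hh x hxU, hyF, hne2, ?_⟩
    set K := U.subgroupOf (fixd e) with hK
    have hdvd : Nat.card K ∣ 8 := by rw [← h8]; exact Subgroup.card_subgroup_dvd_card K
    have hKtop : K = ⊤ := by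
      obtain ⟨i, hi, hKc⟩ := (Nat.dvd_prime_pow Nat.prime_two).mp
        (show Nat.card K ∣ 2 ^ 3 by simpa using hdvd)
      have hnab : ¬ ∀ a b : K, a * b = b * a := fun hcomm => hne2 (by
        have := hcomm ⟨⟨x, hxF⟩, hxU⟩ ⟨⟨h x, hyF⟩, hU h hh x hxU⟩
        exact congrArg (fun a : K => ((a : fixd e) : W)) this)
      interval_cases i
      · exact absurd (fun a b => by
          haveI := (Nat.card_eq_one_iff_unique.mp (show Nat.card K = 1 by rw [hKc, pow_zero])).1
          exact Subsingleton.elim _ _) hnab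
      · haveI : IsCyclic K := isCyclic_of_prime_card (p := 2) (by simpa using hKc)
        exact absurd (fun a b => IsCyclic.isMulCommutative.is_comm.comm a b) hnab
      · exact absurd (fun a b =>
          (IsPGroup.isMulCommutative_of_card_eq_prime_sq (p := 2) hKc).is_comm.comm a b) hnab
      · exact Subgroup.eq_top_of_card_eq _ (by rw [hKc, h8]; norm_num)
    intro w hw
    have : (⟨w, hw⟩ : fixd e) ∈ K := by rw [hKtop]; trivial
    exact this
  -- abelian invariant subgroups
  have habel : ∀ V : Subgroup W, (∀ h ∈ E, ∀ x ∈ V, h x ∈ V) →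
      (∀ a ∈ V, ∀ b ∈ V, a * b = b * a) → V ≤ Z := by
    intro V hV hVab
    refine gen_fixd hW hp E hE hab hnc V Z hV fun e he he1 x hx hxe => ?_
    by_cases hB : Big E e
    · by_contra hxZ
      have hx2 : x * x ≠ 1 := fun h => hxZ ((hmemZ x).mpr (hsq1 e he he1 x hxe h))
      obtain ⟨y, hyV, -, hne, -⟩ := hinv e hB V hV x hx hxe hx2
      exact hne (hVab x hx y hyV)
    · exact hsmall e he he1 hB hxe
  -- different big fixed subgroups commute
  have hcomm : ∀ N : ℕ, ∀ V : Subgroup W, Nat.card V ≤ N → (∀ h ∈ E, ∀ x ∈ V, h x ∈ V) →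
      ∀ a b, Big E a → Big E b → fixd a ≤ V → fixd b ≤ V → fixd a ≠ fixd b →
        ∀ x ∈ fixd a, ∀ y ∈ fixd b, x * y = y * x := by
    intro N
    induction N with
    | zero => intro V hV; exact absurd hV (by have := Nat.card_pos (α := V); omega)
    | succ N ih =>
    intro V hVc hVi a b haB hbB haV hbV hab' x hx y hy
    -- second centre
    let C2 : Subgroup W :=
      { carrier := {w | w ∈ V ∧ ∀ v ∈ V, ⁅w, v⁆ ∈ Z}
        one_mem' := ⟨one_mem _, fun v _ => by rw [commutatorElement_one_left]; exact one_mem _⟩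
        mul_mem' := fun {s t} hs ht => ⟨mul_mem hs.1 ht.1, fun v hv => by
          rw [show ⁅s * t, v⁆ = s * ⁅t, v⁆ * s⁻¹ * ⁅s, v⁆ by simp [commutatorElement_def]; group]
          exact mul_mem (hZn.conj_mem _ (ht.2 v hv) s) (hs.2 v hv)⟩
        inv_mem' := fun {s} hs => ⟨inv_mem hs.1, fun v hv => by
          rw [show ⁅s⁻¹, v⁆ = s⁻¹ * ⁅s, v⁆⁻¹ * s⁻¹⁻¹ by simp [commutatorElement_def]; group]
          exact hZn.conj_mem _ (inv_mem (hs.2 v hv)) _⟩ }
    have hC2i : ∀ h ∈ E, ∀ w ∈ C2, h w ∈ C2 := by
      intro h hh w hw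
      refine ⟨hVi h hh w hw.1, fun v hv => ?_⟩
      have := hw.2 (h⁻¹ v) (hVi _ (inv_mem hh) v hv)
      rcases (hmemZ _).mp this with h' | h'
      · have := congrArg h h'
        rw [map_commutatorElement, MulAut.apply_inv_self, map_one] at this
        rw [this]; exact one_mem _
      · have := congrArg h h'
        rw [map_commutatorElement, MulAut.apply_inv_self, hzE h hh] at this
        rw [this]; exact Subgroup.mem_zpowers z
    have hzV : z ∈ V := haV (hzE a haB.1)
    obtain ⟨c, hcB, hcV, hcC2⟩ : ∃ c, Big E c ∧ fixd c ≤ V ∧ fixd c ≤ C2 := by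
      by_contra hno
      push Not at hno
      have hC2Z : C2 ≤ Z := gen_fixd hW hp E hE hab hnc C2 Z hC2i fun e he he1 w hw hwe => by
        by_cases hB : Big E e
        · by_contra hwZ
          have hw2 : w * w ≠ 1 := fun h => hwZ ((hmemZ w).mpr (hsq1 e he he1 w hwe h))
          obtain ⟨-, -, -, -, hle⟩ := hinv e hB C2 hC2i w hw hwe hw2
          exact hno e hB (fun _ hu => (hle hu).1) hle
        · exact hsmall e he he1 hB hwe
      -- `V` modulo `Z` has trivial centre, so `V` is `Z`
      set π := QuotientGroup.mk' Z with hπ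
      have hbot : Subgroup.center (V.map π) = ⊥ := by
        rw [eq_bot_iff]
        rintro ⟨_, w, hw, rfl⟩ hc
        rw [Subgroup.mem_bot]
        apply Subtype.ext
        show π w = 1
        refine (QuotientGroup.eq_one_iff w).mpr (hC2Z ⟨hw, fun v hv => ?_⟩)
        rw [← QuotientGroup.eq_one_iff, ← QuotientGroup.mk'_apply, map_commutatorElement,
          commutatorElement_eq_one_iff_mul_comm]
        exact (congrArg Subtype.val (Subgroup.mem_center_iff.mp hc ⟨π v, v, hv, rfl⟩)).symm
      have hp' : IsPGroup 2 (V.map π) := (hW.to_quotient Z).to_subgroup _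
      have hsub : Subsingleton (V.map π) := by
        by_contra h
        rw [not_subsingleton_iff_nontrivial] at h
        have := hp'.center_nontrivial
        rw [hbot] at this
        exact not_nontrivial (⊥ : Subgroup (V.map π)) this
      obtain ⟨x1, hx1, hx12⟩ := (hbig a haB).2.2.2.2.1
      have hx1Z : x1 ∈ Z := by
        rw [← QuotientGroup.eq_one_iff]
        exact congrArg Subtype.val (hsub.elim (⟨π x1, x1, haV hx1, rfl⟩ : V.map π) 1)
      rcases (hmemZ x1).mp hx1Z with rfl | rfl
      · exact hx12 (one_mul 1)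
      · exact hx12 hz2
    -- everything else commutes with `fixd c`
    have hccomm : ∀ d, Big E d → fixd d ≤ V → fixd d ≠ fixd c →
        fixd d ≤ Subgroup.centralizer (fixd c : Set W) := by
      intro d hdB hdV hdc w hw
      rw [Subgroup.mem_centralizer_iff]
      intro t ht
      -- `c` moves `fixd d`
      have hmov : ∃ q ∈ fixd d, c q ≠ q := by
        by_contra h'
        push Not at h'
        apply hdc
        have hle : fixd d ≤ fixd c := h'
        exact Subgroup.eq_of_le_of_card_ge hle (by rw [(hbig c hcB).2.1, (hbig d hdB).2.1])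
      set T := fixd d ⊓ Subgroup.centralizer ({t} : Set W) with hT
      -- the commutator map
      have hker : ∀ q ∈ fixd d, q⁻¹ * c q ∈ Subgroup.centralizer ({t} : Set W) := by
        intro q hq
        rw [Subgroup.mem_centralizer_iff]
        intro _ h
        rw [Set.mem_singleton_iff.mp h]
        have h1 : ⁅t, q⁆ ∈ Z := (hcC2 ht).2 q (hdV hq)
        have h2 : c ⁅t, q⁆ = ⁅t, q⁆ := by
          rcases (hmemZ _).mp h1 with h' | h' <;> rw [h']
          · exact map_one c
          · exact hzE c hcB.1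
        rw [map_commutatorElement, mem_fixd.mp ht, commutatorElement_def,
          commutatorElement_def] at h2
        have h3 : c q * t⁻¹ * (c q)⁻¹ = q * t⁻¹ * q⁻¹ := by
          simpa [mul_assoc] using h2
        have h4 : c q * t * (c q)⁻¹ = q * t * q⁻¹ := by
          have := congrArg (·⁻¹) h3
          simpa [mul_assoc] using this
        calc t * (q⁻¹ * c q) = q⁻¹ * (q * t * q⁻¹) * c q := by group
          _ = q⁻¹ * (c q * t * (c q)⁻¹) * c q := by rw [h4]
          _ = q⁻¹ * c q * t := by group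
      -- two non-commuting elements in `T`
      obtain ⟨q1, hq1, hq12⟩ := (hbig d hdB).2.2.2.2.1
      have hm := (hbig d hdB).2.2.2.1 c hcB.1 hmov
      have hcq : ∀ q ∈ fixd d, c q ∈ fixd d := fun q hq => by
        rw [mem_fixd, hcE d hdB.1 c hcB.1, mem_fixd.mp hq]
      set g1 := q1⁻¹ * c q1 with hg1
      have hg1F : g1 ∈ fixd d := mul_mem (inv_mem hq1) (hcq q1 hq1)
      have hcg1 : c g1 = (c q1)⁻¹ * c (c q1) := by rw [hg1, map_mul, map_inv]
      have hg12 : g1 * g1 ≠ 1 := by
        intro h
        rcases (hmemZ g1).mpr (hsq1 d hdB.1 hdB.2.1 g1 hg1F h) |> (hmemZ g1).mp with h' | h'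
        · exact hq12 ((hm q1 hq1).2 (inv_mul_eq_one.mp h').symm)
        · have e1 : c q1 = q1 * z := by rw [← h', hg1, mul_inv_cancel_left]
          have h3 := (hm q1 hq1).1
          rw [e1, map_mul, e1, hzE c hcB.1, map_mul, map_mul, e1, hzE c hcB.1, mul_assoc (q1 * z),
            hz2, mul_one] at h3
          exact hz1 (mul_eq_left.mp h3)
      have hg2F : c g1 ∈ fixd d := hcq g1 hg1F
      have hne1 : c g1 ≠ g1 := fun h => hg12 ((hm g1 hg1F).2 h)
      have hne2 : g1 * c g1 ≠ 1 := by
        intro h'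
        have e1 : c g1 = g1⁻¹ := eq_inv_of_mul_eq_one_right h'
        have h3 := (hm g1 hg1F).1
        rw [e1, map_inv, e1, inv_inv] at h3
        exact hne1 h3
      have hnc2 : g1 * c g1 ≠ c g1 * g1 := (hbig d hdB).2.2.2.2.2 g1 hg1F (c g1) hg2F hg12
        (fun h => hg12 (c.injective (by rw [map_mul, h, map_one]))) hne1 hne2
      have hm1 : g1 ∈ T := ⟨hg1F, hker q1 hq1⟩
      have hm2 : c g1 ∈ T := ⟨hg2F, by rw [hcg1]; exact hker _ (hcq q1 hq1)⟩
      have hTtop : T.subgroupOf (fixd d) = ⊤ := by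
        set K := T.subgroupOf (fixd d) with hK
        have h8 := (hbig d hdB).2.1
        have hdvd : Nat.card K ∣ 2 ^ 3 := by
          rw [show (2 : ℕ) ^ 3 = 8 by norm_num, ← h8]; exact Subgroup.card_subgroup_dvd_card K
        obtain ⟨i, hi, hKc⟩ := (Nat.dvd_prime_pow Nat.prime_two).mp hdvd
        have hnab : ¬ ∀ u v : K, u * v = v * u := fun hcomm => hnc2 (congrArg
          (fun u : K => ((u : fixd d) : W)) (hcomm ⟨⟨g1, hg1F⟩, hm1⟩ ⟨⟨c g1, hg2F⟩, hm2⟩))
        interval_cases i
        · exact absurd (fun u v => by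
            haveI := (Nat.card_eq_one_iff_unique.mp (show Nat.card K = 1 by rw [hKc, pow_zero])).1
            exact Subsingleton.elim _ _) hnab
        · haveI : IsCyclic K := isCyclic_of_prime_card (p := 2) (by simpa using hKc)
          exact absurd (fun u v => IsCyclic.isMulCommutative.is_comm.comm u v) hnab
        · exact absurd (fun u v =>
            (IsPGroup.isMulCommutative_of_card_eq_prime_sq (p := 2) hKc).is_comm.comm u v) hnab
        · exact Subgroup.eq_top_of_card_eq _ (by rw [hKc, h8]; norm_num)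
      have hwT : (⟨w, hw⟩ : fixd d) ∈ T.subgroupOf (fixd d) := by rw [hTtop]; trivial
      exact (Subgroup.mem_centralizer_iff.mp hwT.2) t rfl
    by_cases hac : fixd a = fixd c
    · have hyc := hccomm b hbB hbV (fun h => hab' (hac.trans h.symm)) hy
      rw [hac] at hx
      exact (Subgroup.mem_centralizer_iff.mp hyc) x hx
    by_cases hbc : fixd b = fixd c
    · have hxc := hccomm a haB haV hac hx
      rw [hbc] at hy
      exact ((Subgroup.mem_centralizer_iff.mp hxc) y hy).symm
    -- descend
    let V1 := V ⊓ Subgroup.centralizer (fixd c : Set W)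
    have hlt : Nat.card V1 ≤ N := by
      have hlt : V1 < V := by
        refine lt_of_le_of_ne inf_le_left fun h => ?_
        obtain ⟨x1, hx1, hx12⟩ := (hbig c hcB).2.2.2.2.1
        obtain ⟨y1, -, hy1, hne, -⟩ := hinv c hcB ⊤ (fun _ _ _ _ => trivial) x1 trivial hx1 hx12
        have : x1 ∈ V1 := by rw [h]; exact hcV hx1
        exact hne ((Subgroup.mem_centralizer_iff.mp this.2) y1 hy1).symm
      have : Nat.card V1 < Nat.card V := by
        by_contra hge
        exact hlt.ne (Subgroup.eq_of_le_of_card_ge hlt.le (not_lt.mp hge))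
      omega
    have hV1i : ∀ h ∈ E, ∀ w ∈ V1, h w ∈ V1 := by
      intro h hh w hw
      refine ⟨hVi h hh w hw.1, ?_⟩
      show h w ∈ Subgroup.centralizer (fixd c : Set W)
      rw [Subgroup.mem_centralizer_iff]
      intro t ht
      have ht' : h⁻¹ t ∈ fixd c := by
        rw [mem_fixd, hcE c hcB.1 h⁻¹ (inv_mem hh), mem_fixd.mp ht]
      have := congrArg h ((Subgroup.mem_centralizer_iff.mp hw.2) _ ht')
      simpa using this
    exact ih V1 hlt hV1i a b haB hbB (le_inf haV (hccomm a haB haV hac))
      (le_inf hbV (hccomm b hbB hbV hbc)) hab' x hx y hy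
  have hcommW : ∀ a b, Big E a → Big E b → fixd a ≠ fixd b →
      ∀ x ∈ fixd a, ∀ y ∈ fixd b, x * y = y * x := fun a b ha hb hne =>
    hcomm (Nat.card (⊤ : Subgroup W)) ⊤ le_rfl (fun _ _ _ _ => trivial) a b ha hb le_top le_top hne
  -- the quotient by `Z` is elementary abelian
  have hin : ∀ e, Big E e → ∀ x ∈ fixd e, ∀ y ∈ fixd e, x * x ∈ Z ∧ ⁅x, y⁆ ∈ Z := by
    intro e heB
    have hsq : ∀ x ∈ fixd e, x * x ∈ Z := by
      intro x hx
      obtain ⟨-, h8, -⟩ := hbig e heB
      have ho : orderOf (⟨x, hx⟩ : fixd e) ∣ 8 := h8 ▸ orderOf_dvd_natCard _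
      refine (hmemZ _).mpr (hsq1 e heB.1 heB.2.1 _ (mul_mem hx hx) ?_)
      by_contra h4
      -- then the fixed subgroup is cyclic of order eight
      have ho8 : orderOf (⟨x, hx⟩ : fixd e) = 8 := by
        obtain ⟨i, hi, hoi⟩ := (Nat.dvd_prime_pow Nat.prime_two).mp
          (show orderOf (⟨x, hx⟩ : fixd e) ∣ 2 ^ 3 by simpa using ho)
        interval_cases i
        all_goals first
          | (rw [hoi]; norm_num; done)
          | (exfalso; apply h4
             rw [Subgroup.orderOf_mk] at hoi
             have h2' : orderOf x ∣ 4 := by rw [hoi]; norm_num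
             have := orderOf_dvd_iff_pow_eq_one.mp h2'
             rw [show (4 : ℕ) = 1 + 1 + 1 + 1 from rfl, pow_succ, pow_succ, pow_succ, pow_one,
               mul_assoc] at this
             exact this)
      obtain ⟨y1, hy1, hy12⟩ := (hbig e heB).2.2.2.2.1
      obtain ⟨y2, -, hy2, hne, -⟩ := hinv e heB ⊤ (fun _ _ _ _ => trivial) y1 trivial hy1 hy12
      have hcy : IsCyclic (fixd e) := isCyclic_of_orderOf_eq_card _ (ho8.trans h8.symm)
      exact hne (congrArg Subtype.val
        (IsCyclic.isMulCommutative.is_comm.comm (⟨y1, hy1⟩ : fixd e) ⟨y2, hy2⟩))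
    intro x hx y hy
    refine ⟨hsq x hx, ?_⟩
    have e1 : ⁅x, y⁆ = (x * y) * (x * y) * ((y⁻¹ * (x⁻¹ * x⁻¹) * y) * (y⁻¹ * y⁻¹)) := by
      rw [commutatorElement_def]; group
    rw [e1]
    refine mul_mem (hsq _ (mul_mem hx hy)) (mul_mem ?_ (hsq _ (inv_mem hy)))
    simpa using hZn.conj_mem _ (hsq _ (inv_mem hx)) y⁻¹
  set π := QuotientGroup.mk' Z with hπ
  have hπcomm : ∀ u v : W, π u * π v = π v * π u := by
    have h1 : ∀ e, e ∈ E → e ≠ 1 → ∀ u ∈ fixd e, ∀ v : W, π u * π v = π v * π u := by
      intro e he he1 u hu v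
      have hv : v ∈ (Subgroup.centralizer ({π u} : Set (W ⧸ Z))).comap π := by
        suffices h : (Subgroup.centralizer ({π u} : Set (W ⧸ Z))).comap π = ⊤ by rw [h]; trivial
        refine hgenW _ ?_
        intro f hf hf1 w hw
        rw [Subgroup.mem_comap, Subgroup.mem_centralizer_iff]
        intro _ h
        rw [Set.mem_singleton_iff.mp h, ← commutatorElement_eq_one_iff_mul_comm,
          ← map_commutatorElement, hπ, QuotientGroup.mk'_apply, QuotientGroup.eq_one_iff]
        have hcz : ∀ u' w' : W, u' ∈ Z → ⁅u', w'⁆ ∈ Z ∧ ⁅w', u'⁆ ∈ Z := fun u' w' hu' => by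
          constructor <;> rw [commutatorElement_def]
          · rw [mul_assoc, mul_assoc]
            refine mul_mem hu' ?_
            simpa [mul_assoc] using hZn.conj_mem _ (inv_mem hu') w'
          · exact mul_mem (hZn.conj_mem _ hu' w') (inv_mem hu')
        by_cases hBe : Big E e
        · by_cases hBf : Big E f
          · by_cases hef : fixd e = fixd f
            · rw [← hef] at hw; exact (hin e hBe u hu w hw).2
            · rw [commutatorElement_eq_one_iff_mul_comm.mpr (hcommW e f hBe hBf hef u hu w hw)]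
              exact one_mem _
          · exact (hcz w u (hsmall f hf hf1 hBf hw)).2
        · exact (hcz u w (hsmall e he he1 hBe hu)).1
      exact (Subgroup.mem_centralizer_iff.mp (Subgroup.mem_comap.mp hv)) (π u) rfl
    intro u v
    have hu : u ∈ (Subgroup.centralizer ({π v} : Set (W ⧸ Z))).comap π := by
      suffices h : (Subgroup.centralizer ({π v} : Set (W ⧸ Z))).comap π = ⊤ by rw [h]; trivial
      refine hgenW _ ?_
      intro f hf hf1 w hw
      rw [Subgroup.mem_comap, Subgroup.mem_centralizer_iff]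
      intro _ h
      rw [Set.mem_singleton_iff.mp h]
      exact (h1 f hf hf1 w hw v).symm
    exact ((Subgroup.mem_centralizer_iff.mp (Subgroup.mem_comap.mp hu)) (π v) rfl).symm
  have hπsq : ∀ u : W, u ^ 2 ∈ Z := by
    let S : Subgroup W :=
      { carrier := {u | π u * π u = 1}
        one_mem' := by simp
        mul_mem' := fun {u v} hu hv => by
          simp only [Set.mem_ofPred_eq] at hu hv ⊢
          rw [map_mul, mul_assoc, ← mul_assoc (π v) (π u), hπcomm v u, mul_assoc, hv, mul_one, hu]
        inv_mem' := fun {u} hu => by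
          simp only [Set.mem_ofPred_eq] at hu ⊢
          rw [map_inv, ← mul_inv_rev, hu, inv_one] }
    intro u
    have hu : u ∈ S := by
      suffices h : S = ⊤ by rw [h]; trivial
      refine hgenW S ?_
      intro f hf hf1 w hw
      show π w * π w = 1
      rw [← map_mul, hπ, QuotientGroup.mk'_apply, QuotientGroup.eq_one_iff]
      by_cases hBf : Big E f
      · exact (hin f hBf w hw w hw).1
      · exact mul_mem (hsmall f hf hf1 hBf hw) (hsmall f hf hf1 hBf hw)
    rw [sq, ← QuotientGroup.eq_one_iff]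
    exact hu
  have hcZ : commutator W ≤ Z := by
    rw [commutator_def, Subgroup.commutator_le]
    intro u _ v _
    rw [← QuotientGroup.eq_one_iff, ← QuotientGroup.mk'_apply, map_commutatorElement,
      commutatorElement_eq_one_iff_mul_comm]
    exact hπcomm u v
  have hcenter : Subgroup.center W = Z := by
    refine le_antisymm (habel _ (fun h _ x hx => ?_) fun a _ b hb => Subgroup.mem_center_iff.mp hb a) ?_
    · rw [Subgroup.mem_center_iff] at hx ⊢
      intro g
      have := congrArg h (hx (h⁻¹ g))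
      simpa using this
    · rw [hZ, Subgroup.zpowers_le]; exact hzc
  have hderived : commutator W = Z := by
    refine le_antisymm hcZ ?_
    obtain ⟨x1, hx1, hx12⟩ := (hbig e0 he0).2.2.2.2.1
    obtain ⟨y1, -, -, hne, -⟩ := hinv e0 he0 ⊤ (fun _ _ _ _ => trivial) x1 trivial hx1 hx12
    have hm : ⁅x1, y1⁆ ∈ commutator W := Subgroup.commutator_mem_commutator trivial trivial
    rcases (hmemZ _).mp (hcZ hm) with h | h
    · exact absurd (commutatorElement_eq_one_iff_mul_comm.mp h) hne
    · rw [h] at hm; rw [hZ, Subgroup.zpowers_le]; exact hm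
  have hfrat : frattini W = Z := by
    refine le_antisymm (H24.frattini_le_of (p := 2) Z hcZ hπsq) ?_
    rw [← hderived]
    exact H24.commutator_le_frattini hW
  have hextra : Cfsg.IsExtraspecial 2 W :=
    ⟨⟨hW, hfrat.trans hcenter.symm, hderived.trans hcenter.symm⟩, by rw [hcenter, hZcard]⟩
  have hnotall : ¬ ∀ e, Big E e → fixd e = fixd e0 := by
    intro hall
    apply he0.2.1
    have htop : fixd e0 = ⊤ := hgenW _ fun f hf hf1 => by
      by_cases hBf : Big E f
      · rw [hall f hBf]
      · exact (hsmall f hf hf1 hBf).trans (by rw [hZ, Subgroup.zpowers_le]; exact hzF)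
    exact MulEquiv.ext fun w => mem_fixd.mp (show w ∈ fixd e0 by rw [htop]; trivial)
  -- exponent three and order nine
  have hexp : ∀ h : E, h ^ 3 = 1 := by
    intro h
    refine Subtype.ext (MulEquiv.ext fun w => ?_)
    have hw : w ∈ fixd ((h ^ 3 : E) : MulAut W) := by
      suffices h' : fixd ((h ^ 3 : E) : MulAut W) = ⊤ by rw [h']; trivial
      refine hgenW _ ?_
      intro f hf hf1 x hx
      by_cases hBf : Big E f
      · by_cases hm : ∃ u ∈ fixd f, (h : MulAut W) u ≠ u
        · rw [mem_fixd]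
          simpa [pow_succ] using ((hbig f hBf).2.2.2.1 h h.2 hm x hx).1
        · push Not at hm
          rw [mem_fixd]
          simp [pow_succ, hm x hx]
      · rcases (hmemZ x).mp (hsmall f hf hf1 hBf hx) with rfl | rfl
        · exact map_one _
        · exact hzE _ (h ^ 3 : E).2
    exact mem_fixd.mp hw
  have hline : ∀ e (he : Big E e), 9 ≤ Nat.card E →
      Nat.card (restr E hab e he.1).ker * 3 = Nat.card E := by
    intro e he _
    rw [← (hbig e he).2.2.1 he.1, Subgroup.card_mul_index]
  have hge : 9 ≤ Nat.card E := by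
    obtain ⟨k, hk⟩ := hE.exists_card_eq
    rw [hp3] at hk
    by_contra hlt
    have hk1 : k ≤ 1 := by
      by_contra hk2
      have := Nat.pow_le_pow_right (show 0 < 3 by norm_num) (show 2 ≤ k by omega)
      omega
    apply hnc
    rcases Nat.eq_zero_or_pos k with rfl | hk0
    · haveI := (Nat.card_eq_one_iff_unique.mp (show Nat.card E = 1 by rw [hk, pow_zero])).1
      infer_instance
    · haveI : Fact (Nat.Prime 3) := ⟨Nat.prime_three⟩
      exact isCyclic_of_prime_card (p := 3) (by rw [hk, show k = 1 by omega, pow_one])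
  have h9 : Nat.card E = 9 := by
    by_contra hne9
    apply hnotall
    intro e heB
    set K := (restr E hab e heB.1).ker with hK
    set K0 := (restr E hab e0 he0.1).ker with hK0
    obtain ⟨h, hh, hh1⟩ : ∃ h : E, h ∈ K ⊓ K0 ∧ h ≠ 1 := by
      by_contra hc
      push Not at hc
      have hbot : K ⊓ K0 = ⊥ := eq_bot_iff.mpr fun u hu => Subgroup.mem_bot.mpr (hc u hu)
      have hle : (K ⊓ K0).index ≤ 9 := by
        refine le_trans (Subgroup.index_inf_le (H := K) (K := K0)) ?_
        rw [hK, hK0, (hbig e heB).2.2.1 heB.1, (hbig e0 he0).2.2.1 he0.1]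
      rw [hbot, Subgroup.index_bot] at hle
      exact hne9 (le_antisymm hle hge)
    have hk : ∀ f (hf : Big E f), h ∈ (restr E hab f hf.1).ker → fixd f ≤ fixd (h : MulAut W) :=
      fun f hf hh' x hx => congrArg Subtype.val (DFunLike.congr_fun hh' (⟨x, hx⟩ : fixd f))
    have hle1 := hk e heB hh.1
    have hle2 := hk e0 he0 hh.2
    have hhB : Big E (h : MulAut W) := by
      obtain ⟨-, -, g, hg, x, hx, hne'⟩ := he0
      exact ⟨h.2, fun h' => hh1 (Subtype.ext h'), g, hg, x, hle2 hx, hne'⟩
    have h8 : ∀ f, Big E f → Nat.card (fixd f) = 8 := fun f hf => (hbig f hf).2.1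
    rw [Subgroup.eq_of_le_of_card_ge hle1 (by rw [h8 e heB, h8 _ hhB]),
      Subgroup.eq_of_le_of_card_ge hle2 (by rw [h8 e0 he0, h8 _ hhB])]
  -- the order of `W`
  haveI : Fintype (Subgroup W) := Fintype.ofFinite _
  let Q : Finset (Subgroup W) := Finset.univ.filter fun U => ∃ e, Big E e ∧ fixd e = U
  have hcardW : ∀ s : Finset (Subgroup W), s ⊆ Q →
      Nat.card (Z ⊔ s.sup id : Subgroup W) = 2 * 4 ^ s.card ∧
        ∀ U ∈ Q, U ∉ s → ∀ u ∈ U, ∀ r ∈ Z ⊔ s.sup id, u * r = r * u := by
    intro s hs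
    have hsecond : ∀ t : Finset (Subgroup W), t ⊆ Q →
        ∀ U ∈ Q, U ∉ t → ∀ u ∈ U, ∀ r ∈ Z ⊔ t.sup id, u * r = r * u := by
      intro t ht U hU hUt u hu r hr
      obtain ⟨a, haB, rfl⟩ := (Finset.mem_filter.mp hU).2
      have hle : Z ⊔ t.sup id ≤ Subgroup.centralizer ({u} : Set W) := by
        refine sup_le (fun q hq => ?_) (Finset.sup_le fun R hR q hq => ?_)
        · rw [Subgroup.mem_centralizer_iff]
          intro _ h
          rw [Set.mem_singleton_iff.mp h]
          rw [← hcenter] at hq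
          exact Subgroup.mem_center_iff.mp hq u
        · obtain ⟨b, hbB, rfl⟩ := (Finset.mem_filter.mp (ht hR)).2
          rw [Subgroup.mem_centralizer_iff]
          intro _ h
          rw [Set.mem_singleton_iff.mp h]
          exact hcommW a b haB hbB (fun h' => hUt (h' ▸ hR)) u hu q hq
      exact (Subgroup.mem_centralizer_iff.mp (hle hr)) u rfl
    refine ⟨?_, hsecond s hs⟩
    induction s using Finset.induction_on with
    | empty => simp [hZcard]
    | @insert U t hUt ih =>
      have hU : U ∈ Q := hs (Finset.mem_insert_self _ _)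
      have ht : t ⊆ Q := fun R hR => hs (Finset.mem_insert_of_mem hR)
      have iht := ih ht
      obtain ⟨a, haB, rfl⟩ := (Finset.mem_filter.mp hU).2
      set R := Z ⊔ t.sup id with hR
      have hcom := hsecond t ht _ hU hUt
      have hinter : fixd a ⊓ R = Z := by
        refine le_antisymm ?_ (le_inf ?_ le_sup_left)
        · intro q hq
          obtain ⟨x1, hx1, hx12⟩ := (hbig a haB).2.2.2.2.1
          by_contra hqZ
          have hq2 : q * q ≠ 1 := fun h => hqZ ((hmemZ q).mpr (hsq1 a haB.1 haB.2.1 q hq.1 h))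
          obtain ⟨y1, -, hy1, hne, -⟩ := hinv a haB ⊤ (fun _ _ _ _ => trivial) q trivial hq.1 hq2
          exact hne (hcom y1 hy1 q hq.2).symm
        · rw [hZ, Subgroup.zpowers_le]; exact hzE a haB.1
      let f := MonoidHom.noncommCoprod (fixd a).subtype R.subtype
        (fun m n => hcom m m.2 n n.2)
      have hrange : f.range = fixd a ⊔ R :=
        (MonoidHom.noncommCoprod_range _ _ _).trans
          (by rw [Subgroup.range_subtype, Subgroup.range_subtype])
      have hkey : Nat.card (fixd a) * Nat.card R =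
          Nat.card f.ker * Nat.card (fixd a ⊔ R : Subgroup W) := by
        rw [← Nat.card_prod, ← hrange, ← Subgroup.index_ker]
        exact (Subgroup.card_mul_index f.ker).symm
      have hker : Nat.card f.ker = 2 := by
        rw [← hZcard]
        refine Nat.card_congr
          { toFun := fun u => ⟨((u : fixd a × R).1 : W), ?_⟩
            invFun := fun q => ⟨(⟨q, (hinter.ge q.2).1⟩, ⟨(q : W)⁻¹, inv_mem (hinter.ge q.2).2⟩), ?_⟩
            left_inv := fun u => ?_
            right_inv := fun q => rfl }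
        · have hu : ((u : fixd a × R).1 : W) * ((u : fixd a × R).2 : W) = 1 := u.2
          refine hinter.le ⟨(u : fixd a × R).1.2, ?_⟩
          rw [eq_inv_of_mul_eq_one_left hu]
          exact R.inv_mem (u : fixd a × R).2.2
        · show (q : W) * (q : W)⁻¹ = 1
          exact mul_inv_cancel _
        · have hu : ((u : fixd a × R).1 : W) * ((u : fixd a × R).2 : W) = 1 := u.2
          ext
          · rfl
          · exact (eq_inv_of_mul_eq_one_right hu).symm
      rw [hker, (hbig a haB).2.1, iht] at hkey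
      rw [Finset.sup_insert, id_eq, sup_left_comm, ← hR, Finset.card_insert_of_notMem hUt,
        pow_succ]
      linarith
  have hQtop : Z ⊔ Q.sup id = ⊤ := hgenW _ fun f hf hf1 => by
    by_cases hBf : Big E f
    · exact le_sup_of_le_right (Finset.le_sup (f := id)
        (Finset.mem_filter.mpr ⟨Finset.mem_univ _, f, hBf, rfl⟩))
    · exact (hsmall f hf hf1 hBf).trans le_sup_left
  have hW' : Nat.card W = 2 * 4 ^ Q.card := by
    rw [← (hcardW Q subset_rfl).1, hQtop, Subgroup.card_top]
  have hk4 : Q.card ≤ 4 := by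
    haveI : Fintype (MulAut W) := Fintype.ofFinite _
    let S : Finset (MulAut W) := Finset.univ.filter fun e => e ∈ E ∧ e ≠ 1
    have hS : S.card = 8 := by
      have : (Finset.univ.filter fun e : MulAut W => e ∈ E) = insert 1 S := by
        ext e
        simp only [S, Finset.mem_filter, Finset.mem_univ, true_and, Finset.mem_insert]
        by_cases h : e = 1 <;> simp [h]
      have h' := congrArg Finset.card this
      rw [Finset.card_insert_of_notMem (by simp [S]), ← Fintype.card_subtype,
        ← Nat.card_eq_fintype_card] at h'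
      rw [show Nat.card {e : MulAut W // e ∈ E} = 9 from h9] at h'
      omega
    have hfib : ∀ U ∈ Q, 2 ≤ (S.filter fun e => fixd e = U).card := by
      intro U hU
      obtain ⟨e, heB, rfl⟩ : ∃ e, Big E e ∧ fixd e = U := by simpa [Q] using hU
      have he3 : e ^ 3 = 1 := congrArg Subtype.val (hexp ⟨e, heB.1⟩)
      have hinv' : e⁻¹ ≠ e := by
        intro h
        apply heB.2.1
        have h2 : e * e = 1 := by nth_rw 1 [← h]; exact inv_mul_cancel e
        rwa [pow_succ, pow_two, h2, one_mul] at he3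
      have hf : fixd e⁻¹ = fixd e := by
        ext w
        rw [mem_fixd, mem_fixd]
        constructor <;> intro h <;> nth_rw 1 [← h]
        · simp
        · simp
      rw [← Finset.card_pair hinv']
      refine Finset.card_le_card ?_
      intro w hw
      simp only [Finset.mem_insert, Finset.mem_singleton] at hw
      simp only [S, Finset.mem_filter, Finset.mem_univ, true_and]
      rcases hw with rfl | rfl
      · exact ⟨⟨inv_mem heB.1, inv_ne_one.mpr heB.2.1⟩, hf⟩
      · exact ⟨⟨heB.1, heB.2.1⟩, rfl⟩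
    have h1 : Q.card * 2 ≤ ∑ U ∈ Q, (S.filter fun e => fixd e = U).card := by
      rw [← smul_eq_mul, ← Finset.sum_const]
      exact Finset.sum_le_sum hfib
    have h2 : ∑ U ∈ Q, (S.filter fun e => fixd e = U).card ≤ S.card := by
      convert (Finset.sum_card_fiberwise_eq_card_filter S Q fixd).le.trans (Finset.card_filter_le _ _)
    omega
  have hk2 : 2 ≤ Q.card := by
    obtain ⟨e, heB, hne⟩ : ∃ e, Big E e ∧ fixd e ≠ fixd e0 := by
      by_contra h
      push Not at h
      exact hnotall h
    rw [← Finset.card_pair hne]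
    refine Finset.card_le_card ?_
    intro U hU
    simp only [Finset.mem_insert, Finset.mem_singleton] at hU
    simp only [Q, Finset.mem_filter, Finset.mem_univ, true_and]
    rcases hU with rfl | rfl
    · exact ⟨e, heB, rfl⟩
    · exact ⟨e0, he0, rfl⟩
  refine ⟨h9, hextra, ?_, ?_⟩
  · rw [hW']
    interval_cases Q.card <;> norm_num
  · rw [hcenter]
    ext x
    refine ⟨fun hx => hFEZ x hx, fun hx h hh => ?_⟩
    rcases (hmemZ x).mp hx with rfl | rfl
    · exact map_one h
    · exact hzE h hh

end Cfsg.Agent.H85.OddAuto
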