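import Cfsg.Agent.H49.Q8Auto
import Cfsg.Agent.H76.UniqueInvolution
import Cfsg.Agent.H21.UniqueSubgroup

/-!
Odd automorphism groups of 2-groups with at most one involution.
-/

namespace Cfsg.Agent.H85.OddAuto

open QuaternionGroup

theorem q8_fixed : ∀ u v : QuaternionGroup 2,
    (∀ x y, H23.q8Map u v (x * y) = H23.q8Map u v x * H23.q8Map u v y) →
    (∀ x, H23.q8Map u v (H23.q8Map u v (H23.q8Map u v x)) = x) →
    (∃ x, H23.q8Map u v x ≠ x) → ∀ x, H23.q8Map u v x = x → x * x = 1 := by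
  decide +kernel

theorem q8_noncomm : ∀ x y : QuaternionGroup 2,
    x * x ≠ 1 → y * y ≠ 1 → y ≠ x → x * y ≠ 1 → x * y ≠ y * x := by
  decide +kernel

theorem q8_count : (Finset.univ.filter fun x : QuaternionGroup 2 => x * x ≠ 1).card = 6 := by
  decide +kernel

/-- A non-trivial odd automorphism group of a 2-group with one involution. -/
theorem small_action {Y : Type*} [Group Y] [Finite Y] (hY : IsPGroup 2 Y)
    (huniq : ∀ x y : Y, orderOf x = 2 → orderOf y = 2 → x = y)
    {p : ℕ} [Fact p.Prime] (hp : p ≠ 2) (A : Subgroup (MulAut Y)) (hA : IsPGroup p A)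
    (hne : A ≠ ⊥) :
    p = 3 ∧ Nat.card A = 3 ∧ Nat.card Y = 8 ∧
      (∀ σ ∈ A, σ ≠ 1 → σ ^ 3 = 1 ∧ ∀ x, σ x = x → x * x = 1) ∧
      (∃ x : Y, x * x ≠ 1) ∧
      (∀ x y : Y, x * x ≠ 1 → y * y ≠ 1 → y ≠ x → x * y ≠ 1 → x * y ≠ y * x) := by
  classical
  obtain ⟨σ, hσA, hσ1⟩ : ∃ σ ∈ A, σ ≠ 1 := by
    by_contra h
    push Not at h
    exact hne (eq_bot_iff.mpr fun x hx => Subgroup.mem_bot.mpr (h x hx))
  have hodd : ∀ τ ∈ A, ∃ r : ℕ, Odd r ∧ τ ^ r = 1 := by
    intro τ hτ
    obtain ⟨j, hj⟩ := hA ⟨τ, hτ⟩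
    exact ⟨p ^ j, ((Fact.out : p.Prime).odd_of_ne_two hp).pow, congrArg Subtype.val hj⟩
  obtain ⟨r, hr, hσr⟩ := hodd σ hσA
  -- an involution
  obtain ⟨z, hz⟩ : ∃ z : Y, orderOf z = 2 := by
    haveI : Nontrivial Y := by
      by_contra h
      rw [not_nontrivial_iff_subsingleton] at h
      exact hσ1 (MulEquiv.ext fun x => Subsingleton.elim _ _)
    obtain ⟨k, hk⟩ := hY.exists_card_eq
    have h2 : 2 ∣ Nat.card Y := by
      rw [hk]
      refine dvd_pow_self 2 fun h0 => ?_
      rw [h0, pow_zero] at hk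
      exact absurd hk (by have := Finite.one_lt_card (α := Y); omega)
    haveI : Fact (Nat.Prime 2) := ⟨Nat.prime_two⟩
    exact exists_prime_orderOf_dvd_card' 2 h2
  have hzσ : σ z = z := huniq _ _ ((σ.orderOf_eq z).trans hz) hz
  haveI : Fact (Nat.Prime 2) := ⟨Nat.prime_two⟩
  -- a cyclic subgroup of index at most two
  obtain ⟨C, hC, hCi⟩ : ∃ C : Subgroup Y, IsCyclic C ∧ C.index ∣ 2 := by
    by_cases hcomm : IsMulCommutative Y
    · letI : CommGroup Y := { (inferInstance : Group Y) with mul_comm := hcomm.is_comm.comm }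
      have hcyc : IsCyclic Y := by
        refine H21.isCyclic_of_comm_unique (p := 2) hY fun H K hH hK => ?_
        have hmem : ∀ L : Subgroup Y, Nat.card L = 2 → L = Subgroup.zpowers z := by
          intro L hL
          obtain ⟨⟨l, hl⟩, hol⟩ := exists_prime_orderOf_dvd_card' 2 (dvd_of_eq hL.symm)
          rw [Subgroup.orderOf_mk] at hol
          have hlz := huniq l z hol hz
          subst hlz
          refine (Subgroup.eq_of_le_of_card_ge (Subgroup.zpowers_le.mpr hl) ?_).symm
          rw [Nat.card_zpowers, hol, hL]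
        rw [hmem H hH, hmem K hK]
      exact ⟨⊤, Subgroup.topEquiv.isCyclic.mpr hcyc, by simp⟩
    · obtain ⟨x, hx1, -⟩ := H76.exists_cyclic_index_two_of_unique_involution hY hcomm
        ⟨z, hz, fun w hw => huniq w z hw hz⟩
      refine ⟨Subgroup.zpowers x, inferInstance, ?_⟩
      by_cases htop : Subgroup.zpowers x = ⊤
      · rw [htop, Subgroup.index_top]; exact one_dvd 2
      obtain ⟨a, ha⟩ : ∃ a, a ∉ Subgroup.zpowers x := by
        by_contra h
        push Not at h
        exact htop (eq_top_iff.mpr fun w _ => h w)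
      refine dvd_of_eq (Subgroup.index_eq_two_iff.mpr ⟨a, fun b => ?_⟩)
      by_cases hb : b ∈ Subgroup.zpowers x
      · exact Or.inr ⟨hb, fun h => ha ((Subgroup.mul_mem_cancel_left _ hb).mp h)⟩
      · exact Or.inl ⟨hx1 b a hb ha, hb⟩
  haveI := hC
  obtain ⟨e⟩ := H49.Q8Auto.q8_of_cyclic_index_two hY C hCi σ hr hσr hσ1 z hz hzσ
  have hcube : ∀ τ ∈ A, τ ≠ 1 → τ ^ 3 = 1 ∧ ∀ x, τ x = x → x * x = 1 := by
    intro τ hτ hτ1
    obtain ⟨r', hr', hτr⟩ := hodd τ hτ
    set c : MulAut Y ≃* MulAut (QuaternionGroup 2) :=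
      { toFun := fun f => (e.trans f).trans e.symm
        invFun := fun f => (e.symm.trans f).trans e
        left_inv := fun f => by ext x; simp
        right_inv := fun f => by ext x; simp
        map_mul' := fun f g => by ext x; simp } with hc
    set α := c τ with hα
    have hα1 : α ≠ 1 := fun h => hτ1 (c.injective (h.trans (map_one c).symm))
    have hα3 := (H23.exists_sl_conj α hr' (by rw [hα, ← map_pow, hτr, map_one]) hα1).1
    refine ⟨c.injective (by rw [map_pow, ← hα, hα3, map_one]), fun x hx => ?_⟩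
    have h := q8_fixed (α (a 1)) (α (xa 0))
      (fun x y => by rw [← H23.q8Map_eq, ← H23.q8Map_eq, ← H23.q8Map_eq, map_mul])
      (fun y => by
        rw [← H23.q8Map_eq, ← H23.q8Map_eq, ← H23.q8Map_eq]
        simpa [pow_succ] using congrArg (fun f : MulAut (QuaternionGroup 2) => f y) hα3)
      (by
        by_contra hall
        push Not at hall
        exact hα1 (MulEquiv.ext fun y => (H23.q8Map_eq α y).trans (hall y)))
      (e.symm x) (by rw [← H23.q8Map_eq]; simp [hα, hc, hx])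
    simpa using congrArg e h
  -- exponent three, hence `p = 3`
  have hp3 : p = 3 := by
    obtain ⟨j, hj⟩ := hA ⟨σ, hσA⟩
    have h3 := (hcube σ hσA hσ1).1
    by_contra hne3
    apply hσ1
    have := pow_gcd_eq_one.2 ⟨h3, congrArg Subtype.val hj⟩
    rwa [(Nat.Coprime.pow_right j
      ((Nat.coprime_primes Nat.prime_three Fact.out).mpr (Ne.symm hne3)) : Nat.Coprime 3 (p ^ j)),
      pow_one] at this
  have hY8 : Nat.card Y = 8 := by
    rw [← Nat.card_congr e.toEquiv, Nat.card_eq_fintype_card, QuaternionGroup.card]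
  have hnc : ∀ x y : Y, x * x ≠ 1 → y * y ≠ 1 → y ≠ x → x * y ≠ 1 → x * y ≠ y * x := by
    intro x y h1 h2 h3 h4 h5
    exact q8_noncomm (e.symm x) (e.symm y) (fun h => h1 (by simpa using congrArg e h))
      (fun h => h2 (by simpa using congrArg e h)) (fun h => h3 (e.symm.injective h))
      (fun h => h4 (by simpa using congrArg e h)) (by rw [← map_mul, h5, map_mul])
  have hex : ∃ x : Y, x * x ≠ 1 :=
    ⟨e (a 1), fun h => absurd (e.injective (by rw [map_mul, h, map_one]))
      (show ¬ (a 1 : QuaternionGroup 2) * a 1 = 1 by decide)⟩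
  refine ⟨hp3, ?_, hY8, hcube, hex, hnc⟩
  -- the group acts semiregularly on six elements
  obtain ⟨x0, hx0⟩ := hex
  obtain ⟨k, hk⟩ := hA.exists_card_eq
  have hinj : Function.Injective
      (fun τ : A => (⟨(τ : MulAut Y) x0, fun h => hx0 ((τ : MulAut Y).injective
        (by rw [map_mul, h, map_one]))⟩ : {y : Y // y * y ≠ 1})) := by
    intro τ τ' h
    by_contra hne'
    have hfix : ((τ'⁻¹ * τ : A) : MulAut Y) x0 = x0 := by
      have h' := congrArg Subtype.val h
      simp only [Subgroup.coe_mul, InvMemClass.coe_inv, MulAut.mul_apply] at h' ⊢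
      rw [h']
      simp
    exact hx0 ((hcube _ (τ'⁻¹ * τ : A).2 (fun h1 => hne'
      (inv_mul_eq_one.mp (Subtype.ext h1 : τ'⁻¹ * τ = 1)).symm)).2 x0 hfix)
  have h6 : Nat.card {y : Y // y * y ≠ 1} = 6 := by
    rw [← q8_count, Nat.card_congr (e.symm.toEquiv.subtypeEquiv (q := fun x => x * x ≠ 1)
      fun y => by simp [← map_mul]), Nat.card_eq_fintype_card, Fintype.card_subtype]
  have hle := Nat.card_le_card_of_injective _ hinj
  rw [h6, hk, hp3] at hle
  have hk1 : k ≠ 0 := by
    intro h0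
    rw [h0, pow_zero] at hk
    exact hne (Subgroup.card_eq_one.mp hk)
  have hk2 : k < 2 := by
    by_contra hge
    have := Nat.pow_le_pow_right (show 0 < 3 by norm_num) (not_lt.mp hge)
    omega
  rw [hk, hp3, show k = 1 by omega, pow_one]

end Cfsg.Agent.H85.OddAuto
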