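import Cfsg.Agent.S4591
import Cfsg.Agent.H45.ExtendComplement
import Cfsg.Agent.H69.McKay
import Cfsg.Agent.H44.Codegree

/-!
# Squares of the degrees prime to `p` against the normalizer of a Sylow `p`-subgroup modulo `P'`

The sum of `χ(1)²` over the irreducible characters of degree prime to `p` is at least `|N : P'|`,
with equality exactly when the normalizer `N` of `P` has a normal complement.
-/

set_option autoImplicit false

open scoped commutatorElement
open Finset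

namespace Cfsg.Agent.H85.OddDegreeSum

/-- The total of the squared degrees prime to `p`. -/
noncomputable def primeDegSq (p : ℕ) (G : Type*) [Group G] : ℕ :=
  ∑ᶠ χ : {χ : Cfsg.IrrCharacter G // ¬ p ∣ Cfsg.charDegree (χ : G → ℂ)},
    Cfsg.charDegree (χ.1 : G → ℂ) ^ 2

theorem primeDegSq_eq_sum {p : ℕ} {G : Type*} [Group G] [Fintype G] :
    primeDegSq p G = ∑ χ ∈ Finset.univ.filter
      (fun χ : Cfsg.IrrCharacter G => ¬ p ∣ Cfsg.charDegree (χ : G → ℂ)),
        Cfsg.charDegree (χ : G → ℂ) ^ 2 := by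
  classical
  rw [primeDegSq, finsum_eq_sum_of_fintype]
  exact (Finset.sum_subtype (F := inferInstance) _ (fun χ => by simp)
    (fun χ : Cfsg.IrrCharacter G => Cfsg.charDegree (χ : G → ℂ) ^ 2)).symm

/-- With a normal Sylow `p`-subgroup the squared degrees prime to `p` fill the quotient by its
derived subgroup. -/
theorem primeDegSq_normal_sylow {G : Type*} [Group G] [Fintype G] {p : ℕ} [Fact p.Prime]
    (P : Sylow p G) [hP : (P : Subgroup G).Normal] :
    primeDegSq p G * Nat.card ↥⁅(P : Subgroup G), (P : Subgroup G)⁆ = Nat.card G := by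
  classical
  set K := ⁅(P : Subgroup G), (P : Subgroup G)⁆
  set π := QuotientGroup.mk' K with hπ
  have hπs := QuotientGroup.mk'_surjective K
  set A := (P : Subgroup G).map π
  haveI : A.Normal := hP.map π hπs
  have hidx : ¬ p ∣ A.index := fun h => P.not_dvd_index
    (h.trans (Subgroup.index_map_dvd _ hπs))
  have hab : ∀ a ∈ A, ∀ b ∈ A, a * b = b * a := by
    rintro _ ⟨x, hx, rfl⟩ _ ⟨y, hy, rfl⟩
    rw [← commutatorElement_eq_one_iff_mul_comm, ← map_commutatorElement]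
    exact (QuotientGroup.eq_one_iff _).2 (Subgroup.commutator_mem_commutator hx hy)
  have hdeg : ∀ φ : Cfsg.IrrCharacter (G ⧸ K), ¬ p ∣ Cfsg.charDegree φ.1 := by
    intro φ
    obtain ⟨n, ρ, hρ, e⟩ := φ.2
    have h1 := H43.irr_charDegree_spec φ
    rw [← e, ρ.char_one] at h1
    rw [← e, ← Nat.cast_injective h1]
    exact H45.not_dvd_finrank_of_abelian_normal_sylow ρ p A (P.isPGroup'.map π) hidx hab
  have hinfl : ∀ φ : Cfsg.IrrCharacter (G ⧸ K),
      Cfsg.charDegree (H45.inflIrr π hπs φ).1 = Cfsg.charDegree φ.1 := fun φ => by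
    simp [Cfsg.charDegree, H45.inflIrr]
  have himg : Finset.univ.filter
      (fun χ : Cfsg.IrrCharacter G => ¬ p ∣ Cfsg.charDegree (χ : G → ℂ)) =
      Finset.univ.map ⟨H45.inflIrr π hπs, H45.inflIrr_injective π hπs⟩ := by
    ext χ
    simp only [Finset.mem_filter, Finset.mem_univ, true_and, Finset.mem_map,
      Function.Embedding.coeFn_mk]
    constructor
    · intro hχ
      have h2 := S4591.le_charKer P ⊥ (bot_inf_eq _) χ hχ
      rw [bot_sup_eq, Subgroup.normalCore_eq_self] at h2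
      exact H69.McKay.exists_inflIrr_eq K χ h2
    · rintro ⟨φ, rfl⟩
      rw [hinfl]
      exact hdeg φ
  rw [primeDegSq_eq_sum, himg, Finset.sum_map, K.card_eq_card_quotient_mul_card_subgroup]
  congr 1
  rw [← H44.sum_charDegree_sq (G := G ⧸ K)]
  exact Finset.sum_congr rfl fun φ _ => by rw [Function.Embedding.coeFn_mk, hinfl]

/-- A sum of squares of natural numbers is strictly less than the square of a bound on their sum
once one of them is positive and below the bound. -/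
theorem sum_sq_lt {ι : Type*} (s : Finset ι) (a : ι → ℕ) (d : ℕ) (hd : ∑ i ∈ s, a i ≤ d) {i : ι}
    (hi : i ∈ s) (h0 : a i ≠ 0) (hlt : a i < d) : ∑ j ∈ s, a j ^ 2 < d ^ 2 := by
  classical
  rw [← Finset.add_sum_erase s _ hi]
  rw [← Finset.add_sum_erase s _ hi] at hd
  have h1 : ∑ j ∈ s.erase i, a j ^ 2 ≤ (∑ j ∈ s.erase i, a j) ^ 2 :=
    Finset.sum_sq_le_sq_sum_of_nonneg fun _ _ => Nat.zero_le _
  generalize hb : ∑ j ∈ s.erase i, a j = b at h1 hd
  have h2 := Nat.pow_le_pow_left hd 2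
  rcases Nat.eq_zero_or_pos b with rfl | hbp
  · have h3 := Nat.pow_lt_pow_left hlt two_ne_zero
    omega
  · have h3 := Nat.mul_pos (Nat.pos_of_ne_zero h0) hbp
    rw [add_sq, mul_assoc] at h2
    omega

section Compare

variable {G : Type*} [Group G] [Fintype G] {p : ℕ} [Fact p.Prime]

/-- The weight of `ψ` inside `χ`. -/
noncomputable def wgt (N : Subgroup G) [Fintype N] (χ : Cfsg.IrrCharacter G)
    (ψ : Cfsg.IrrCharacter N) : ℕ :=
  H43.mult (fun n : N => χ.1 n) ψ * Cfsg.charDegree ψ.1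

theorem sum_wgt (N : Subgroup G) [Fintype N] (χ : Cfsg.IrrCharacter G) :
    ∑ ψ : Cfsg.IrrCharacter N, wgt N χ ψ = Cfsg.charDegree χ.1 := by
  have h := H43.apply_one_eq_sum_mult
    (φ := fun n : N => χ.1 n) (H26.isCharacter_comp (H26.irr_isCharacter χ) N.subtype)
  rw [Subgroup.coe_one, H43.irr_charDegree_spec] at h
  simp only [wgt]
  exact_mod_cast h.symm

theorem sum_wgt_le (N : Subgroup G) [Fintype N] (χ : Cfsg.IrrCharacter G)
    (s : Finset (Cfsg.IrrCharacter N)) : ∑ ψ ∈ s, wgt N χ ψ ≤ Cfsg.charDegree χ.1 := by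
  rw [← sum_wgt N χ]
  exact Finset.sum_le_sum_of_subset (Finset.subset_univ _)

theorem primeDegSq_le_of_index (N : Subgroup G) [Fintype N] (hN : ¬ p ∣ N.index) :
    primeDegSq p N ≤ primeDegSq p G := by
  classical
  rw [primeDegSq_eq_sum, primeDegSq_eq_sum]
  set S := Finset.univ.filter
    (fun ψ : Cfsg.IrrCharacter N => ¬ p ∣ Cfsg.charDegree (ψ : N → ℂ))
  set T := Finset.univ.filter
    (fun χ : Cfsg.IrrCharacter G => ¬ p ∣ Cfsg.charDegree (χ : G → ℂ))
  calc ∑ ψ ∈ S, Cfsg.charDegree (ψ : N → ℂ) ^ 2 ≤ ∑ ψ ∈ S, ∑ χ ∈ T, wgt N χ ψ ^ 2 := by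
        refine Finset.sum_le_sum fun ψ hψ => ?_
        obtain ⟨χ, hχ, hm⟩ := H43.exists_above_not_dvd N ψ hN (Finset.mem_filter.1 hψ).2
        refine le_trans ?_ (Finset.single_le_sum (fun χ _ => Nat.zero_le (wgt N χ ψ ^ 2))
          (Finset.mem_filter.2 ⟨Finset.mem_univ χ, hχ⟩))
        exact Nat.pow_le_pow_left (Nat.le_mul_of_pos_left _ (Nat.pos_of_ne_zero hm)) 2
    _ = ∑ χ ∈ T, ∑ ψ ∈ S, wgt N χ ψ ^ 2 := Finset.sum_comm
    _ ≤ ∑ χ ∈ T, Cfsg.charDegree (χ : G → ℂ) ^ 2 := by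
        refine Finset.sum_le_sum fun χ _ => ?_
        exact (Finset.sum_sq_le_sq_sum_of_nonneg fun _ _ => Nat.zero_le _).trans
          (Nat.pow_le_pow_left (sum_wgt_le N χ S) 2)

/-- In the case of equality every character of degree prime to `p` extends. -/
theorem extends_of_primeDegSq_eq (N : Subgroup G) [Fintype N] (hN : ¬ p ∣ N.index)
    (heq : primeDegSq p N = primeDegSq p G) (θ : Cfsg.IrrCharacter N)
    (hθ : ¬ p ∣ Cfsg.charDegree (θ : N → ℂ)) :
    ∃ χ : Cfsg.IrrCharacter G, ∀ x : N, χ.1 x = θ.1 x := by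
  classical
  obtain ⟨χ, hχ, hm⟩ := H43.exists_above_not_dvd N θ hN hθ
  by_contra hne
  push Not at hne
  set S := Finset.univ.filter
    (fun ψ : Cfsg.IrrCharacter N => ¬ p ∣ Cfsg.charDegree (ψ : N → ℂ)) with hS
  set T := Finset.univ.filter
    (fun χ : Cfsg.IrrCharacter G => ¬ p ∣ Cfsg.charDegree (χ : G → ℂ)) with hT
  have hθS : θ ∈ S := Finset.mem_filter.2 ⟨Finset.mem_univ _, hθ⟩
  have hχT : χ ∈ T := Finset.mem_filter.2 ⟨Finset.mem_univ _, hχ⟩
  have hle : ∀ ψ ∈ S, Cfsg.charDegree (ψ : N → ℂ) ^ 2 ≤ ∑ χ ∈ T, wgt N χ ψ ^ 2 := by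
    intro ψ hψ
    obtain ⟨χ', hχ', hm'⟩ := H43.exists_above_not_dvd N ψ hN (Finset.mem_filter.1 hψ).2
    refine le_trans ?_ (Finset.single_le_sum (fun χ _ => Nat.zero_le (wgt N χ ψ ^ 2))
      (Finset.mem_filter.2 ⟨Finset.mem_univ χ', hχ'⟩))
    exact Nat.pow_le_pow_left (Nat.le_mul_of_pos_left _ (Nat.pos_of_ne_zero hm')) 2
  have hle2 : ∀ χ' ∈ T, ∑ ψ ∈ S, wgt N χ' ψ ^ 2 ≤ Cfsg.charDegree (χ' : G → ℂ) ^ 2 :=
    fun χ' _ => (Finset.sum_sq_le_sq_sum_of_nonneg fun _ _ => Nat.zero_le _).trans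
      (Nat.pow_le_pow_left (sum_wgt_le N χ' S) 2)
  rw [primeDegSq_eq_sum, primeDegSq_eq_sum, ← hS, ← hT] at heq
  have hdθ := H43.irr_charDegree_pos θ
  have hwle : wgt N χ θ ≤ Cfsg.charDegree χ.1 :=
    (Finset.single_le_sum (fun ψ _ => Nat.zero_le (wgt N χ ψ)) hθS).trans (sum_wgt_le N χ S)
  rcases hwle.lt_or_eq with hlt | hfull
  · -- some other constituent
    have h1 : ∑ χ' ∈ T, ∑ ψ ∈ S, wgt N χ' ψ ^ 2 < ∑ χ' ∈ T, Cfsg.charDegree (χ' : G → ℂ) ^ 2 :=
      Finset.sum_lt_sum hle2 ⟨χ, hχT, sum_sq_lt S _ _ (sum_wgt_le N χ S) hθS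
        (mul_ne_zero hm hdθ.ne') hlt⟩
    rw [Finset.sum_comm] at h1
    exact absurd (Finset.sum_le_sum hle) (not_le.2 (heq ▸ h1))
  · -- `θ` is the only constituent
    by_cases h1m : H43.mult (fun n : N => χ.1 n) θ = 1
    · -- then it is the restriction
      have hz : ∀ ψ : Cfsg.IrrCharacter N, ψ ≠ θ → H43.mult (fun n : N => χ.1 n) ψ = 0 := by
        intro ψ hψ
        have h := sum_wgt N χ
        rw [← Finset.add_sum_erase _ _ (Finset.mem_univ θ), hfull, add_eq_left,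
          Finset.sum_eq_zero_iff] at h
        exact (mul_eq_zero.1 (h ψ (Finset.mem_erase.2 ⟨hψ, Finset.mem_univ _⟩))).resolve_right
          (H43.irr_charDegree_pos ψ).ne'
      obtain ⟨x, hx⟩ := hne χ
      apply hx
      have h := congrFun (H43.eq_sum_mult (φ := fun n : N => χ.1 n)
        (H26.isCharacter_comp (H26.irr_isCharacter χ) N.subtype)) x
      rw [Finset.sum_apply, Finset.sum_eq_single θ
        (fun ψ _ hψ => by rw [Pi.smul_apply, hz ψ hψ, Nat.cast_zero, zero_smul])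
        (fun h => absurd (Finset.mem_univ _) h), Pi.smul_apply, h1m, Nat.cast_one, one_smul] at h
      exact h
    · have h2 : Cfsg.charDegree (θ : N → ℂ) < wgt N χ θ :=
        lt_mul_of_one_lt_left hdθ (by omega)
      have h1 : ∑ ψ ∈ S, Cfsg.charDegree (ψ : N → ℂ) ^ 2 < ∑ ψ ∈ S, ∑ χ' ∈ T, wgt N χ' ψ ^ 2 :=
        Finset.sum_lt_sum hle ⟨θ, hθS, (Nat.pow_lt_pow_left h2 two_ne_zero).trans_le
          (Finset.single_le_sum (fun χ' _ => Nat.zero_le (wgt N χ' θ ^ 2)) hχT)⟩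
      rw [Finset.sum_comm] at h1
      exact absurd (Finset.sum_le_sum hle2) (not_le.2 (heq ▸ h1))

set_option maxHeartbeats 1000000 in
/-- A normal complement of `N` in the kernels makes restriction injective. -/
theorem primeDegSq_le_of_complement (N K : Subgroup G) [Fintype N] [K.Normal]
    (hinf : K ⊓ N = ⊥) (hsup : K ⊔ N = ⊤)
    (hker : ∀ χ : Cfsg.IrrCharacter G, ¬ p ∣ Cfsg.charDegree χ.1 → K ≤ H43.charKer χ) :
    primeDegSq p G ≤ primeDegSq p N := by
  classical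
  have hsurj : ∀ q : G ⧸ K, ∃ n : N, QuotientGroup.mk' K n = q := by
    intro q
    obtain ⟨g, rfl⟩ := QuotientGroup.mk'_surjective K q
    have hg : g ∈ K ⊔ N := hsup ▸ Subgroup.mem_top g
    obtain ⟨k, hk, n, hn, rfl⟩ := Subgroup.mem_sup_of_normal_left.1 hg
    refine ⟨⟨n, hn⟩, ?_⟩
    rw [map_mul, show QuotientGroup.mk' K k = 1 from (QuotientGroup.eq_one_iff _).2 hk, one_mul]
  let e : N ≃* G ⧸ K := MulEquiv.ofBijective ((QuotientGroup.mk' K).comp N.subtype)
    ⟨(injective_iff_map_eq_one _).2 fun n hn => Subtype.ext ((Subgroup.mem_bot).1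
      (hinf ▸ ⟨(QuotientGroup.eq_one_iff _).1 hn, n.2⟩)), hsurj⟩
  have hres : ∀ χ : Cfsg.IrrCharacter G, ¬ p ∣ Cfsg.charDegree χ.1 →
      ∃ φ : Cfsg.IrrCharacter (G ⧸ K), ∀ g : G, χ.1 g = φ.1 (g : G ⧸ K) := by
    intro χ hχ
    obtain ⟨φ, hφ⟩ := H69.McKay.exists_inflIrr_eq K χ (hker χ hχ)
    exact ⟨φ, fun g => by rw [← hφ]; rfl⟩
  choose φ hφ using hres
  rw [primeDegSq, primeDegSq, finsum_eq_sum_of_fintype, finsum_eq_sum_of_fintype]
  let f : {χ : Cfsg.IrrCharacter G // ¬ p ∣ Cfsg.charDegree (χ : G → ℂ)} →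
      {ψ : Cfsg.IrrCharacter N // ¬ p ∣ Cfsg.charDegree (ψ : N → ℂ)} := fun χ =>
    ⟨H43.irrCongr e (φ χ.1 χ.2), by
      rw [H43.charDegree_irrCongr]
      simpa [Cfsg.charDegree, hφ χ.1 χ.2] using χ.2⟩
  have hfd : ∀ χ, Cfsg.charDegree ((f χ).1 : N → ℂ) = Cfsg.charDegree (χ.1 : G → ℂ) := fun χ => by
    show Cfsg.charDegree (H43.irrCongr e (φ χ.1 χ.2)).1 = _
    rw [H43.charDegree_irrCongr]
    simp [Cfsg.charDegree, hφ χ.1 χ.2]
  have hf : Function.Injective f := by
    intro a b hab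
    refine Subtype.ext (Subtype.ext (funext fun g => ?_))
    obtain ⟨n, hn⟩ := hsurj (g : G ⧸ K)
    rw [hφ a.1 a.2, hφ b.1 b.2, ← hn]
    exact congrFun (congrArg (fun x => (x.1).1) hab) n
  calc ∑ χ : {χ : Cfsg.IrrCharacter G // ¬ p ∣ Cfsg.charDegree (χ : G → ℂ)},
        Cfsg.charDegree (χ.1 : G → ℂ) ^ 2
      = ∑ x ∈ Finset.univ.map ⟨f, hf⟩, Cfsg.charDegree (x.1 : N → ℂ) ^ 2 := by
        rw [Finset.sum_map]
        exact Finset.sum_congr rfl fun χ _ => by rw [Function.Embedding.coeFn_mk, hfd]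
    _ ≤ _ := Finset.sum_le_sum_of_subset (Finset.subset_univ _)

end Compare

/-- The inequality and the case of equality. -/
theorem sylow_normalizer_bound {G : Type*} [Group G] [Finite G] {p : ℕ} [Fact p.Prime]
    (P : Sylow p G) :
    Nat.card (Subgroup.normalizer ((P : Subgroup G) : Set G)) ≤
        Nat.card (commutator ↥P) * primeDegSq p G ∧
    (Nat.card (Subgroup.normalizer ((P : Subgroup G) : Set G)) =
        Nat.card (commutator ↥P) * primeDegSq p G ↔
      ∃ K : Subgroup G, K.Normal ∧ K ⊓ Subgroup.normalizer ((P : Subgroup G) : Set G) = ⊥ ∧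
        K ⊔ Subgroup.normalizer ((P : Subgroup G) : Set G) = ⊤) := by
  classical
  set N := Subgroup.normalizer ((P : Subgroup G) : Set G) with hNdef
  haveI := Fintype.ofFinite G
  haveI : Fintype N := Fintype.ofFinite _
  have hPN : (P : Subgroup G) ≤ N := Subgroup.le_normalizer
  set Q : Sylow p N := P.subtype hPN with hQ
  have hQc : (Q : Subgroup N) = (P : Subgroup G).subgroupOf N := Sylow.coe_subtype _ _
  haveI : (Q : Subgroup N).Normal := by
    rw [hQc]; exact Subgroup.normal_in_normalizer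
  have hD : Nat.card ↥⁅(Q : Subgroup N), (Q : Subgroup N)⁆ = Nat.card (commutator ↥P) := by
    rw [← Subgroup.card_map_of_injective (f := N.subtype) N.subtype_injective,
      Subgroup.map_commutator, hQc, Subgroup.subgroupOf_map_subtype, inf_eq_left.2 hPN,
      ← Subgroup.map_subtype_commutator,
      Subgroup.card_map_of_injective (Subgroup.subtype_injective _)]
    rfl
  have hN : Nat.card N = Nat.card (commutator ↥P) * primeDegSq p N := by
    rw [← hD, mul_comm]
    exact (primeDegSq_normal_sylow Q).symm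
  have hidx : ¬ p ∣ N.index := fun h =>
    P.not_dvd_index (h.trans (Subgroup.index_dvd_of_le hPN))
  have hle := primeDegSq_le_of_index N hidx
  rw [hN]
  refine ⟨Nat.mul_le_mul_left _ hle, ?_, ?_⟩
  · intro h
    have heq : primeDegSq p N = primeDegSq p G := Nat.eq_of_mul_eq_mul_left Nat.card_pos h
    obtain ⟨L, hL, hsup, hinf⟩ := H45.exists_complement_of_pPrimeExtends p P
      (fun θ hθ => extends_of_primeDegSq_eq N hidx heq θ hθ)
    exact ⟨L, hL, hinf, hsup⟩
  · rintro ⟨K, hK, hinf, hsup⟩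
    haveI := hK
    refine congrArg _ (le_antisymm hle (primeDegSq_le_of_complement N K hinf hsup fun χ hχ => ?_))
    have hC : K ⊓ Subgroup.centralizer ((P : Subgroup G) : Set G) = ⊥ := by
      rw [eq_bot_iff, ← hinf]
      exact inf_le_inf_left _ (Subgroup.centralizer_le_normalizer _)
    exact le_trans (by rw [Subgroup.normal_le_normalCore]; exact le_sup_left)
      (S4591.le_charKer P K hC χ hχ)

end Cfsg.Agent.H85.OddDegreeSum
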