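import Mathlib
import Cfsg.Agent.H85.NilpotentCover

/-!
# No minimal covers by nilpotent subgroups: symmetric and alternating groups
-/

set_option autoImplicit false
set_option linter.style.haveILetI false
set_option linter.unusedSectionVars false

namespace Cfsg.Agent.H85

variable {G : Type*} [Group G] [Finite G]

/-- The large case. -/
theorem no_nilpCover_of_simple_stab {X : Type*} [MulAction G X] {S : Type*} [Group S] [Finite S]
    [IsSimpleGroup S] (hS : ¬ IsMulCommutative S) (f : S →* G) (hf : Function.Injective f) (ω : X)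
    (hω : ∀ s : S, f s • ω = ω) (hne : MulAction.stabilizer G ω ≠ ⊤) (x : G) (hx : x • ω = ω)
    (huniq : ∀ ω' : X, x • ω' = ω' → ω' = ω)
    (hc : ∃ a b : S, b ≠ 1 ∧ f a * x * (f a)⁻¹ * x⁻¹ = f b) (𝓐 : Finset (Subgroup G)) :
    ¬ NilpCover 𝓐 := by
  intro h
  have hle : ∀ z : G, z • ω = ω → (∀ ω' : X, z • ω' = ω' → ω' = ω) →
      ∀ A : Subgroup G, A ≠ ⊤ → Group.IsNilpotent A → z ∈ A → A ≤ MulAction.stabilizer G ω :=
    fun z hz hzu A _ hA hzA => le_stabilizer_of_unique_fixed hA hzA hz hzu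
  obtain ⟨A, hA, hxA⟩ := h.1.2 x
  have hAM := hle x hx huniq A (h.1.1 A hA) (h.2.2 A hA) hxA
  have hconj : ∀ s : S, f s * x * (f s)⁻¹ ∈ A := by
    intro s
    set z := f s * x * (f s)⁻¹ with hz
    have hz1 : z • ω = ω := by
      rw [hz, mul_smul, mul_smul, inv_smul_eq_iff.2 (hω s).symm, hx, hω]
    have hz2 : ∀ ω' : X, z • ω' = ω' → ω' = ω := fun ω' he => by
      have h1 : x • (f s)⁻¹ • ω' = (f s)⁻¹ • ω' := by
        rw [eq_inv_smul_iff, ← mul_smul, ← mul_smul]
        exact he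
      have h2 := huniq _ h1
      rw [inv_smul_eq_iff] at h2
      rw [h2, hω]
    obtain ⟨B, hB, hzB⟩ := h.1.2 z
    by_cases he : B = A
    · exact he ▸ hzB
    · exact absurd (top_le_iff.1 ((h.sup_eq_top hB hA he) ▸
        sup_le (hle z hz1 hz2 B (h.1.1 B hB) (h.2.2 B hB) hzB) hAM)) hne
  set N := Subgroup.closure (Set.range fun s : S => f s * x * (f s)⁻¹) with hN
  have hNA : N ≤ A := by
    rw [hN, Subgroup.closure_le]
    rintro _ ⟨s, rfl⟩
    exact hconj s
  have hNinv : ∀ t : S, ∀ n ∈ N, f t * n * (f t)⁻¹ ∈ N := by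
    intro t n hn
    induction hn using Subgroup.closure_induction with
    | mem y hy =>
      obtain ⟨s, rfl⟩ := hy
      exact Subgroup.subset_closure ⟨t * s, by simp only [map_mul]; group⟩
    | one => simp
    | mul a b _ _ ha hb =>
      rw [show f t * (a * b) * (f t)⁻¹ = f t * a * (f t)⁻¹ * (f t * b * (f t)⁻¹) by group]
      exact mul_mem ha hb
    | inv a _ ha =>
      rw [show f t * a⁻¹ * (f t)⁻¹ = (f t * a * (f t)⁻¹)⁻¹ by group]
      exact inv_mem ha
  haveI hnorm : (N.comap f).Normal := ⟨fun b hb t => by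
    rw [Subgroup.mem_comap, map_mul, map_mul, map_inv]
    exact hNinv t _ hb⟩
  obtain ⟨a, b, hb, hab⟩ := hc
  have hbN : b ∈ N.comap f := by
    rw [Subgroup.mem_comap, ← hab]
    exact mul_mem (Subgroup.subset_closure ⟨a, rfl⟩) (inv_mem (Subgroup.subset_closure ⟨1, by simp⟩))
  have htop : N.comap f = ⊤ := by
    rcases IsSimpleGroup.eq_bot_or_eq_top_of_normal _ hnorm with h' | h'
    · exact absurd (Subgroup.mem_bot.1 (h' ▸ hbN)) hb
    · exact h'
  let g : S →* A := f.codRestrict A fun s => hNA (htop ▸ Subgroup.mem_top s : s ∈ N.comap f)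
  have hg : Function.Injective g := fun u v huv => hf (congrArg Subtype.val huv)
  haveI := h.2.2 A hA
  haveI : Group.IsNilpotent S :=
    Group.nilpotent_of_mulEquiv (MonoidHom.ofInjective hg).symm
  have hsol : Group.IsSolvable S := inferInstance
  exact hS ⟨⟨fun u v => IsSimpleGroup.comm_iff_isSolvable.2 hsol u v⟩⟩

/-- An element of order three with a small normaliser is self-centralising among nilpotent
subgroups. -/
theorem le_zpowers_of_normalizer {x : G} (hx3 : orderOf x = 3)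
    (hN : ∀ a : G, (a * x * a⁻¹ = x ∨ a * x * a⁻¹ = x⁻¹) →
      (a = 1 ∨ a = x ∨ a = x⁻¹) ∨ (a * a = 1 ∧ a * x ≠ x * a))
    {A : Subgroup G} (hA : Group.IsNilpotent A) (hxA : x ∈ A) : A ≤ Subgroup.zpowers x := by
  have hmem : ∀ b : G, b = 1 ∨ b = x ∨ b = x⁻¹ → b ∈ Subgroup.zpowers x := by
    rintro b (rfl | rfl | rfl)
    exacts [one_mem _, Subgroup.mem_zpowers _, inv_mem (Subgroup.mem_zpowers _)]
  refine nilpotent_induction hA (fun a => a ∈ Subgroup.zpowers x) (one_mem _) fun a ha h => ?_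
  have h1 := mul_mem (h x hxA) (Subgroup.mem_zpowers x)
  rw [inv_mul_cancel_right] at h1
  have h2 : a * x * a⁻¹ = x ∨ a * x * a⁻¹ = x⁻¹ := by
    obtain ⟨i, hi⟩ := h1
    have hx : x ^ (3 : ℤ) = 1 := by
      rw [show (3 : ℤ) = ((3 : ℕ) : ℤ) from rfl, zpow_natCast, ← hx3, pow_orderOf_eq_one]
    have h3 : x ^ i = x ^ (i % 3) := by
      conv_lhs => rw [← Int.ediv_mul_add_emod i 3, zpow_add, zpow_mul']
      rw [hx, one_zpow, one_mul]
    rcases (by omega : i % 3 = 0 ∨ i % 3 = 1 ∨ i % 3 = 2) with hm | hm | hm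
    · exfalso
      change x ^ i = _ at hi
      rw [h3, hm, zpow_zero, eq_comm, mul_inv_eq_one, mul_eq_left] at hi
      rw [hi, orderOf_one] at hx3
      omega
    · left
      change x ^ i = _ at hi
      rw [← hi, h3, hm, zpow_one]
    · right
      change x ^ i = _ at hi
      rw [← hi, h3, hm, show (2 : ℤ) = 3 + (-1) from rfl, zpow_add, hx, one_mul, zpow_neg_one]
  rcases hN a h2 with h3 | ⟨h3, h4⟩
  · exact hmem a h3
  · refine absurd (commute_of_coprime_nilpotent hA ha hxA ?_).eq h4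
    rw [hx3]
    exact Nat.Coprime.coprime_dvd_left (orderOf_dvd_of_pow_eq_one (by rw [sq]; exact h3)) (by norm_num)

/-- Two such elements in a proper subgroup exclude a nilpotent minimal cover. -/
theorem no_nilpCover_of_threes {x y : G} (hx3 : orderOf x = 3) (hy3 : orderOf y = 3)
    (hNx : ∀ a : G, (a * x * a⁻¹ = x ∨ a * x * a⁻¹ = x⁻¹) →
      (a = 1 ∨ a = x ∨ a = x⁻¹) ∨ (a * a = 1 ∧ a * x ≠ x * a))
    (hNy : ∀ a : G, (a * y * a⁻¹ = y ∨ a * y * a⁻¹ = y⁻¹) →
      (a = 1 ∨ a = y ∨ a = y⁻¹) ∨ (a * a = 1 ∧ a * y ≠ y * a))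
    (M : Subgroup G) (hM : M ≠ ⊤) (hxM : x ∈ M) (hyM : y ∈ M) (hne : x * y ≠ y * x)
    (𝓐 : Finset (Subgroup G)) : ¬ NilpCover 𝓐 := by
  intro h
  obtain ⟨A, hA, hxA, hyA⟩ := h.exists_common hM
    (fun B _ hB hxB => (le_zpowers_of_normalizer hx3 hNx hB hxB).trans (Subgroup.zpowers_le.2 hxM))
    (fun B _ hB hyB => (le_zpowers_of_normalizer hy3 hNy hB hyB).trans (Subgroup.zpowers_le.2 hyM))
  obtain ⟨i, hi⟩ := le_zpowers_of_normalizer hx3 hNx (h.2.2 A hA) hxA hyA
  exact hne (hi ▸ ((Commute.refl x).zpow_right i).eq)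

/-- Derangements of `Fin k` of either sign. -/
theorem exists_derangement {k : ℕ} (hk : 4 ≤ k) :
    ∃ σ : Equiv.Perm (Fin k), (∀ i, σ i ≠ i) ∧ Equiv.Perm.sign σ = 1 := by
  have hrot : ∀ l : ℕ, 2 ≤ l → ∀ i : Fin l, finRotate l i ≠ i := by
    intro l hl i
    obtain ⟨l, rfl⟩ : ∃ l', l = l' + 2 := ⟨l - 2, by omega⟩
    simp
  rcases Nat.even_or_odd k with he | ho
  · obtain ⟨l, rfl⟩ : ∃ l, k = 2 + l := ⟨k - 2, by omega⟩
    refine ⟨finSumFinEquiv.permCongr (Equiv.Perm.sumCongr (finRotate 2) (finRotate l)),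
      fun i h => ?_, ?_⟩
    · rw [Equiv.permCongr_apply, ← Equiv.eq_symm_apply] at h
      generalize finSumFinEquiv.symm i = j at h
      rcases j with j | j
      · exact hrot 2 le_rfl j (by simpa using h)
      · exact hrot l (by omega) j (by simpa using h)
    · rw [Equiv.Perm.sign_permCongr, Equiv.Perm.sign_sumCongr]
      obtain ⟨l, rfl⟩ : ∃ l', l = l' + 1 := ⟨l - 1, by omega⟩
      rw [sign_finRotate, sign_finRotate]
      have : Odd l := by
        rcases Nat.even_or_odd l with h' | h'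
        · obtain ⟨a, ha⟩ := h'
          obtain ⟨b, hb⟩ := he
          omega
        · exact h'
      rw [Nat.add_sub_cancel, this.neg_one_pow]
      simp
  · refine ⟨finRotate k, hrot k (by omega), ?_⟩
    obtain ⟨l, rfl⟩ : ∃ l, k = l + 1 := ⟨k - 1, by omega⟩
    rw [sign_finRotate]
    obtain ⟨a, ha⟩ := ho
    rw [Even.neg_one_pow ⟨a, by omega⟩]

/-- The embedding of permutations of the first `n` points among `n + 1`. -/
noncomputable def embLast (n : ℕ) : Equiv.Perm (Fin n) →* Equiv.Perm (Fin (n + 1)) :=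
  Equiv.Perm.extendDomainHom (Equiv.ofInjective Fin.castSucc (Fin.castSucc_injective n))

theorem embLast_castSucc (n : ℕ) (σ : Equiv.Perm (Fin n)) (i : Fin n) :
    embLast n σ i.castSucc = (σ i).castSucc :=
  Equiv.Perm.extendDomain_apply_image _ _ i

theorem embLast_last (n : ℕ) (σ : Equiv.Perm (Fin n)) : embLast n σ (Fin.last n) = Fin.last n :=
  Equiv.Perm.extendDomain_apply_not_subtype _ _ (by
    rintro ⟨i, hi⟩
    exact (Fin.castSucc_lt_last i).ne hi)

theorem sign_embLast (n : ℕ) (σ : Equiv.Perm (Fin n)) :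
    Equiv.Perm.sign (embLast n σ) = Equiv.Perm.sign σ :=
  Equiv.Perm.sign_extendDomain _ _

theorem embLast_unique (n : ℕ) {σ : Equiv.Perm (Fin n)} (hσ : ∀ i, σ i ≠ i) (j : Fin (n + 1))
    (h : embLast n σ j = j) : j = Fin.last n := by
  induction j using Fin.lastCases with
  | last => rfl
  | cast i => rw [embLast_castSucc] at h; exact absurd (Fin.castSucc_injective n h) (hσ i)

theorem alternating_not_comm {k : ℕ} (hk : 5 ≤ k) :
    IsSimpleGroup ↥(alternatingGroup (Fin k)) ∧ ¬ IsMulCommutative ↥(alternatingGroup (Fin k)) := by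
  refine ⟨alternatingGroup.isSimpleGroup (by rw [Nat.card_fin]; omega), fun h => ?_⟩
  let c1 : Equiv.Perm (Fin k) := Equiv.swap ⟨0, by omega⟩ ⟨1, by omega⟩ * Equiv.swap ⟨1, by omega⟩ ⟨2, by omega⟩
  let c2 : Equiv.Perm (Fin k) := Equiv.swap ⟨0, by omega⟩ ⟨1, by omega⟩ * Equiv.swap ⟨1, by omega⟩ ⟨3, by omega⟩
  have h1 : c1 ∈ alternatingGroup (Fin k) := by simp [c1, Equiv.Perm.sign_swap, Fin.ext_iff]
  have h2 : c2 ∈ alternatingGroup (Fin k) := by simp [c2, Equiv.Perm.sign_swap, Fin.ext_iff]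
  have h3 := congrArg (fun e : ↥(alternatingGroup (Fin k)) => (e : Equiv.Perm (Fin k)) ⟨1, by omega⟩)
    (h.is_comm.comm ⟨c1, h1⟩ ⟨c2, h2⟩)
  simp [c1, c2, Equiv.swap_apply_def, Fin.ext_iff] at h3

theorem stabilizer_last_ne_top (n : ℕ) (hn : 3 ≤ n) :
    MulAction.stabilizer ↥(alternatingGroup (Fin (n + 1))) (Fin.last n) ≠ ⊤ := by
  intro h
  let c : Equiv.Perm (Fin (n + 1)) := Equiv.swap (Fin.last n) ⟨1, by omega⟩ * Equiv.swap ⟨1, by omega⟩ ⟨2, by omega⟩
  have h1 : c ∈ alternatingGroup (Fin (n + 1)) := by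
    simp [c, Equiv.Perm.sign_swap, Fin.ext_iff, Fin.val_last, show n ≠ 1 by omega, show n ≠ 2 by omega]
  have h2 : (⟨c, h1⟩ : ↥(alternatingGroup (Fin (n + 1)))) • Fin.last n = Fin.last n :=
    (h ▸ Subgroup.mem_top _ : _ ∈ MulAction.stabilizer ↥(alternatingGroup (Fin (n + 1))) (Fin.last n))
  change c (Fin.last n) = Fin.last n at h2
  simp [c, Equiv.swap_apply_def, Fin.ext_iff, Fin.val_last, show n ≠ 1 by omega, show n ≠ 2 by omega] at h2
  omega

theorem no_nilpCover_alternating_large {n : ℕ} (hn : 5 ≤ n)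
    (𝓐 : Finset (Subgroup ↥(alternatingGroup (Fin (n + 1))))) : ¬ NilpCover 𝓐 := by
  obtain ⟨hsimp, hnc⟩ := alternating_not_comm hn
  obtain ⟨σ, hσ, hσs⟩ := exists_derangement (k := n) (by omega)
  let f : ↥(alternatingGroup (Fin n)) →* ↥(alternatingGroup (Fin (n + 1))) :=
    ((embLast n).comp (alternatingGroup (Fin n)).subtype).codRestrict _ fun e => by
      rw [Equiv.Perm.mem_alternatingGroup, MonoidHom.comp_apply, sign_embLast]; exact e.2
  have hf : Function.Injective f := fun a b hab =>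
    Subtype.ext (Equiv.Perm.extendDomainHom_injective _ (congrArg Subtype.val hab))
  refine no_nilpCover_of_simple_stab hnc f hf (Fin.last n) (fun s => embLast_last n _)
    (stabilizer_last_ne_top n (by omega)) (f ⟨σ, hσs⟩) (embLast_last n σ)
    (fun j hj => embLast_unique n hσ j hj) ?_ 𝓐
  obtain ⟨a, ha⟩ : ∃ a : ↥(alternatingGroup (Fin n)), a * ⟨σ, hσs⟩ * a⁻¹ * (⟨σ, hσs⟩)⁻¹ ≠ 1 := by
    by_contra hall
    push Not at hall
    have hc : (⟨σ, hσs⟩ : ↥(alternatingGroup (Fin n))) ∈ Subgroup.center _ :=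
      Subgroup.mem_center_iff.2 fun a => mul_inv_eq_iff_eq_mul.1 (mul_inv_eq_one.1 (hall a))
    rcases IsSimpleGroup.eq_bot_or_eq_top_of_normal (Subgroup.center ↥(alternatingGroup (Fin n)))
      inferInstance with h' | h'
    · rw [h', Subgroup.mem_bot] at hc
      exact hσ ⟨0, by omega⟩ (congrFun (congrArg DFunLike.coe (congrArg Subtype.val hc)) _)
    · exact hnc ⟨⟨fun u v => (Subgroup.mem_center_iff.1 (h' ▸ Subgroup.mem_top v) u)⟩⟩
  exact ⟨a, _, ha, by simp only [map_mul, map_inv]⟩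

theorem no_nilpCover_perm_large {n : ℕ} (hn : 5 ≤ n)
    (𝓐 : Finset (Subgroup (Equiv.Perm (Fin (n + 1))))) : ¬ NilpCover 𝓐 := by
  obtain ⟨hsimp, hnc⟩ := alternating_not_comm hn
  obtain ⟨σ, hσ, hσs⟩ := exists_derangement (k := n) (by omega)
  refine no_nilpCover_of_simple_stab hnc ((embLast n).comp (alternatingGroup (Fin n)).subtype)
    (fun a b hab => Subtype.ext (Equiv.Perm.extendDomainHom_injective _ hab)) (Fin.last n)
    (fun s => embLast_last n _) (fun h => ?_) (embLast n σ) (embLast_last n σ)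
    (fun j hj => embLast_unique n hσ j hj) ?_ 𝓐
  · have h2 : Equiv.swap (Fin.last n) 0 • Fin.last n = Fin.last n :=
      (h ▸ Subgroup.mem_top _ : _ ∈ MulAction.stabilizer (Equiv.Perm (Fin (n + 1))) (Fin.last n))
    simp [Fin.ext_iff] at h2
    omega
  obtain ⟨a, ha⟩ : ∃ a : ↥(alternatingGroup (Fin n)), a * ⟨σ, hσs⟩ * a⁻¹ * (⟨σ, hσs⟩)⁻¹ ≠ 1 := by
    by_contra hall
    push Not at hall
    have hc : (⟨σ, hσs⟩ : ↥(alternatingGroup (Fin n))) ∈ Subgroup.center _ :=
      Subgroup.mem_center_iff.2 fun a => mul_inv_eq_iff_eq_mul.1 (mul_inv_eq_one.1 (hall a))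
    rcases IsSimpleGroup.eq_bot_or_eq_top_of_normal (Subgroup.center ↥(alternatingGroup (Fin n)))
      inferInstance with h' | h'
    · rw [h', Subgroup.mem_bot] at hc
      exact hσ ⟨0, by omega⟩ (congrFun (congrArg DFunLike.coe (congrArg Subtype.val hc)) _)
    · exact hnc ⟨⟨fun u v => (Subgroup.mem_center_iff.1 (h' ▸ Subgroup.mem_top v) u)⟩⟩
  exact ⟨a, _, ha, by simp only [map_mul, map_inv, MonoidHom.comp_apply, Subgroup.coe_subtype]⟩

end Cfsg.Agent.H85
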