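import Mathlib
import Cfsg.Agent.H85.PermCover

/-!
# No minimal covers by nilpotent subgroups: `A₅`, `S₄`, `S₅`
-/

set_option autoImplicit false
set_option linter.style.haveILetI false
set_option linter.unusedSectionVars false

open Equiv

namespace Cfsg.Agent.H85

theorem swap_mul_swap_mem {k : ℕ} {a b c d : Fin k} (h1 : a ≠ b) (h2 : c ≠ d) :
    swap a b * swap c d ∈ alternatingGroup (Fin k) := by
  simp [h1, h2]

/-- `(0 1 2)` on five points. -/
def c012 : ↥(alternatingGroup (Fin 5)) :=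
  ⟨swap 0 1 * swap 1 2, swap_mul_swap_mem (by decide) (by decide)⟩

/-- `(0 1 3)` on five points. -/
def c013 : ↥(alternatingGroup (Fin 5)) :=
  ⟨swap 0 1 * swap 1 3, swap_mul_swap_mem (by decide) (by decide)⟩

set_option maxRecDepth 20000 in
set_option maxHeartbeats 4000000 in
theorem a5_normalizer : ∀ x : ↥(alternatingGroup (Fin 5)), (x = c012 ∨ x = c013) →
    ∀ a : ↥(alternatingGroup (Fin 5)), (a * x * a⁻¹ = x ∨ a * x * a⁻¹ = x⁻¹) →
      (a = 1 ∨ a = x ∨ a = x⁻¹) ∨ (a * a = 1 ∧ a * x ≠ x * a) := by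
  rintro x (rfl | rfl) <;> decide

theorem no_nilpCover_a5 (𝓐 : Finset (Subgroup ↥(alternatingGroup (Fin 5)))) : ¬ NilpCover 𝓐 := by
  refine no_nilpCover_of_threes (x := c012) (y := c013) (orderOf_eq_prime (by decide) (by decide))
    (orderOf_eq_prime (by decide) (by decide)) (a5_normalizer _ (Or.inl rfl))
    (a5_normalizer _ (Or.inr rfl)) (MulAction.stabilizer _ (4 : Fin 5))
    (stabilizer_last_ne_top 4 (by norm_num)) ?_ ?_ (by decide) 𝓐
  all_goals
    rw [MulAction.mem_stabilizer_iff]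
    decide

/-- `(0 1 2)` on four points. -/
def d012 : Perm (Fin 4) := swap 0 1 * swap 1 2

/-- `(0 1 3)` on four points. -/
def d013 : Perm (Fin 4) := swap 0 1 * swap 1 3

set_option maxRecDepth 20000 in
set_option maxHeartbeats 4000000 in
theorem s4_normalizer : ∀ x : Perm (Fin 4), (x = d012 ∨ x = d013) →
    ∀ a : Perm (Fin 4), (a * x * a⁻¹ = x ∨ a * x * a⁻¹ = x⁻¹) →
      (a = 1 ∨ a = x ∨ a = x⁻¹) ∨ (a * a = 1 ∧ a * x ≠ x * a) := by
  rintro x (rfl | rfl) <;> decide

theorem no_nilpCover_s4 (𝓐 : Finset (Subgroup (Perm (Fin 4)))) : ¬ NilpCover 𝓐 := by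
  refine no_nilpCover_of_threes (x := d012) (y := d013) (orderOf_eq_prime (by decide) (by decide))
    (orderOf_eq_prime (by decide) (by decide)) (s4_normalizer _ (Or.inl rfl))
    (s4_normalizer _ (Or.inr rfl)) (alternatingGroup (Fin 4)) (fun h => ?_)
    (swap_mul_swap_mem (by decide) (by decide)) (swap_mul_swap_mem (by decide) (by decide))
    (by decide) 𝓐
  have h1 : swap (0 : Fin 4) 1 ∈ alternatingGroup (Fin 4) := h ▸ Subgroup.mem_top _
  simp at h1

/-- `(0 1 2 3)` on five points. -/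
def q0123 : Perm (Fin 5) := swap 0 1 * (swap 1 2 * swap 2 3)

/-- `(0 1 3 2)` on five points. -/
def q0132 : Perm (Fin 5) := swap 0 1 * (swap 1 3 * swap 3 2)

set_option maxRecDepth 20000 in
set_option maxHeartbeats 4000000 in
theorem no_nilpCover_s5 (𝓐 : Finset (Subgroup (Perm (Fin 5)))) : ¬ NilpCover 𝓐 := by
  intro h
  have hne : MulAction.stabilizer (Perm (Fin 5)) (4 : Fin 5) ≠ ⊤ := by
    intro hh
    have h2 : swap (4 : Fin 5) 0 • (4 : Fin 5) = 4 :=
      (hh ▸ Subgroup.mem_top _ : _ ∈ MulAction.stabilizer (Perm (Fin 5)) (4 : Fin 5))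
    simp at h2
  have hx : ∀ ω : Fin 5, q0123 • ω = ω → ω = 4 := by decide
  have hy : ∀ ω : Fin 5, q0132 • ω = ω → ω = 4 := by decide
  obtain ⟨A, hA, hxA, hyA⟩ := h.exists_common hne (x := q0123) (y := q0132)
    (fun B _ hB hxB => le_stabilizer_of_unique_fixed hB hxB (by decide) hx)
    (fun B _ hB hyB => le_stabilizer_of_unique_fixed hB hyB (by decide) hy)
  have h3 : orderOf (q0123 * q0132) = 3 := orderOf_eq_prime (by decide) (by decide)
  have h4 : orderOf q0123 ∣ 4 := orderOf_dvd_of_pow_eq_one (by decide)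
  have hc := commute_of_coprime_nilpotent (h.2.2 A hA) (mul_mem hxA hyA) hxA
    (Nat.Coprime.coprime_dvd_right h4 (by rw [h3]; norm_num))
  exact absurd hc.eq (by decide)

end Cfsg.Agent.H85
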